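import Mathlib

/-!
Arithmetic of the factors of the order of the small Ree group.
-/

set_option autoImplicit false

namespace Cfsg.Agent.Lib.Ree

/-- `q = 3^(2m+1)`. -/
abbrev qq (m : ℕ) : ℕ := 3 ^ (2 * m + 1)

/-- `q² - q + 1`. -/
abbrev tT (m : ℕ) : ℕ := qq m * qq m + 1 - qq m

lemma qq_mod_eight (m : ℕ) : ∃ k, qq m = 8 * k + 3 := by
  induction m with
  | zero => exact ⟨0, rfl⟩
  | succ n ih =>
    obtain ⟨k, hk⟩ := ih
    exact ⟨9 * k + 3, by rw [qq, show 2 * (n + 1) + 1 = 2 * n + 1 + 2 by ring, pow_add, ← qq, hk]; ring⟩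

lemma qq_ge (m : ℕ) : 3 ≤ qq m := by
  obtain ⟨k, hk⟩ := qq_mod_eight m; omega

lemma qq_ge27 {m : ℕ} (hm : 1 ≤ m) : 27 ≤ qq m :=
  le_trans (by norm_num) (Nat.pow_le_pow_right (by norm_num : 0 < 3) (show 3 ≤ 2 * m + 1 by omega))

lemma qq_le_sq (m : ℕ) : qq m ≤ qq m * qq m := Nat.le_mul_self _

lemma tT_add (m : ℕ) : tT m + qq m = qq m * qq m + 1 :=
  Nat.sub_add_cancel (le_trans (qq_le_sq m) (Nat.le_succ _))

lemma three_dvd_qq (m : ℕ) : 3 ∣ qq m := dvd_pow_self 3 (by omega)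

lemma cube_add_one (m : ℕ) : qq m ^ 3 + 1 = (qq m + 1) * tT m := by
  have h := tT_add m
  generalize tT m = T at h ⊢
  generalize qq m = Q at h ⊢
  zify at h ⊢
  linear_combination -((Q : ℤ) + 1) * h

/-- `|G| = q³(q-1)(q+1)T`. -/
lemma order_factor (m : ℕ) : qq m ^ 3 * (qq m - 1) * (qq m ^ 3 + 1) = qq m ^ 3 * (qq m - 1) * (qq m + 1) * tT m := by
  rw [cube_add_one]; ring

lemma tT_odd (m : ℕ) : Odd (tT m) := by
  obtain ⟨k, hk⟩ := qq_mod_eight m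
  have h := tT_add m
  rw [hk] at h
  refine ⟨32 * k * k + 20 * k + 3, ?_⟩
  nlinarith [h]

lemma not_three_dvd_tT (m : ℕ) : ¬ 3 ∣ tT m := by
  have h := tT_add m
  obtain ⟨c, hc⟩ := three_dvd_qq m
  rintro ⟨d, hd⟩
  rw [hd, hc, show 3 * c * (3 * c) = 3 * (c * (3 * c)) by ring] at h
  omega

lemma not_three_dvd_qq_pm (m : ℕ) : ¬ 3 ∣ qq m - 1 ∧ ¬ 3 ∣ qq m + 1 := by
  obtain ⟨c, hc⟩ := three_dvd_qq m
  have := qq_ge m
  rw [hc] at this ⊢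
  omega

/-- A common prime of two of the factors is `2`. -/
lemma prime_factors_apart (m : ℕ) {p : ℕ} (hp : p.Prime) (hp2 : p ≠ 2) :
    ¬ (p ∣ qq m - 1 ∧ p ∣ qq m + 1) ∧ ¬ (p ∣ qq m - 1 ∧ p ∣ tT m) ∧ ¬ (p ∣ qq m + 1 ∧ p ∣ tT m) := by
  have hq : 1 ≤ qq m := le_trans (by norm_num) (qq_ge m)
  have h := tT_add m
  have h3T := not_three_dvd_tT m
  generalize tT m = T at h h3T ⊢
  generalize qq m = Q at h hq ⊢
  zify at h
  have hcast : ∀ n : ℕ, p ∣ n → (p : ℤ) ∣ n := fun n h => Int.natCast_dvd_natCast.2 h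
  have e1 : ((Q - 1 : ℕ) : ℤ) = (Q : ℤ) - 1 := by push_cast [Nat.cast_sub hq]; ring
  refine ⟨fun ⟨a, b⟩ => ?_, fun ⟨a, b⟩ => ?_, fun ⟨a, b⟩ => ?_⟩
  · have := Nat.dvd_sub b a
    rw [show Q + 1 - (Q - 1) = 2 by omega] at this
    exact hp2 ((Nat.prime_dvd_prime_iff_eq hp Nat.prime_two).1 this)
  · have a' := hcast _ a
    rw [e1] at a'
    have h1 : (p : ℤ) ∣ 1 := by
      have e : (1 : ℤ) = (T : ℤ) - ((Q : ℤ) - 1) * Q := by linear_combination -h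
      rw [e]
      exact dvd_sub (hcast _ b) (dvd_mul_of_dvd_left a' _)
    exact hp.one_lt.ne' (Nat.dvd_one.1 (by exact_mod_cast h1))
  · have a' := hcast _ a
    push_cast at a'
    have h1 : (p : ℤ) ∣ 3 := by
      have e : (3 : ℤ) = (T : ℤ) - ((Q : ℤ) + 1) * ((Q : ℤ) - 2) := by linear_combination -h
      rw [e]
      exact dvd_sub (hcast _ b) (dvd_mul_of_dvd_left a' _)
    have h3 : p = 3 := (Nat.prime_dvd_prime_iff_eq hp Nat.prime_three).1 (by exact_mod_cast h1)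
    exact h3T (h3 ▸ b)

/-- `(q-1)/2` is odd. -/
lemma half_qq_odd (m : ℕ) : ∃ k, qq m - 1 = 2 * (2 * k + 1) ∧ (qq m - 1) / 2 = 2 * k + 1 := by
  obtain ⟨k, hk⟩ := qq_mod_eight m
  exact ⟨2 * k, by omega, by omega⟩

/-- `(q+1)/4` is odd. -/
lemma quarter_qq_odd (m : ℕ) :
    ∃ k, qq m + 1 = 4 * (2 * k + 1) ∧ (qq m + 1) / 2 = 2 * (2 * k + 1) ∧ (qq m + 1) / 4 = 2 * k + 1 := by
  obtain ⟨k, hk⟩ := qq_mod_eight m
  exact ⟨k, by omega, by omega, by omega⟩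

/-- The 2-part of the order. -/
lemma two_part (m : ℕ) : ∃ r, Odd r ∧ qq m * (qq m - 1) * (qq m + 1) = 8 * r ∧
    qq m ^ 3 * (qq m - 1) * (qq m ^ 3 + 1) = 8 * (r * (qq m * qq m * tT m)) := by
  obtain ⟨k, hk, -⟩ := half_qq_odd m
  obtain ⟨l, hl, -⟩ := quarter_qq_odd m
  refine ⟨qq m * (2 * k + 1) * (2 * l + 1), ?_, ?_, ?_⟩
  · exact (((by decide : Odd 3).pow).mul ⟨k, rfl⟩).mul ⟨l, rfl⟩
  · rw [hk, hl]; ring
  · rw [order_factor, hk, hl]; ring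

end Cfsg.Agent.Lib.Ree
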