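import Cfsg.Agent.Lib.LieTwisted.ReeGroup

/-!
The small Ree group as an abstract group: Bruhat coordinates, centralisers of diagonal elements
and of non-trivial elements of `U¹`, orders of elements of `B¹`.
-/

set_option autoImplicit false
set_option linter.unusedSectionVars false

namespace Cfsg.Agent.Lib.Ree

open Cfsg.Lie
open Cfsg.Agent.Lib.LieTwisted Cfsg.Agent.Lib.LieTwisted.Ree Cfsg.Agent.Lib.ChevStructure

/-- The small Ree group. -/
abbrev G (K : Type*) [Field K] (m : ℕ) : Type _ := ↥(Cfsg.Lie.twistedG2 K (3 ^ m))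

variable {K : Type*} [Field K] [CharP K 3] [Fintype K] {m : ℕ} [hF : Fact (Fintype.card K = 3 ^ (2 * m + 1))]

/-- The element of `U¹` with given parameters. -/
noncomputable def gU (t u v : K) : G K m := ⟨reeU m t u v, reeU_mem m t u v⟩

/-- The element of `H¹` with parameter `y`. -/
noncomputable def gH : Kˣ →* G K m :=
  MonoidHom.mk' (fun y => ⟨hy m y, hy_mem hF.out y⟩) fun a b => Subtype.ext (hy_mul m a b).symm

lemma gU_val (t u v : K) : ((gU t u v : G K m) : GL chevG2.Idx K) = reeU m t u v := rfl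
lemma gH_val (y : Kˣ) : ((gH y : G K m) : GL chevG2.Idx K) = hy m y := rfl
lemma w0_val : ((w0 m : G K m) : GL chevG2.Idx K) = n0 := rfl

lemma gH_injective : Function.Injective (gH : Kˣ → G K m) :=
  fun _ _ h => hy_inj (congrArg Subtype.val h)

lemma gU_inj {t u v t' u' v' : K} (h : (gU t u v : G K m) = gU t' u' v') : t = t' ∧ u = u' ∧ v = v' :=
  reeU_inj (congrArg Subtype.val h)

lemma gU_zero : (gU 0 0 0 : G K m) = 1 := Subtype.ext (reeU_zero m)

/-- Scale factor on the first coordinate. -/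
noncomputable def scA (m : ℕ) (y : Kˣ) : K := (y : K) ^ 2 / ((y : K) ^ 3 ^ m) ^ 3
/-- Scale factor on the second coordinate. -/
noncomputable def scB (m : ℕ) (y : Kˣ) : K := ((y : K) ^ 3 ^ m) ^ 3 / (y : K)

omit hF in
lemma odd_pow (m : ℕ) : Odd ((3 : ℕ) ^ m) := (by decide : Odd 3).pow

omit hF in
lemma scA_neg_one : scA (K := K) m (-1) = -1 := by
  simp only [scA, Units.val_neg, Units.val_one, (odd_pow m).neg_one_pow]
  norm_num

omit hF in
lemma scB_neg_one : scB (K := K) m (-1) = 1 := by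
  simp only [scB, Units.val_neg, Units.val_one, (odd_pow m).neg_one_pow]
  norm_num

lemma scales_ne {y : Kˣ} (h1 : y ≠ 1) (h2 : y ≠ -1) :
    scA (K := K) m y ≠ 1 ∧ scB (K := K) m y ≠ 1 ∧ (y : K) ≠ 1 := by
  have hy1 : (y : K) ≠ 1 := fun e => h1 (Units.ext e)
  have hy2 : (y : K) ≠ -1 := fun e => h2 (Units.ext e)
  have hx : (((y : K) ^ 3 ^ m) ^ 3) ^ 3 ^ m = y := by
    rw [← pow_mul, ← pow_mul, show 3 ^ m * (3 * 3 ^ m) = 3 * (3 ^ m * 3 ^ m) by ring, pow_q hF.out]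
  exact ⟨(scale_ne hx hy1 hy2).1, (scale_ne hx hy1 hy2).2, hy1⟩

lemma gH_gU (y : Kˣ) (t u v : K) :
    (gH y : G K m) * gU t u v = gU (scA m y * t) (scB m y * u) ((y : K) * v) * gH y :=
  Subtype.ext (hy_reeU hF.out y t u v)

lemma gH_conj_gU (y : Kˣ) (t u v : K) :
    (gH y : G K m) * gU t u v * (gH y)⁻¹ = gU (scA m y * t) (scB m y * u) ((y : K) * v) := by
  rw [gH_gU, mul_inv_cancel_right]

lemma a_gU (t u v : K) : (gH (-1) : G K m) * gU t u v = gU (-t) u (-v) * gH (-1) := by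
  rw [gH_gU, scA_neg_one, scB_neg_one]
  simp

lemma w0_gH (y : Kˣ) : (w0 m : G K m) * gH y = gH y⁻¹ * w0 m := Subtype.ext (n0_conj_hy y)

lemma gH_w0 (y : Kˣ) : (gH y : G K m) * w0 m = w0 m * gH y⁻¹ := by rw [w0_gH, inv_inv]

lemma gU_mul_exists (t u v t' u' v' : K) :
    ∃ a b : K, (gU t u v : G K m) * gU t' u' v' = gU (t + t') a b := by
  obtain ⟨t'', a, b, h⟩ := (mem_pos_twisted hF.out _).1
    (mul_mem ((mem_pos_twisted hF.out _).2 ⟨t, u, v, rfl⟩) ((mem_pos_twisted hF.out _).2 ⟨t', u', v', rfl⟩))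
  have ht : t'' = t + t' := by
    have h' := h.symm
    rw [reeU, reeU, reeU, ordP_mul] at h'
    exact (ordP_inj h').2.1
  exact ⟨a, b, Subtype.ext (ht ▸ h)⟩

lemma gU0_mul (u v u' v' : K) : (gU 0 u v : G K m) * gU 0 u' v' = gU 0 (u + u') (v + v') :=
  Subtype.ext (reeU0_mul hF.out u v u' v')

lemma gU0_inv (u v : K) : (gU 0 u v : G K m)⁻¹ = gU 0 (-u) (-v) :=
  inv_eq_of_mul_eq_one_right (by rw [gU0_mul, add_neg_cancel, add_neg_cancel, gU_zero])

lemma gU_mem_U1 (t u v : K) : (gU t u v : G K m) ∈ U1 (K := K) m :=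
  (mem_pos_twisted hF.out _).2 ⟨t, u, v, rfl⟩

lemma mem_U1 {x : G K m} : x ∈ U1 (K := K) m ↔ ∃ t u v : K, x = gU t u v := by
  constructor
  · intro h
    obtain ⟨t, u, v, e⟩ := (mem_pos_twisted hF.out x.1).1 h
    exact ⟨t, u, v, Subtype.ext e⟩
  · rintro ⟨t, u, v, rfl⟩
    exact gU_mem_U1 t u v

lemma gU_inv_exists (t u v : K) : ∃ a b : K, (gU t u v : G K m)⁻¹ = gU (-t) a b := by
  obtain ⟨t', a, b, h⟩ := mem_U1.1 (inv_mem (gU_mem_U1 (m := m) t u v))
  obtain ⟨c, d, e⟩ := gU_mul_exists (m := m) t u v t' a b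
  rw [← h, mul_inv_cancel, ← gU_zero] at e
  obtain rfl : t' = -t := by linear_combination -(gU_inj e).1
  exact ⟨a, b, h⟩

lemma U1_le_B1 : U1 (K := K) m ≤ B1 m := fun x hx => mem_B1.2 (pos_le_borel hx.1)

lemma gU_mem_B1 (t u v : K) : (gU t u v : G K m) ∈ B1 (K := K) m := U1_le_B1 (gU_mem_U1 t u v)

lemma gH_mem_B1 (y : Kˣ) : (gH y : G K m) ∈ B1 (K := K) m := hy_conj_B1 hF.out y

lemma mem_B1_iff {g : G K m} : g ∈ B1 (K := K) m ↔ ∃ (t u v : K) (y : Kˣ), g = gU t u v * gH y := by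
  constructor
  · intro h
    obtain ⟨t, u, v, y, e⟩ := (borel_twisted hF.out g.1).1 ⟨mem_B1.1 h, g.2⟩
    exact ⟨t, u, v, y, Subtype.ext e⟩
  · rintro ⟨t, u, v, y, rfl⟩
    exact mul_mem (gU_mem_B1 t u v) (gH_mem_B1 y)

/-- Bruhat decomposition. -/
lemma gcases (g : G K m) :
    (∃ (t u v : K) (y : Kˣ), g = gU t u v * gH y) ∨
      ∃ (t u v : K) (y : Kˣ) (t' u' v' : K), g = gU t u v * gH y * w0 m * gU t' u' v' := by
  rcases twisted_bruhat hF.out g.2 with ⟨t, u, v, y, h⟩ | ⟨t, u, v, y, t', u', v', h⟩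
  · exact Or.inl ⟨t, u, v, y, Subtype.ext h⟩
  · exact Or.inr ⟨t, u, v, y, t', u', v', Subtype.ext h⟩

lemma small_inj {t u v t' u' v' : K} {y y' : Kˣ} (h : (gU t u v * gH y : G K m) = gU t' u' v' * gH y') :
    (t = t' ∧ u = u' ∧ v = v') ∧ y = y' :=
  reeU_hy_inj (congrArg Subtype.val h)

lemma big_inj {t u v t' u' v' a b c a' b' c' : K} {y y' : Kˣ}
    (h : (gU t u v * gH y * w0 m * gU a b c : G K m) = gU t' u' v' * gH y' * w0 m * gU a' b' c') :
    ((t = t' ∧ u = u' ∧ v = v') ∧ y = y') ∧ (a = a' ∧ b = b' ∧ c = c') := by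
  obtain ⟨e1, e2⟩ := big_cell_unique (borelElt_mem _ _ _ _) (borelElt_mem _ _ _ _) (reeU_mem_pos m _ _ _)
    (reeU_mem_pos m _ _ _) (congrArg Subtype.val h)
  exact ⟨reeU_hy_inj e1, reeU_inj e2⟩

lemma big_not_B1 (t u v : K) (y : Kˣ) (a b c : K) :
    (gU t u v * gH y * w0 m * gU a b c : G K m) ∉ B1 (K := K) m :=
  fun h => cell_not_borel t u v y a b c (mem_B1.1 h)

/-- A non-trivial element of `U¹` cannot be moved into `B¹` from outside `B¹`. -/
lemma conj_not_B1 {g x : G K m} (hg : g ∉ B1 (K := K) m) (hx : x ∈ U1 (K := K) m)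
    (h : g * x * g⁻¹ ∈ B1 (K := K) m) : x = 1 := by
  rcases gcases g with ⟨t, u, v, y, rfl⟩ | ⟨t, u, v, y, a, b, c, rfl⟩
  · exact absurd (mem_B1_iff.2 ⟨t, u, v, y, rfl⟩) hg
  · set z := (gU a b c : G K m) * x * (gU a b c)⁻¹ with hz
    have hzU : z ∈ U1 (K := K) m := mul_mem (mul_mem (gU_mem_U1 a b c) hx) (inv_mem (gU_mem_U1 a b c))
    have hp : (gU t u v * gH y : G K m) ∈ B1 (K := K) m := mem_B1_iff.2 ⟨t, u, v, y, rfl⟩
    have h2 : w0 m * z * w0 m ∈ B1 (K := K) m := by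
      have := mul_mem (mul_mem (inv_mem hp) h) hp
      convert this using 1
      rw [hz]
      conv_lhs => rhs; rw [← w0_inv]
      group
    have h3 : z = 1 := Subtype.ext (borel_inf_opp hzU.1 (mem_B1.1 h2))
    calc x = (gU a b c : G K m)⁻¹ * z * gU a b c := by rw [hz]; group
      _ = 1 := by rw [h3]; group

lemma centralizer_U_le_B1 {g x : G K m} (hx : x ∈ U1 (K := K) m) (hx1 : x ≠ 1) (h : g * x = x * g) :
    g ∈ B1 (K := K) m := by
  by_contra hg
  exact hx1 (conj_not_B1 hg hx (by rw [h, mul_inv_cancel_right]; exact U1_le_B1 hx))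

/-- The centraliser of a diagonal element other than `±1` is the diagonal subgroup. -/
theorem centralizer_gH {y : Kˣ} (h1 : y ≠ 1) (h2 : y ≠ -1) :
    Subgroup.centralizer {(gH y : G K m)} = (gH : Kˣ →* G K m).range := by
  refine le_antisymm (fun g hg => ?_) ?_
  · have hc : (gH y : G K m) * g = g * gH y := Subgroup.mem_centralizer_iff.1 hg _ rfl
    obtain ⟨hA, hB, hC⟩ := scales_ne (m := m) h1 h2
    rcases gcases g with ⟨t, u, v, z, rfl⟩ | ⟨t, u, v, z, a, b, c, rfl⟩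
    · rw [← mul_assoc, gH_gU, mul_assoc, mul_assoc, ← map_mul, ← map_mul] at hc
      obtain ⟨⟨e1, e2, e3⟩, -⟩ := small_inj hc
      obtain rfl : t = 0 := by by_contra h0; exact hA ((mul_left_eq_self₀.1 e1).resolve_right h0)
      obtain rfl : u = 0 := by by_contra h0; exact hB ((mul_left_eq_self₀.1 e2).resolve_right h0)
      obtain rfl : v = 0 := by by_contra h0; exact hC ((mul_left_eq_self₀.1 e3).resolve_right h0)
      exact ⟨z, by rw [gU_zero, one_mul]⟩
    · exfalso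
      have el : (gH y : G K m) * (gU t u v * gH z * w0 m * gU a b c) =
          gU (scA m y * t) (scB m y * u) ((y : K) * v) * gH (y * z) * w0 m * gU a b c := by
        simp only [← mul_assoc, gH_gU, map_mul]
      have e' : (gH y⁻¹ : G K m) * gU a b c * gH y =
          gU (scA m y⁻¹ * a) (scB m y⁻¹ * b) ((y⁻¹ : Kˣ) * c) := by
        rw [gH_gU, mul_assoc, ← map_mul, inv_mul_cancel, map_one, mul_one]
      have er : (gU t u v * gH z * w0 m * gU a b c : G K m) * gH y =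
          gU t u v * gH (z * y⁻¹) * w0 m * gU (scA m y⁻¹ * a) (scB m y⁻¹ * b) ((y⁻¹ : Kˣ) * c) := by
        rw [← e', map_mul]
        simp only [← mul_assoc]
        rw [show (gU t u v * gH z * gH y⁻¹ * w0 m * gH y⁻¹ : G K m) = gU t u v * gH z * gH y⁻¹ * (w0 m * gH y⁻¹) by
          simp only [mul_assoc], w0_gH, inv_inv, ← mul_assoc]
        rw [show (gU t u v * gH z * gH y⁻¹ * gH y : G K m) = gU t u v * gH z by simp [map_inv, mul_assoc]]
      obtain ⟨⟨-, e⟩, -⟩ := big_inj (el.symm.trans (hc.trans er))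
      rw [mul_comm z] at e
      have e2 : y = y⁻¹ := mul_right_cancel e
      have e3 : (y : K) * y = 1 := by
        conv_lhs => rhs; rw [e2]
        exact Units.mul_inv y
      rcases mul_self_eq_one_iff.1 e3 with h | h
      · exact h1 (Units.ext h)
      · exact h2 (Units.ext h)
  · rintro _ ⟨z, rfl⟩
    rw [Subgroup.mem_centralizer_iff]
    rintro _ rfl
    rw [← map_mul, ← map_mul, mul_comm]

lemma card_K : Nat.card K = 3 ^ (2 * m + 1) := by rw [Nat.card_eq_fintype_card, hF.out]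

lemma card_units_K : Nat.card Kˣ = 3 ^ (2 * m + 1) - 1 := by
  rw [Nat.card_units, card_K (m := m)]

lemma card_gH_range : Nat.card ↥((gH : Kˣ →* G K m).range) = 3 ^ (2 * m + 1) - 1 := by
  rw [← card_units_K (K := K) (m := m)]
  exact Nat.card_congr (MonoidHom.ofInjective gH_injective).toEquiv.symm

/-- Every element of `U¹ h` for regular `h` is conjugate to `h`. -/
lemma conj_regular {y : Kˣ} (h1 : y ≠ 1) (h2 : y ≠ -1) (t u v : K) :
    IsConj (gU t u v * gH y : G K m) (gH y) := by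
  let f : U1 (K := K) m → U1 (K := K) m := fun x =>
    ⟨(x : G K m) * (gH y * (x : G K m)⁻¹ * (gH y)⁻¹), by
      refine mul_mem x.2 ?_
      obtain ⟨a, b, c, e⟩ := mem_U1.1 (inv_mem x.2)
      rw [e, gH_conj_gU]
      exact gU_mem_U1 _ _ _⟩
  have hf : Function.Injective f := by
    intro x x' h
    have h' : (x : G K m) * (gH y * (x : G K m)⁻¹ * (gH y)⁻¹) =
        (x' : G K m) * (gH y * (x' : G K m)⁻¹ * (gH y)⁻¹) := congrArg Subtype.val h
    have hc : (x' : G K m)⁻¹ * (x : G K m) ∈ Subgroup.centralizer {(gH y : G K m)} := by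
      rw [Subgroup.mem_centralizer_iff]
      rintro _ rfl
      have h'' : (x : G K m) * gH y * (x : G K m)⁻¹ = (x' : G K m) * gH y * (x' : G K m)⁻¹ := by
        have := congrArg (· * gH y) h'
        simpa [mul_assoc] using this
      have := congrArg (fun z => (x' : G K m)⁻¹ * z * x) h''
      simpa [mul_assoc] using this.symm
    rw [centralizer_gH h1 h2] at hc
    obtain ⟨z, hz⟩ := hc
    obtain ⟨a, b, c, e⟩ := mem_U1.1 (mul_mem (inv_mem x'.2) x.2)
    have h0 : (gU 0 0 0 * gH z : G K m) = gU a b c * gH 1 := by rw [gU_zero, one_mul, map_one, mul_one, ← e, hz]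
    obtain ⟨⟨rfl, rfl, rfl⟩, -⟩ := small_inj h0
    rw [gU_zero, inv_mul_eq_one] at e
    exact Subtype.ext e.symm
  obtain ⟨x, hx⟩ := (Finite.injective_iff_surjective.1 hf) ⟨gU t u v, gU_mem_U1 t u v⟩
  have hx' : (x : G K m) * (gH y * (x : G K m)⁻¹ * (gH y)⁻¹) = gU t u v := congrArg Subtype.val hx
  refine (isConj_iff.2 ⟨(x : G K m), ?_⟩).symm
  rw [← hx']
  group

lemma gU_pow_three_zero (u v : K) : (gU 0 u v : G K m) ^ 3 = 1 := by
  apply Subtype.ext
  rw [SubgroupClass.coe_pow, OneMemClass.coe_one, gU_val]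
  exact (reeU_cube_eq_one hF.out).2 rfl

lemma gU_pow_nine (t u v : K) : (gU t u v : G K m) ^ 9 = 1 := by
  obtain ⟨a, b, h⟩ := gU_mul_exists (m := m) t u v t u v
  obtain ⟨c, d, h'⟩ := gU_mul_exists (m := m) (t + t) a b t u v
  have h3 : t + t + t = 0 := by
    have : (3 : K) = 0 := CharP.cast_eq_zero K 3
    linear_combination t * this
  rw [show 9 = 3 * 3 from rfl, pow_mul, pow_three' (gU t u v), h, h', h3, gU_pow_three_zero]

lemma a_sq : (gH (-1) : G K m) * gH (-1) = 1 := by rw [← map_mul]; simp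

lemma gU_a_sq (t u v : K) : ∃ u' v', (gU t u v * gH (-1) : G K m) ^ 2 = gU 0 u' v' := by
  obtain ⟨a, b, h⟩ := gU_mul_exists (m := m) t u v (-t) u (-v)
  refine ⟨a, b, ?_⟩
  rw [pow_two, mul_assoc, ← mul_assoc (gH (-1)), a_gU, mul_assoc, a_sq, mul_one, h, add_neg_cancel]

lemma gU_a_pow_six (t u v : K) : (gU t u v * gH (-1) : G K m) ^ 6 = 1 := by
  obtain ⟨u', v', h⟩ := gU_a_sq (m := m) t u v
  rw [show 6 = 2 * 3 from rfl, pow_mul, h, gU_pow_three_zero]

lemma gH_pow_card (y : Kˣ) : (gH y : G K m) ^ (3 ^ (2 * m + 1) - 1) = 1 := by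
  rw [← map_pow, ← card_units_K (K := K) (m := m), pow_card_eq_one', map_one]

/-- The possible orders of elements of `B¹`. -/
theorem orderOf_B1 {g : G K m} (hg : g ∈ B1 (K := K) m) :
    orderOf g ∣ 6 ∨ orderOf g ∣ 9 ∨ ∃ y : Kˣ, y ≠ 1 ∧ y ≠ -1 ∧ IsConj g (gH y) := by
  obtain ⟨t, u, v, y, rfl⟩ := mem_B1_iff.1 hg
  by_cases h1 : y = 1
  · subst h1
    exact Or.inr (Or.inl (orderOf_dvd_of_pow_eq_one (by rw [map_one, mul_one, gU_pow_nine])))
  by_cases h2 : y = -1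
  · subst h2
    exact Or.inl (orderOf_dvd_of_pow_eq_one (gU_a_pow_six t u v))
  exact Or.inr (Or.inr ⟨y, h1, h2, conj_regular h1 h2 t u v⟩)

/-- The centraliser of a non-trivial element of `U¹` lies in `U¹⟨a⟩`. -/
theorem centralizer_gU {x g : G K m} (hx : x ∈ U1 (K := K) m) (hx1 : x ≠ 1) (h : g * x = x * g) :
    ∃ t u v : K, g = gU t u v ∨ g = gU t u v * gH (-1) := by
  obtain ⟨t, u, v, y, rfl⟩ := mem_B1_iff.1 (centralizer_U_le_B1 hx hx1 h)
  by_cases h1 : y = 1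
  · exact ⟨t, u, v, Or.inl (by rw [h1, map_one, mul_one])⟩
  by_cases h2 : y = -1
  · exact ⟨t, u, v, Or.inr (by rw [h2])⟩
  exfalso
  obtain ⟨c, hc⟩ := isConj_iff.1 (conj_regular (m := m) h1 h2 t u v)
  have hcx : c * x * c⁻¹ ∈ Subgroup.centralizer {(gH y : G K m)} := by
    rw [Subgroup.mem_centralizer_iff]
    rintro _ rfl
    rw [← hc]
    calc c * (gU t u v * gH y) * c⁻¹ * (c * x * c⁻¹) = c * (gU t u v * gH y * x) * c⁻¹ := by group
      _ = c * (x * (gU t u v * gH y)) * c⁻¹ := by rw [h]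
      _ = _ := by group
  rw [centralizer_gH h1 h2] at hcx
  obtain ⟨z, hz⟩ := hcx
  -- the order of `x` is prime to that of every diagonal element
  obtain ⟨a, b, d, rfl⟩ := mem_U1.1 hx
  have h9 : (gH z : G K m) ^ 9 = 1 := by
    rw [hz, conj_pow, gU_pow_nine, mul_one, mul_inv_cancel]
  have hcop : Nat.Coprime 9 (3 ^ (2 * m + 1) - 1) := by
    rw [show 9 = 3 ^ 2 from rfl]
    refine Nat.Coprime.pow_left 2 ((Nat.Prime.coprime_iff_not_dvd Nat.prime_three).2 ?_)
    have h3 : 3 ∣ 3 ^ (2 * m + 1) := dvd_pow_self 3 (by omega)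
    have : 1 ≤ 3 ^ (2 * m + 1) := Nat.one_le_pow _ _ (by norm_num)
    omega
  have h0 : (gH z : G K m) = 1 := by
    have := pow_gcd_eq_one.2 ⟨h9, gH_pow_card (m := m) z⟩
    rwa [hcop, pow_one] at this
  rw [h0] at hz
  exact hx1 (conj_eq_one_iff.1 hz.symm)

end Cfsg.Agent.Lib.Ree
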