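import Cfsg.Agent.Lib.Ree.CountT

/-!
The two classes of tori of orders `q ± √(3q) + 1`.
-/

set_option autoImplicit false
set_option linter.unusedSectionVars false

open scoped Pointwise

namespace Cfsg.Agent.Lib.Ree

open Cfsg.Lie
open Cfsg.Agent.Lib.PSLTwo.Sylow (mem_normalizer_of_conj_mem)

variable {K : Type*} [Field K] [CharP K 3] [Fintype K] {m : ℕ} [hF : Fact (Fintype.card K = 3 ^ (2 * m + 1))]

variable (K m) in
/-- An element of prime order dividing `q² - q + 1`. -/
def IsTElt (x : G K m) : Prop := (orderOf x).Prime ∧ orderOf x ∣ tT m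

variable (K m) in
/-- The union of the conjugates of `C(x) ∖ 1`. -/
def classT (x : G K m) : Set (G K m) := conjUnion ⊤ ((Subgroup.centralizer {x} : Set (G K m)) \ {1})

lemma seven_le {p : ℕ} (hp : p.Prime) (hd : p ∣ tT m) : 7 ≤ p := by
  haveI := Fact.mk hp
  obtain ⟨-, -, hq, -, -⟩ := prime_dvd_tT_facts hp hd
  have h := ZMod.orderOf_dvd_card_sub_one (a := ((qq m : ℕ) : ZMod p)) (by rw [Ne, ZMod.natCast_eq_zero_iff]; exact hq)
  rw [orderOf_q_mod hp hd] at h
  have := hp.two_le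
  have := Nat.le_of_dvd (by omega) h
  omega

lemma classT_sub (hm : 1 ≤ m) {x : G K m} (hx : IsTElt K m x) : classT K m x ⊆ setT K m := by
  rintro g ⟨u, -, hu, hu1⟩
  refine ⟨fun h => hu1 (by rw [h, mul_one, mul_inv_cancel]; rfl), ?_⟩
  rw [← orderOf_conj' u g]
  exact (Subgroup.orderOf_dvd_natCard _ hu).trans (card_centralizer_T_dvd hm hx.1 hx.2 rfl)

lemma seven_le_card (hm : 1 ≤ m) {x : G K m} (hx : IsTElt K m x) : 7 ≤ Nat.card ↥(Subgroup.centralizer {x}) := by
  refine le_trans (seven_le hx.1 hx.2) (Nat.le_of_dvd Nat.card_pos ?_)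
  exact Subgroup.orderOf_dvd_natCard _ (Subgroup.mem_centralizer_singleton_iff.2 rfl)

theorem card_classT (hm : 1 ≤ m) {x : G K m} (hx : IsTElt K m x) :
    ∃ w, w ∣ 6 ∧
      Nat.card ↥(Subgroup.normalizer ((Subgroup.centralizer {x} : Subgroup (G K m)) : Set (G K m))) =
        Nat.card ↥(Subgroup.centralizer {x}) * w ∧
      (classT K m x).ncard * (Nat.card ↥(Subgroup.centralizer {x}) * w) =
        Nat.card (G K m) * (Nat.card ↥(Subgroup.centralizer {x}) - 1) := by
  obtain ⟨w, hw, hN⟩ := card_normalizer_T hm hx.1 hx.2 rfl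
  refine ⟨w, hw, hN, ?_⟩
  set N := Subgroup.normalizer ((Subgroup.centralizer {x} : Subgroup (G K m)) : Set (G K m))
  have h := conjUnion_top_card (N := N) (T := (Subgroup.centralizer {x} : Set (G K m)) \ {1})
    (fun g y hy h => mem_normalizer_of_conj_mem fun z hz => by
      show g * z * g⁻¹ ∈ Subgroup.centralizer {x}
      rw [← centralizer_T_eq hm hx.1 hx.2 rfl (show g * y * g⁻¹ ∈ Subgroup.centralizer {x} from h.1) h.2,
        Subgroup.mem_centralizer_singleton_iff, conj_mul, conj_mul]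
      rw [← centralizer_T_eq hm hx.1 hx.2 rfl (show y ∈ Subgroup.centralizer {x} from hy.1) hy.2,
        Subgroup.mem_centralizer_singleton_iff] at hz
      rw [hz])
    (fun n hn y hy => ⟨(Subgroup.mem_normalizer_iff.1 hn y).1 hy.1, fun h => hy.2 (conj_eq_one_iff.1 h)⟩)
  rw [hN, Set.ncard_sdiff (Set.singleton_subset_iff.2 (one_mem _)) (Set.toFinite _), Set.ncard_singleton,
    ← Nat.card_coe_set_eq (s := (Subgroup.centralizer {x} : Set (G K m)))] at h
  exact h

/-- Overlapping classes are equal. -/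
lemma classT_mono (hm : 1 ≤ m) {x y g : G K m} (hx : IsTElt K m x) (hy : IsTElt K m y)
    (h1 : g ∈ classT K m x) (h2 : g ∈ classT K m y) : classT K m y ⊆ classT K m x := by
  obtain ⟨u, -, hu, hu1⟩ := h1
  obtain ⟨v, -, hv, hv1⟩ := h2
  rintro z ⟨s, -, hs, hs1⟩
  refine ⟨u * v⁻¹ * s, Subgroup.mem_top _, ?_, fun h => hs1 (by
    rw [Set.mem_singleton_iff] at h ⊢
    rw [conj_eq_one_iff] at h
    rw [h, mul_one, mul_inv_cancel])⟩
  show (u * v⁻¹ * s) * z * (u * v⁻¹ * s)⁻¹ ∈ Subgroup.centralizer {x}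
  rw [← centralizer_T_eq hm hx.1 hx.2 rfl (show u * g * u⁻¹ ∈ Subgroup.centralizer {x} from hu) hu1,
    Subgroup.mem_centralizer_singleton_iff]
  have h := hs
  rw [SetLike.mem_coe, ← centralizer_T_eq hm hy.1 hy.2 rfl (show v * g * v⁻¹ ∈ Subgroup.centralizer {y} from hv) hv1,
    Subgroup.mem_centralizer_singleton_iff] at h
  calc u * v⁻¹ * s * z * (u * v⁻¹ * s)⁻¹ * (u * g * u⁻¹)
      = u * v⁻¹ * ((s * z * s⁻¹) * (v * g * v⁻¹)) * v * u⁻¹ := by group
    _ = u * v⁻¹ * ((v * g * v⁻¹) * (s * z * s⁻¹)) * v * u⁻¹ := by rw [h]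
    _ = _ := by group

lemma exists_TElt_not_mem (hm : 1 ≤ m) {U : Set (G K m)} (hne : ¬ setT K m ⊆ U)
    (hcl : ∀ {g : G K m}, g ∈ setT K m → ∀ k : ℕ, g ^ k ∈ U → g ∈ U) : ∃ y, IsTElt K m y ∧ y ∉ U := by
  obtain ⟨g, hg, hgU⟩ := Set.not_subset.1 hne
  obtain ⟨r, hr, hrd⟩ := Nat.exists_prime_and_dvd (n := orderOf g) fun h => hg.1 (orderOf_eq_one_iff.1 h)
  have hy : orderOf (g ^ (orderOf g / r)) = r := orderOf_pow_orderOf_div (orderOf_pos g).ne' hrd
  exact ⟨_, ⟨by rw [hy]; exact hr, by rw [hy]; exact hrd.trans hg.2⟩, fun h => hgU (hcl hg _ h)⟩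

lemma classT_closed (hm : 1 ≤ m) {x g : G K m} (hx : IsTElt K m x) (hg : g ∈ setT K m) (k : ℕ)
    (h : g ^ k ∈ classT K m x) : g ∈ classT K m x := by
  obtain ⟨u, -, hu, hu1⟩ := h
  refine isConj_mem_conjUnion u ⟨?_, fun e => hg.1 (conj_eq_one_iff.1 e)⟩
  show u * g * u⁻¹ ∈ Subgroup.centralizer {x}
  rw [← centralizer_T_eq hm hx.1 hx.2 rfl (show u * g ^ k * u⁻¹ ∈ Subgroup.centralizer {x} from hu) hu1]
  exact commute_pow_conj u g k

lemma self_mem_classT {x : G K m} (hx : IsTElt K m x) : x ∈ classT K m x := by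
  refine isConj_mem_conjUnion 1 ?_
  rw [one_mul, inv_one, mul_one]
  exact ⟨Subgroup.mem_centralizer_singleton_iff.2 rfl, fun h => by
    have := hx.1
    rw [Set.mem_singleton_iff.1 h, orderOf_one] at this
    exact Nat.not_prime_one this⟩

lemma exists_TElt (hm : 1 ≤ m) {r : ℕ} (hr : r.Prime) (hd : r ∣ tT m) : ∃ x : G K m, IsTElt K m x ∧ orderOf x = r := by
  haveI := Fact.mk hr
  obtain ⟨x, hx⟩ := exists_prime_orderOf_dvd_card' (G := G K m) r (by rw [card_G']; exact hd.mul_left _)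
  exact ⟨x, ⟨by rw [hx]; exact hr, by rw [hx]; exact hd⟩, hx⟩

lemma dvd_card_of_mem_classT {x y : G K m} (h : y ∈ classT K m x) :
    orderOf y ∣ Nat.card ↥(Subgroup.centralizer {x}) := by
  obtain ⟨u, -, hu, -⟩ := h
  rw [← orderOf_conj' u y]
  exact Subgroup.orderOf_dvd_natCard _ hu

/-- The density of a class. -/
lemma classT_weight (hm : 1 ≤ m) {x : G K m} (hx : IsTElt K m x) :
    ∃ w, w ∣ 6 ∧
      Nat.card ↥(Subgroup.normalizer ((Subgroup.centralizer {x} : Subgroup (G K m)) : Set (G K m))) =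
        Nat.card ↥(Subgroup.centralizer {x}) * w ∧
      (classT K m x).ncard * (Nat.card ↥(Subgroup.centralizer {x}) * w) =
        Nat.card (G K m) * (Nat.card ↥(Subgroup.centralizer {x}) - 1) ∧
      Nat.card (G K m) ≤ 7 * (classT K m x).ncard ∧ (w ≠ 6 → 2 * Nat.card (G K m) ≤ 7 * (classT K m x).ncard) := by
  obtain ⟨w, hw, hN, hS⟩ := card_classT hm hx
  have hc := seven_le_card hm hx
  refine ⟨w, hw, hN, hS, ?_, ?_⟩
  all_goals
    generalize Nat.card (G K m) = g at hS ⊢
    generalize (classT K m x).ncard = s at hS ⊢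
    generalize Nat.card ↥(Subgroup.centralizer {x}) = c at hS hc
    obtain ⟨c', rfl⟩ : ∃ c', c = c' + 1 := ⟨c - 1, by omega⟩
    rw [Nat.add_sub_cancel] at hS
  · have hw6 : w ≤ 6 := Nat.le_of_dvd (by norm_num) hw
    by_contra hlt
    nlinarith [Nat.mul_le_mul_left (s * (c' + 1)) hw6]
  · intro hw'
    have hw3 : w ≤ 3 := by
      have := Nat.le_of_dvd (by norm_num) hw
      rcases (by omega : w ≤ 3 ∨ w = 4 ∨ w = 5 ∨ w = 6) with h | rfl | rfl | rfl
      · exact h
      all_goals first | exact absurd rfl hw' | norm_num at hw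
    by_contra hlt
    nlinarith [Nat.mul_le_mul_left (s * (c' + 1)) hw3]

theorem two_classes (hm : 1 ≤ m) : ∃ x y : G K m, IsTElt K m x ∧ IsTElt K m y ∧
    Nat.card ↥(Subgroup.normalizer ((Subgroup.centralizer {x} : Subgroup (G K m)) : Set (G K m))) =
      Nat.card ↥(Subgroup.centralizer {x}) * 6 ∧
    Nat.card ↥(Subgroup.normalizer ((Subgroup.centralizer {y} : Subgroup (G K m)) : Set (G K m))) =
      Nat.card ↥(Subgroup.centralizer {y}) * 6 ∧
    Nat.card ↥(Subgroup.centralizer {x}) = qq m - 3 ^ (m + 1) + 1 ∧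
    Nat.card ↥(Subgroup.centralizer {y}) = qq m + 3 ^ (m + 1) + 1 ∧
    setT K m ⊆ classT K m x ∪ classT K m y := by
  classical
  have hT1 : 1 < tT m := by
    have h := tT_add m
    have := qq_ge27 hm
    have := Nat.mul_le_mul_right (qq m) (qq_ge27 hm)
    omega
  obtain ⟨r₁, hr₁, hd₁⟩ := Nat.exists_prime_and_dvd (n := tT m) (by omega)
  obtain ⟨x, hx, -⟩ := exists_TElt (K := K) hm hr₁ hd₁
  -- the basic inequality
  have hsmall : 3 * (setT K m).ncard < Nat.card (G K m) := by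
    have h := card_setT (K := K) hm
    rw [card_G']
    have hq := qq_ge m
    have hT := tT_add m
    generalize (setT K m).ncard = s at h ⊢
    generalize tT m = T at h hT ⊢
    generalize qq m = q at h hT hq ⊢
    zify [show 1 ≤ q by omega]
    rw [h]
    have hp : (0 : ℤ) < (q : ℤ) ^ 3 * ((q : ℤ) - 1) * ((q : ℤ) + 1) :=
      mul_pos (mul_pos (pow_pos (by omega) 3) (by omega)) (by omega)
    nlinarith
  obtain ⟨w₁, hw₁, hN₁, hS₁, hlo₁, hbig₁⟩ := classT_weight hm hx
  set c₁ := Nat.card ↥(Subgroup.centralizer {x}) with hc₁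
  have hsub₁ := classT_sub hm hx
  -- there is a second class
  have hne : ¬ setT K m ⊆ classT K m x := by
    intro hle
    have heq : classT K m x = setT K m := le_antisymm hsub₁ hle
    have hdiv : ∀ r, r.Prime → r ∣ tT m → r ^ (tT m).factorization r ∣ c₁ := by
      intro r hr hrd
      obtain ⟨z, hz, hzr⟩ := exists_TElt (K := K) hm hr hrd
      have hmem : z ∈ classT K m x := heq ▸ (classT_sub hm hz (self_mem_classT hz))
      exact centralizer_T_full hm hx.1 hx.2 rfl hr (hzr ▸ dvd_card_of_mem_classT hmem)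
    have hc : c₁ = tT m := by
      refine Nat.dvd_antisymm (card_centralizer_T_dvd hm hx.1 hx.2 rfl) ?_
      rw [Nat.dvd_iff_prime_pow_dvd_dvd]
      intro r k hr hk
      rcases Nat.eq_zero_or_pos k with rfl | hk0
      · simp
      · exact (pow_dvd_pow r ((hr.pow_dvd_iff_le_factorization (by omega)).1 hk)).trans
          (hdiv r hr ((dvd_pow_self r hk0.ne').trans hk))
    have h := card_setT (K := K) hm
    rw [← heq] at h
    rw [hc, card_G'] at hS₁
    have hT := tT_add m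
    have hq := qq_ge27 hm
    generalize (classT K m x).ncard = s at h hS₁
    generalize tT m = T at h hT hS₁ hT1
    generalize qq m = q at h hT hS₁ hq
    zify [show 1 ≤ q by omega, show 1 ≤ T by omega] at hS₁ hT
    have hT' : (T : ℤ) = q * q - q + 1 := by linear_combination hT
    have hpos : (q : ℤ) ^ 3 * ((q : ℤ) - 1) * ((q : ℤ) + 1) * T ≠ 0 := by
      refine mul_ne_zero (mul_ne_zero (mul_ne_zero (pow_ne_zero _ ?_) ?_) ?_) ?_ <;> omega
    have key : (w₁ : ℤ) * ((T : ℤ) - q - 1) = 3 * ((T : ℤ) - 1) := mul_left_cancel₀ hpos (by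
      linear_combination (-((T : ℤ) * w₁)) * h + 3 * hS₁)
    have hTq : (26 : ℤ) * q ≤ T := by rw [hT']; nlinarith
    have hw6 : w₁ ≤ 6 := Nat.le_of_dvd (by norm_num) hw₁
    rcases (by omega : w₁ ≤ 3 ∨ w₁ = 4 ∨ w₁ = 5 ∨ w₁ = 6) with hw | rfl | rfl | rfl
    · have : (w₁ : ℤ) ≤ 3 := by exact_mod_cast hw
      nlinarith
    · norm_num at hw₁
    · norm_num at hw₁
    · push_cast at key; nlinarith
  obtain ⟨y, hy, hyn⟩ := exists_TElt_not_mem hm hne (fun hg k h => classT_closed hm hx hg k h)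
  obtain ⟨w₂, hw₂, hN₂, hS₂, hlo₂, hbig₂⟩ := classT_weight hm hy
  set c₂ := Nat.card ↥(Subgroup.centralizer {y}) with hc₂
  have hdis : ∀ {z : G K m}, IsTElt K m z → y ∉ classT K m z → ∀ {v}, v ∈ classT K m z → v ∉ classT K m y :=
    fun hz hn v h1 h2 => hn (classT_mono hm hz hy h1 h2 (self_mem_classT hy))
  have hd12 : Disjoint (classT K m x) (classT K m y) := Set.disjoint_left.2 fun v h1 h2 => hdis hx hyn h1 h2
  have hsub₂ := classT_sub hm hy
  have hle : (classT K m x).ncard + (classT K m y).ncard ≤ (setT K m).ncard := by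
    rw [← Set.ncard_union_eq hd12]
    exact Set.ncard_le_ncard (Set.union_subset hsub₁ hsub₂) (Set.toFinite _)
  -- no third class
  have hcov : setT K m ⊆ classT K m x ∪ classT K m y := by
    by_contra hne'
    obtain ⟨z, hz, hzn⟩ := exists_TElt_not_mem hm hne' (fun hg k h => by
      rcases h with h | h
      · exact Or.inl (classT_closed hm hx hg k h)
      · exact Or.inr (classT_closed hm hy hg k h))
    obtain ⟨w₃, -, -, -, hlo₃, -⟩ := classT_weight hm hz
    have hd3 : Disjoint (classT K m x ∪ classT K m y) (classT K m z) := Set.disjoint_left.2 fun v h1 h2 => by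
      rcases h1 with h | h
      · exact hzn (Or.inl (classT_mono hm hx hz h h2 (self_mem_classT hz)))
      · exact hzn (Or.inr (classT_mono hm hy hz h h2 (self_mem_classT hz)))
    have hle3 : (classT K m x).ncard + (classT K m y).ncard + (classT K m z).ncard ≤ (setT K m).ncard := by
      rw [← Set.ncard_union_eq hd12, ← Set.ncard_union_eq hd3]
      exact Set.ncard_le_ncard (Set.union_subset (Set.union_subset hsub₁ hsub₂) (classT_sub hm hz)) (Set.toFinite _)
    omega
  have heq : (setT K m).ncard = (classT K m x).ncard + (classT K m y).ncard := by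
    rw [← Set.ncard_union_eq hd12]
    exact congrArg Set.ncard (le_antisymm hcov (Set.union_subset hsub₁ hsub₂))
  have hw1 : w₁ = 6 := by
    by_contra h
    have := hbig₁ h
    omega
  have hw2 : w₂ = 6 := by
    by_contra h
    have := hbig₂ h
    omega
  subst hw1 hw2
  -- the two orders are coprime and multiply to `T`
  have hcop : Nat.Coprime c₁ c₂ := by
    refine Nat.coprime_of_dvd fun r hr h1 h2 => hyn ?_
    haveI := Fact.mk hr
    obtain ⟨z, hz⟩ := exists_prime_orderOf_dvd_card' r h1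
    rw [← Subgroup.orderOf_coe] at hz
    have hz1 : (z : G K m) ≠ 1 := fun h => by rw [h, orderOf_one] at hz; exact hr.one_lt.ne hz
    obtain ⟨n, hn⟩ := Subgroup.card_subgroup_dvd_card (Subgroup.centralizer {y})
    have hrT : r ∣ tT m := h1.trans (card_centralizer_T_dvd hm hx.1 hx.2 rfl)
    have hrn : ¬ r ∣ n := by
      intro hrn
      have hfull := centralizer_T_full hm hy.1 hy.2 rfl hr h2
      rw [← hc₂, card_G'] at hn
      have h' : r ^ ((tT m).factorization r + 1) ∣ qq m ^ 3 * (qq m - 1) * (qq m + 1) * tT m := by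
        rw [hn, pow_succ]; exact Nat.mul_dvd_mul hfull hrn
      obtain ⟨-, -, hq, hqm, hqp⟩ := prime_dvd_tT_facts hr hrT
      have hco : Nat.Coprime (r ^ ((tT m).factorization r + 1)) (qq m ^ 3 * (qq m - 1) * (qq m + 1)) :=
        Nat.Coprime.pow_left _ (Nat.Coprime.mul_right (Nat.Coprime.mul_right
          (((hr.coprime_iff_not_dvd).2 hq).pow_right 3) ((hr.coprime_iff_not_dvd).2 hqm))
          ((hr.coprime_iff_not_dvd).2 hqp))
      exact Nat.pow_succ_factorization_not_dvd (tT_odd m).pos.ne' hr (hco.dvd_of_dvd_mul_left h')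
    obtain ⟨g, hg⟩ := exists_conj_mem hr (T := Subgroup.centralizer {y}) hn hrn (z := (z : G K m)) (e := 1)
      (by rw [hz, pow_one])
    have hzy : (z : G K m) ∈ classT K m y := isConj_mem_conjUnion g ⟨hg, fun h => hz1 (conj_eq_one_iff.1 h)⟩
    have hzx : (z : G K m) ∈ classT K m x := by
      refine isConj_mem_conjUnion 1 ?_
      rw [one_mul, inv_one, mul_one]
      exact ⟨z.2, hz1⟩
    exact classT_mono hm hx hy hzx hzy (self_mem_classT hy)
  have hprod : c₁ * c₂ = tT m := by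
    refine Nat.dvd_antisymm (hcop.mul_dvd_of_dvd_of_dvd (card_centralizer_T_dvd hm hx.1 hx.2 rfl)
      (card_centralizer_T_dvd hm hy.1 hy.2 rfl)) ?_
    rw [Nat.dvd_iff_prime_pow_dvd_dvd]
    intro r k hr hk
    rcases Nat.eq_zero_or_pos k with rfl | hk0
    · simp
    · have hrd : r ∣ tT m := (dvd_pow_self r hk0.ne').trans hk
      obtain ⟨z, hz, hzr⟩ := exists_TElt (K := K) hm hr hrd
      have hle := pow_dvd_pow r ((hr.pow_dvd_iff_le_factorization (by omega)).1 hk)
      rcases hcov (classT_sub hm hz (self_mem_classT hz)) with h | h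
      · exact (hle.trans (centralizer_T_full hm hx.1 hx.2 rfl hr (hzr ▸ dvd_card_of_mem_classT h))).mul_right _
      · exact (hle.trans (centralizer_T_full hm hy.1 hy.2 rfl hr (hzr ▸ dvd_card_of_mem_classT h))).mul_left _
  have hsum : c₁ + c₂ = 2 * (qq m + 1) := by
    have h := card_setT (K := K) hm
    rw [heq] at h
    rw [card_G', ← hprod] at hS₁ hS₂
    rw [← hprod] at h
    have hq := qq_ge m
    have h7₁ : 7 ≤ c₁ := seven_le_card hm hx
    have h7₂ : 7 ≤ c₂ := seven_le_card hm hy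
    generalize (classT K m x).ncard = s₁ at h hS₁
    generalize (classT K m y).ncard = s₂ at h hS₂
    generalize qq m = q at h hS₁ hS₂ hq ⊢
    clear_value c₁ c₂
    push_cast at h
    zify [show 1 ≤ q by omega, show 1 ≤ c₁ by omega, show 1 ≤ c₂ by omega] at hS₁ hS₂ ⊢
    have hpos : (c₁ : ℤ) * c₂ * ((q : ℤ) ^ 3 * ((q : ℤ) - 1) * ((q : ℤ) + 1)) ≠ 0 := by
      refine mul_ne_zero (mul_ne_zero ?_ ?_) (mul_ne_zero (mul_ne_zero (pow_ne_zero _ ?_) ?_) ?_) <;> omega
    exact mul_left_cancel₀ hpos (by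
      linear_combination -2 * (c₁ : ℤ) * c₂ * h + (c₂ : ℤ) * hS₁ + (c₁ : ℤ) * hS₂)
  have hval : (c₁ = qq m - 3 ^ (m + 1) + 1 ∧ c₂ = qq m + 3 ^ (m + 1) + 1) ∨
      (c₂ = qq m - 3 ^ (m + 1) + 1 ∧ c₁ = qq m + 3 ^ (m + 1) + 1) := by
    have hr : 3 ^ (m + 1) * 3 ^ (m + 1) = 3 * qq m := by
      rw [qq, ← pow_add, ← pow_succ']; congr 1; omega
    have hle : 3 ^ (m + 1) ≤ qq m := Nat.pow_le_pow_right (by norm_num) (by omega)
    have hT := tT_add m
    rw [← hprod] at hT
    generalize 3 ^ (m + 1) = r at hr hle ⊢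
    generalize qq m = q at hr hle hT hsum ⊢
    clear_value c₁ c₂
    zify at hT hsum hr
    have hd : ((c₁ : ℤ) - q - 1) * ((c₁ : ℤ) - q - 1) = (r : ℤ) * r := by
      linear_combination (c₁ : ℤ) * hsum - hT - hr
    rcases mul_self_eq_mul_self_iff.1 hd with h | h
    · right; omega
    · left; omega
  rcases hval with ⟨h1, h2⟩ | ⟨h1, h2⟩
  · exact ⟨x, y, hx, hy, hN₁, hN₂, h1, h2, hcov⟩
  · exact ⟨y, x, hy, hx, hN₂, hN₁, h1, h2, fun g hg => (hcov hg).symm⟩

end Cfsg.Agent.Lib.Ree
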