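import Mathlib

/-!
Counting the union of the conjugates of a subset.
-/

set_option autoImplicit false
set_option linter.unusedSectionVars false

namespace Cfsg.Agent.Lib.Ree

variable {Γ : Type*} [Group Γ] [Finite Γ]

/-- The union of the `M`-conjugates of `T`. -/
def conjUnion (M : Subgroup Γ) (T : Set Γ) : Set Γ := {x | ∃ g ∈ M, g * x * g⁻¹ ∈ T}

/-- Counting the union of conjugates of a set with trivial intersections. -/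
theorem ncard_conjUnion {M N : Subgroup Γ} (hNM : N ≤ M) {T : Set Γ}
    (hov : ∀ g ∈ M, ∀ x ∈ T, g * x * g⁻¹ ∈ T → g ∈ N) (hN : ∀ n ∈ N, ∀ x ∈ T, n * x * n⁻¹ ∈ T) :
    (conjUnion M T).ncard * Nat.card N = Nat.card M * T.ncard := by
  classical
  have hex : ∀ y : ↥(conjUnion M T), ∃ g : ↥M, (g : Γ) * y * (g : Γ)⁻¹ ∈ T := fun y => by
    obtain ⟨g, hg, h⟩ := y.2
    exact ⟨⟨g, hg⟩, h⟩
  choose γ hγ using hex
  let e : ↥(conjUnion M T) × ↥N → ↥M × ↥T := fun p =>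
    (⟨(p.2 : Γ) * γ p.1, mul_mem (hNM p.2.2) (γ p.1).2⟩,
      ⟨(p.2 : Γ) * ((γ p.1 : Γ) * p.1 * (γ p.1 : Γ)⁻¹) * (p.2 : Γ)⁻¹, hN _ p.2.2 _ (hγ p.1)⟩)
  have he : Function.Bijective e := by
    constructor
    · rintro ⟨y, n⟩ ⟨y', n'⟩ h
      have h1 : (n : Γ) * γ y = n' * γ y' := congrArg (fun p => ((p : ↥M × ↥T).1 : Γ)) h
      have h2 : (n : Γ) * ((γ y : Γ) * y * (γ y : Γ)⁻¹) * (n : Γ)⁻¹ =
          n' * ((γ y' : Γ) * y' * (γ y' : Γ)⁻¹) * (n' : Γ)⁻¹ := congrArg (fun p => ((p : ↥M × ↥T).2 : Γ)) h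
      have hy : y = y' := by
        apply Subtype.ext
        calc (y : Γ) = ((n : Γ) * γ y)⁻¹ * ((n : Γ) * ((γ y : Γ) * y * (γ y : Γ)⁻¹) * (n : Γ)⁻¹) * ((n : Γ) * γ y) := by group
          _ = ((n' : Γ) * γ y')⁻¹ * ((n' : Γ) * ((γ y' : Γ) * y' * (γ y' : Γ)⁻¹) * (n' : Γ)⁻¹) * ((n' : Γ) * γ y') := by rw [h1, h2]
          _ = y' := by group
      subst hy
      rw [Subtype.ext (mul_right_cancel h1) (a1 := n) (a2 := n')]
    · rintro ⟨g, t⟩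
      have hy : (g : Γ)⁻¹ * t * g ∈ conjUnion M T := ⟨g, g.2, by
        rw [show (g : Γ) * ((g : Γ)⁻¹ * t * g) * (g : Γ)⁻¹ = t by group]; exact t.2⟩
      set y : ↥(conjUnion M T) := ⟨_, hy⟩
      have hn : (g : Γ) * (γ y : Γ)⁻¹ ∈ N := by
        refine hov _ (mul_mem g.2 (inv_mem (γ y).2)) _ (hγ y) ?_
        rw [show (g : Γ) * (γ y : Γ)⁻¹ * ((γ y : Γ) * (y : Γ) * (γ y : Γ)⁻¹) * ((g : Γ) * (γ y : Γ)⁻¹)⁻¹ =
          (g : Γ) * (y : Γ) * (g : Γ)⁻¹ by group]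
        show (g : Γ) * ((g : Γ)⁻¹ * t * g) * (g : Γ)⁻¹ ∈ T
        rw [show (g : Γ) * ((g : Γ)⁻¹ * t * g) * (g : Γ)⁻¹ = t by group]
        exact t.2
      refine ⟨(y, ⟨_, hn⟩), Prod.ext (Subtype.ext (inv_mul_cancel_right _ _)) (Subtype.ext ?_)⟩
      show (g : Γ) * (γ y : Γ)⁻¹ * ((γ y : Γ) * ((g : Γ)⁻¹ * t * g) * (γ y : Γ)⁻¹) * ((g : Γ) * (γ y : Γ)⁻¹)⁻¹ = t
      group
  rw [← Nat.card_coe_set_eq, ← Nat.card_coe_set_eq (s := T), ← Nat.card_prod, ← Nat.card_prod]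
  exact Nat.card_congr (Equiv.ofBijective e he)

end Cfsg.Agent.Lib.Ree
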