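import Cfsg.Agent.Lib.Ree.TorusT
import Cfsg.Agent.Lib.Ree.ConjUnion

/-!
The elements of the small Ree group, sorted by their order, and the number of each sort.
-/

set_option autoImplicit false
set_option linter.unusedSectionVars false

namespace Cfsg.Agent.Lib.Ree

open Cfsg.Lie
open Cfsg.Agent.Lib.LieTwisted Cfsg.Agent.Lib.LieTwisted.Ree
open Cfsg.Agent.Lib.PSLTwo.Sylow (mem_normalizer_of_conj_mem)

variable {K : Type*} [Field K] [CharP K 3] [Fintype K] {m : ℕ} [hF : Fact (Fintype.card K = 3 ^ (2 * m + 1))]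

variable (K m) in
/-- Non-trivial elements of order dividing `9`. -/
def setP : Set (G K m) := {g | g ≠ 1 ∧ g ^ 9 = 1}
variable (K m) in
/-- Elements of order six. -/
def setS : Set (G K m) := {g | orderOf g = 6}
variable (K m) in
/-- Involutions. -/
def setI : Set (G K m) := conjUnion ⊤ {invA K m}
variable (K m) in
/-- Regular diagonalisable elements. -/
def setH : Set (G K m) := conjUnion ⊤ {g | ∃ y : Kˣ, y ≠ 1 ∧ y ≠ -1 ∧ g = gH y}
variable (K m) in
/-- Conjugates of elements of `D ∖ E`. -/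
def setA : Set (G K m) := conjUnion ⊤ ((torD K m : Set (G K m)) \ fourE K m)
variable (K m) in
/-- Non-trivial elements of order dividing `q² - q + 1`. -/
def setT : Set (G K m) := {g | g ≠ 1 ∧ orderOf g ∣ tT m}

lemma mem_conjUnion_conj {T : Set (G K m)} {x : G K m} (g : G K m) (h : g * x * g⁻¹ ∈ conjUnion ⊤ T) :
    x ∈ conjUnion ⊤ T := by
  obtain ⟨u, -, hu⟩ := h
  exact ⟨u * g, Subgroup.mem_top _, by
    rwa [show u * g * x * (u * g)⁻¹ = u * (g * x * g⁻¹) * u⁻¹ by group]⟩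

lemma isConj_mem_conjUnion {T : Set (G K m)} {x : G K m} (g : G K m) (h : g * x * g⁻¹ ∈ T) : x ∈ conjUnion ⊤ T :=
  ⟨g, Subgroup.mem_top _, h⟩

lemma commute_pow_conj (g x : G K m) (k : ℕ) :
    g * x * g⁻¹ ∈ Subgroup.centralizer {g * x ^ k * g⁻¹} := by
  rw [Subgroup.mem_centralizer_singleton_iff, conj_mul, conj_mul, ← pow_succ, ← pow_succ']

/-- An element of order six is `a z` with `z` of order three, up to conjugation. -/
lemma six_conj (hm : 1 ≤ m) {g : G K m} (hg : orderOf g = 6) :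
    ∃ u : G K m, (u * g * u⁻¹) ^ 3 = invA K m := by
  have h3 : orderOf (g ^ 3) = 2 := by rw [orderOf_pow, hg]; norm_num
  have h1 : g ^ 3 ≠ 1 := fun h => by rw [h, orderOf_one] at h3; exact absurd h3 (by norm_num)
  have h2 : g ^ 3 * g ^ 3 = 1 := by rw [← pow_two, ← h3, pow_orderOf_eq_one]
  obtain ⟨u, hu⟩ := isConj_iff.1 (isConj_invA hm h1 h2).symm
  exact ⟨u, by rw [conj_pow]; exact hu⟩

/-- The sorts of elements. -/
theorem elem_cases (hm : 1 ≤ m) (g : G K m) :
    g = 1 ∨ g ∈ setP K m ∨ g ∈ setS K m ∨ g ∈ setI K m ∨ g ∈ setH K m ∨ g ∈ setA K m ∨ g ∈ setT K m := by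
  classical
  by_cases hg1 : g = 1
  · exact Or.inl hg1
  right
  have hpos : orderOf g ≠ 0 := (orderOf_pos g).ne'
  by_cases h3 : 3 ∣ orderOf g
  · have hz : orderOf (g ^ (orderOf g / 3)) = 3 := orderOf_pow_orderOf_div hpos h3
    have hc : g * g ^ (orderOf g / 3) = g ^ (orderOf g / 3) * g := by rw [← pow_succ', ← pow_succ]
    by_cases h9 : g ^ 9 = 1
    · exact Or.inl ⟨hg1, h9⟩
    · refine Or.inr (Or.inl ?_)
      rcases orderOf_of_commute_three hz hc with h | h
      · show orderOf g = 6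
        obtain ⟨c, hc⟩ := h3
        have hle := Nat.le_of_dvd (by norm_num) h
        have hne : orderOf g ≠ 3 := fun e => h9 (orderOf_dvd_iff_pow_eq_one.1 (by rw [e]; norm_num))
        omega
      · exact absurd (orderOf_dvd_iff_pow_eq_one.1 h) h9
  refine Or.inr (Or.inr ?_)
  by_cases hodd : ∃ r, r.Prime ∧ r ≠ 2 ∧ r ∣ orderOf g
  · obtain ⟨r, hr, hr2, hrd⟩ := hodd
    have hr3 : r ≠ 3 := fun e => h3 (e ▸ hrd)
    set y := g ^ (orderOf g / r)
    have hy : orderOf y = r := orderOf_pow_orderOf_div hpos hrd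
    have hy1 : ∀ u : G K m, u * y * u⁻¹ ≠ 1 := fun u h => by
      rw [conj_eq_one_iff.1 h, orderOf_one] at hy; exact hr.one_lt.ne hy
    have hdiv : r ∣ qq m ^ 3 * (qq m - 1) * (qq m + 1) * tT m := by
      rw [← card_G' (K := K) (m := m), ← hy]; exact orderOf_dvd_natCard y
    rcases hr.dvd_mul.1 hdiv with h | h
    · rcases hr.dvd_mul.1 h with h | h
      · rcases hr.dvd_mul.1 h with h | h
        · exact absurd (hr.dvd_of_dvd_pow h) (prime_not_dvd_qq hr hr3)
        · refine Or.inr (Or.inl ?_)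
          obtain ⟨u, hu⟩ := conj_into_torM hr hr2 h (z := y) (e := 1) (by rw [hy, pow_one])
          obtain ⟨v, hv⟩ := torM_le hu
          obtain ⟨v1, v2⟩ := regular_of_odd (m := m) (hv ▸ (torM_order hu).1) (hv ▸ hy1 u)
          have hmem := commute_pow_conj u g (orderOf g / r)
          rw [← hv, centralizer_gH v1 v2] at hmem
          obtain ⟨z, hz⟩ := hmem
          refine isConj_mem_conjUnion u ⟨z, ?_, ?_, hz.symm⟩
          · intro e
            rw [e, map_one] at hz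
            exact hg1 (conj_eq_one_iff.1 hz.symm)
          · intro e
            rw [e] at hz
            have h2 : orderOf g ∣ 2 := by
              rw [← orderOf_conj' u g, ← hz]
              exact orderOf_dvd_of_pow_eq_one (by rw [pow_two]; exact a_sq)
            exact hr2 ((Nat.prime_dvd_prime_iff_eq hr Nat.prime_two).1 (hrd.trans h2))
      · refine Or.inr (Or.inr (Or.inl ?_))
        obtain ⟨u, hu⟩ := conj_into_torA hr hr2 h (z := y) (e := 1) (by rw [hy, pow_one])
        have hmem := commute_pow_conj u g (orderOf g / r)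
        rw [centralizer_torA hm hu (hy1 u)] at hmem
        refine isConj_mem_conjUnion u ⟨hmem, fun hE => ?_⟩
        have h2 : orderOf g ∣ 2 := by
          rw [← orderOf_conj' u g]
          exact orderOf_dvd_of_pow_eq_one (by rw [pow_two]; exact hE.2)
        exact hr2 ((Nat.prime_dvd_prime_iff_eq hr Nat.prime_two).1 (hrd.trans h2))
    · refine Or.inr (Or.inr (Or.inr ⟨hg1, ?_⟩))
      have hmem : g ∈ Subgroup.centralizer {y} := by
        rw [Subgroup.mem_centralizer_singleton_iff, ← pow_succ, ← pow_succ']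
      exact (Subgroup.orderOf_dvd_natCard _ hmem).trans (card_centralizer_T_dvd hm hr h hy)
  · left
    haveI : Fact (Nat.Prime 2) := ⟨Nat.prime_two⟩
    push Not at hodd
    have hpow := Nat.eq_prime_pow_of_unique_prime_dvd hpos (p := 2) fun {d} hd hdd => by
      by_contra hne; exact hodd d hd hne hdd
    obtain ⟨S, hS⟩ := (IsPGroup.of_card (p := 2) (G := ↥(Subgroup.zpowers g))
      (n := (orderOf g).primeFactorsList.length) (by rw [Nat.card_zpowers]; exact hpow)).exists_le_sylow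
    have hsq := sylow_two_exponent S g (hS (Subgroup.mem_zpowers g))
    obtain ⟨u, hu⟩ := isConj_iff.1 (isConj_invA hm hg1 hsq).symm
    exact isConj_mem_conjUnion u (Set.mem_singleton_iff.2 hu)

/-! ### Counts -/

lemma conjUnion_top_card {N : Subgroup (G K m)} {T : Set (G K m)}
    (hov : ∀ g, ∀ x ∈ T, g * x * g⁻¹ ∈ T → g ∈ N) (hN : ∀ n ∈ N, ∀ x ∈ T, n * x * n⁻¹ ∈ T) :
    (conjUnion ⊤ T).ncard * Nat.card N = Nat.card (G K m) * T.ncard := by
  rw [ncard_conjUnion le_top (fun g _ => hov g) hN, Subgroup.card_top]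

lemma B1_conj_U1 {p x : G K m} (hp : p ∈ B1 (K := K) m) (hx : x ∈ U1 (K := K) m) : p * x * p⁻¹ ∈ U1 (K := K) m := by
  obtain ⟨a, b, c, y, rfl⟩ := mem_B1_iff.1 hp
  obtain ⟨t, u, v, rfl⟩ := mem_U1.1 hx
  rw [show gU a b c * gH y * gU t u v * (gU a b c * gH y)⁻¹ =
    gU a b c * (gH y * gU t u v * (gH y : G K m)⁻¹) * (gU a b c)⁻¹ by group, gH_conj_gU]
  exact mul_mem (mul_mem (gU_mem_U1 _ _ _) (gU_mem_U1 _ _ _)) (inv_mem (gU_mem_U1 _ _ _))

lemma card_B1 : Nat.card ↥(B1 (K := K) m) = qq m ^ 3 * (qq m - 1) := by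
  classical
  let f : (K × K × K) × Kˣ → ↥(B1 (K := K) m) := fun p =>
    ⟨gU p.1.1 p.1.2.1 p.1.2.2 * gH p.2, mul_mem (gU_mem_B1 _ _ _) (gH_mem_B1 _)⟩
  have hf : Function.Bijective f := by
    constructor
    · rintro ⟨⟨t, u, v⟩, y⟩ ⟨⟨t', u', v'⟩, y'⟩ h
      obtain ⟨⟨h1, h2, h3⟩, h4⟩ := small_inj (show (gU t u v * gH y : G K m) = gU t' u' v' * gH y' from congrArg Subtype.val h)
      rw [h1, h2, h3, h4]
    · rintro ⟨g, hg⟩
      obtain ⟨t, u, v, y, rfl⟩ := mem_B1_iff.1 hg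
      exact ⟨((t, u, v), y), rfl⟩
  rw [← Nat.card_congr (Equiv.ofBijective f hf), Nat.card_prod, Nat.card_prod, Nat.card_prod, card_K (m := m),
    card_units_K (m := m)]
  ring

theorem card_setP : (setP K m).ncard = (qq m ^ 3 + 1) * (qq m ^ 3 - 1) := by
  have hset : setP K m = conjUnion ⊤ ((U1 (K := K) m : Set (G K m)) \ {1}) := by
    ext g
    constructor
    · rintro ⟨h1, h9⟩
      obtain ⟨u, hu⟩ := exists_conj_U1 (z := g) (n := 2) (orderOf_dvd_iff_pow_eq_one.1 (orderOf_dvd_of_pow_eq_one h9))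
      exact isConj_mem_conjUnion u ⟨hu, fun h => h1 (conj_eq_one_iff.1 h)⟩
    · rintro ⟨u, -, hu, hu1⟩
      refine ⟨fun h => hu1 (by rw [h, mul_one, mul_inv_cancel]; rfl), ?_⟩
      obtain ⟨t, a, b, he⟩ := mem_U1.1 hu
      have h9 := gU_pow_nine (m := m) t a b
      rw [← he, conj_pow, conj_eq_one_iff] at h9
      exact h9
  have h := conjUnion_top_card (N := B1 (K := K) m) (T := (U1 (K := K) m : Set (G K m)) \ {1})
    (fun g x hx h => by
      by_contra hg
      exact hx.2 (conj_not_B1 hg hx.1 (U1_le_B1 h.1)))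
    (fun n hn x hx => ⟨B1_conj_U1 hn hx.1, fun h => hx.2 (conj_eq_one_iff.1 h)⟩)
  have hT : ((U1 (K := K) m : Set (G K m)) \ {1}).ncard = qq m ^ 3 - 1 := by
    rw [Set.ncard_sdiff (Set.singleton_subset_iff.2 (one_mem _)) (Set.toFinite _), Set.ncard_singleton,
      ← Nat.card_coe_set_eq]
    exact congrArg (· - 1) card_U1
  rw [hT, card_B1, card_G, ← hset] at h
  have hq := qq_ge m
  refine Nat.eq_of_mul_eq_mul_right (Nat.mul_pos (pow_pos (by omega : 0 < qq m) 3) (by omega : 0 < qq m - 1)) ?_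
  rw [h]; ring

theorem card_setI : (setI K m).ncard = qq m ^ 2 * tT m := by
  have h := conjUnion_top_card (N := Subgroup.centralizer {invA K m}) (T := {invA K m})
    (fun g x hx h => by
      rw [Set.mem_singleton_iff] at hx h
      subst hx
      exact Subgroup.mem_centralizer_singleton_iff.2 (mul_inv_eq_iff_eq_mul.1 h))
    (fun n hn x hx => by
      rw [Set.mem_singleton_iff] at hx ⊢
      subst hx
      exact mul_inv_eq_iff_eq_mul.2 (Subgroup.mem_centralizer_singleton_iff.1 hn))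
  rw [Set.ncard_singleton, card_centralizer_invA, card_G', ← setI] at h
  have hq := qq_ge m
  refine Nat.eq_of_mul_eq_mul_right (Nat.mul_pos (Nat.mul_pos (by omega : 0 < qq m) (by omega : 0 < qq m - 1))
    (by omega : 0 < qq m + 1)) ?_
  rw [h]; ring

variable (K m) in
/-- `U¹ ∩ C(a)`. -/
noncomputable def subUa : Subgroup (G K m) := U1 (K := K) m ⊓ Subgroup.centralizer {invA K m}

lemma mem_subUa {x : G K m} : x ∈ subUa K m ↔ ∃ u : K, x = gU 0 u 0 := by
  constructor
  · rintro ⟨hx, hc⟩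
    obtain ⟨t, u, v, rfl⟩ := mem_U1.1 hx
    rcases centralizer_invA_cases hc with ⟨u', z, h⟩ | ⟨u', z, u'', h⟩
    · have h' : (gU t u v * gH 1 : G K m) = gU 0 u' 0 * gH z := by rw [map_one, mul_one]; exact h
      obtain ⟨⟨rfl, -, rfl⟩, -⟩ := small_inj h'
      exact ⟨u, rfl⟩
    · exact absurd (h ▸ gU_mem_B1 t u v) (big_not_B1 (m := m) 0 u' 0 z 0 u'' 0)
  · rintro ⟨u, rfl⟩
    exact ⟨gU_mem_U1 _ _ _, Subgroup.mem_centralizer_singleton_iff.2 (invA_comm_gU0 u).eq.symm⟩

lemma card_subUa : Nat.card ↥(subUa K m) = qq m := by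
  let f : K → ↥(subUa K m) := fun u => ⟨gU 0 u 0, mem_subUa.2 ⟨u, rfl⟩⟩
  have hf : Function.Bijective f := by
    refine ⟨fun a b h => (gU_inj (m := m) (congrArg Subtype.val h)).2.1, ?_⟩
    rintro ⟨x, hx⟩
    obtain ⟨u, rfl⟩ := mem_subUa.1 hx
    exact ⟨u, rfl⟩
  rw [← Nat.card_congr (Equiv.ofBijective f hf), card_K (m := m)]

/-- Conjugacy of the 3-elements inside `C(a)`. -/
lemma exists_conj_subUa {x : G K m} (hx : x ∈ Subgroup.centralizer {invA K m}) (h3 : x ^ 3 = 1) :
    ∃ g ∈ Subgroup.centralizer {invA K m}, g * x * g⁻¹ ∈ subUa K m := by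
  haveI : Fact (Nat.Prime 3) := ⟨Nat.prime_three⟩
  set C := Subgroup.centralizer {invA K m}
  set U' := (subUa K m).subgroupOf C
  have hU' : Nat.card ↥U' = 3 ^ (2 * m + 1) := by
    rw [Nat.card_congr (Subgroup.subgroupOfEquivOfLe (show subUa K m ≤ C from inf_le_right)).toEquiv, card_subUa]
  have hidx : U'.index = (qq m - 1) * (qq m + 1) := by
    have h := U'.card_mul_index
    rw [hU', card_centralizer_invA, mul_assoc] at h
    exact Nat.eq_of_mul_eq_mul_left (by positivity) h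
  have hnd : ¬ 3 ∣ U'.index := by
    rw [hidx]
    intro h
    rcases Nat.prime_three.dvd_mul.1 h with h | h
    exacts [(not_three_dvd_qq_pm m).1 h, (not_three_dvd_qq_pm m).2 h]
  let P : Sylow 3 ↥C := (IsPGroup.of_card hU').toSylow hnd
  have hzx : (⟨x, hx⟩ : ↥C) ^ 3 = 1 := Subtype.ext h3
  obtain ⟨k, -, hk⟩ := (Nat.dvd_prime_pow Nat.prime_three).1 (show orderOf (⟨x, hx⟩ : ↥C) ∣ 3 ^ 1 from by
    rw [pow_one]; exact orderOf_dvd_of_pow_eq_one hzx)
  obtain ⟨S, hS⟩ := (IsPGroup.of_card (p := 3) (G := ↥(Subgroup.zpowers (⟨x, hx⟩ : ↥C))) (n := k)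
    (by rw [Nat.card_zpowers, hk])).exists_le_sylow
  obtain ⟨g, hg⟩ := MulAction.exists_smul_eq ↥C S P
  refine ⟨g, g.2, ?_⟩
  have : g * ⟨x, hx⟩ * g⁻¹ ∈ (P : Subgroup ↥C) := by
    rw [← hg]
    exact ⟨⟨x, hx⟩, hS (Subgroup.mem_zpowers _), rfl⟩
  exact this

theorem card_three_elts_invA :
    {x : G K m | x ∈ Subgroup.centralizer {invA K m} ∧ x ^ 3 = 1 ∧ x ≠ 1}.ncard = (qq m + 1) * (qq m - 1) := by
  set C := Subgroup.centralizer {invA K m}
  have hset : {x : G K m | x ∈ C ∧ x ^ 3 = 1 ∧ x ≠ 1} = conjUnion C ((subUa K m : Set (G K m)) \ {1}) := by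
    ext x
    constructor
    · rintro ⟨hx, h3, h1⟩
      obtain ⟨g, hg, h⟩ := exists_conj_subUa hx h3
      exact ⟨g, hg, h, fun e => h1 (conj_eq_one_iff.1 e)⟩
    · rintro ⟨g, hg, h, h1⟩
      obtain ⟨u, hu⟩ := mem_subUa.1 h
      refine ⟨?_, ?_, fun e => h1 (by rw [e, mul_one, mul_inv_cancel]; rfl)⟩
      · have : g * x * g⁻¹ ∈ C := h.2
        have := mul_mem (mul_mem (inv_mem hg) this) hg
        rwa [show g⁻¹ * (g * x * g⁻¹) * g = x by group] at this
      · have h3 := gU_pow_three_zero (m := m) u (0 : K)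
        rw [← hu, conj_pow, conj_eq_one_iff] at h3
        exact h3
  have h := ncard_conjUnion (M := C) (N := B1 (K := K) m ⊓ C) inf_le_right (T := (subUa K m : Set (G K m)) \ {1})
    (fun g hg x hx h => by
      refine ⟨?_, hg⟩
      by_contra hgB
      exact hx.2 (conj_not_B1 hgB hx.1.1 (U1_le_B1 h.1.1)))
    (fun n hn x hx => ⟨⟨B1_conj_U1 hn.1 hx.1.1, C.mul_mem (C.mul_mem (Subgroup.mem_inf.1 hn).2 (Subgroup.mem_inf.1 hx.1).2) (C.inv_mem (Subgroup.mem_inf.1 hn).2)⟩,
      fun h => hx.2 (conj_eq_one_iff.1 h)⟩)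
  have hT : ((subUa K m : Set (G K m)) \ {1}).ncard = qq m - 1 := by
    rw [Set.ncard_sdiff (Set.singleton_subset_iff.2 (one_mem _)) (Set.toFinite _), Set.ncard_singleton,
      ← Nat.card_coe_set_eq]
    exact congrArg (· - 1) card_subUa
  have hBC : Nat.card ↥(B1 (K := K) m ⊓ C) = qq m * (qq m - 1) := by
    let f : K × Kˣ → ↥(B1 (K := K) m ⊓ C) := fun p => ⟨gU 0 p.1 0 * gH p.2,
      mul_mem (gU_mem_B1 _ _ _) (gH_mem_B1 _),
      mul_mem (mem_subUa.2 ⟨p.1, rfl⟩).2 (gH_mem_centralizer _)⟩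
    have hf : Function.Bijective f := by
      constructor
      · rintro ⟨u, y⟩ ⟨u', y'⟩ h
        obtain ⟨⟨-, h2, -⟩, h4⟩ := small_inj (show (gU 0 u 0 * gH y : G K m) = gU 0 u' 0 * gH y' from congrArg Subtype.val h)
        rw [h2, h4]
      · rintro ⟨g, hgB, hgC⟩
        rcases centralizer_invA_cases hgC with ⟨u, y, rfl⟩ | ⟨u, y, u', rfl⟩
        · exact ⟨(u, y), rfl⟩
        · exact absurd hgB (big_not_B1 (m := m) 0 u 0 y 0 u' 0)
    rw [← Nat.card_congr (Equiv.ofBijective f hf), Nat.card_prod, card_K (m := m), card_units_K (m := m)]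
  rw [← hset, hBC, hT, card_centralizer_invA] at h
  have hq := qq_ge m
  refine Nat.eq_of_mul_eq_mul_right (Nat.mul_pos (by omega : 0 < qq m) (by omega : 0 < qq m - 1)) ?_
  rw [h]; ring

theorem card_setS (hm : 1 ≤ m) : (setS K m).ncard = qq m ^ 2 * tT m * ((qq m + 1) * (qq m - 1)) := by
  set T : Set (G K m) := {x | orderOf x = 6 ∧ x ^ 3 = invA K m}
  have hset : setS K m = conjUnion ⊤ T := by
    ext g
    constructor
    · intro hg
      obtain ⟨u, hu⟩ := six_conj hm hg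
      exact isConj_mem_conjUnion u ⟨by rw [orderOf_conj']; exact hg, hu⟩
    · rintro ⟨u, -, hu, -⟩
      show orderOf g = 6
      rw [← orderOf_conj' u g]; exact hu
  have h := conjUnion_top_card (N := Subgroup.centralizer {invA K m}) (T := T)
    (fun g x hx h => by
      rw [Subgroup.mem_centralizer_singleton_iff, ← mul_inv_eq_iff_eq_mul]
      have := h.2
      rwa [conj_pow, hx.2] at this)
    (fun n hn x hx => ⟨by rw [orderOf_conj']; exact hx.1, by
      rw [conj_pow, hx.2]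
      exact mul_inv_eq_iff_eq_mul.2 (Subgroup.mem_centralizer_singleton_iff.1 hn)⟩)
  have hT : T.ncard = (qq m + 1) * (qq m - 1) := by
    have himage : T = (fun z => invA K m * z) '' {x : G K m | x ∈ Subgroup.centralizer {invA K m} ∧ x ^ 3 = 1 ∧ x ≠ 1} := by
      ext x
      constructor
      · rintro ⟨h6, h3⟩
        have hc : Commute (invA K m) x := h3 ▸ (Commute.refl x).pow_left 3
        refine ⟨invA K m * x, ⟨?_, ?_, ?_⟩, by show invA K m * (invA K m * x) = x; rw [← mul_assoc, a_sq, one_mul]⟩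
        · rw [Subgroup.mem_centralizer_singleton_iff]
          calc invA K m * x * invA K m = invA K m * (x * invA K m) := mul_assoc _ _ _
            _ = invA K m * (invA K m * x) := by rw [hc.eq]
        · rw [hc.mul_pow, h3, pow_succ, pow_two, a_sq, one_mul, a_sq]
        · intro e
          have hxa : x = invA K m := by
            rw [(eq_inv_of_mul_eq_one_right e), inv_eq_of_mul_eq_one_right a_sq]
          have : orderOf x ∣ 2 := orderOf_dvd_of_pow_eq_one (by rw [hxa, pow_two]; exact a_sq)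
          rw [h6] at this
          exact absurd this (by norm_num)
      · rintro ⟨z, ⟨hz, hz3, hz1⟩, rfl⟩
        haveI : Fact (Nat.Prime 3) := ⟨Nat.prime_three⟩
        haveI : Fact (Nat.Prime 2) := ⟨Nat.prime_two⟩
        have hc : Commute (invA K m) z := (Subgroup.mem_centralizer_singleton_iff.1 hz).symm
        refine ⟨?_, by rw [hc.mul_pow, hz3, mul_one, pow_succ, pow_two, a_sq, one_mul]⟩
        rw [hc.orderOf_mul_eq_mul_orderOf_of_coprime] <;>
          rw [orderOf_eq_prime (p := 2) (by rw [pow_two]; exact a_sq) invA_ne_one, orderOf_eq_prime (p := 3) hz3 hz1]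
        norm_num
    rw [himage, Set.ncard_image_of_injective _ (mul_right_injective _), card_three_elts_invA]
  rw [← hset, hT, card_centralizer_invA, card_G'] at h
  have hq := qq_ge m
  refine Nat.eq_of_mul_eq_mul_right (Nat.mul_pos (Nat.mul_pos (by omega : 0 < qq m) (by omega : 0 < qq m - 1))
    (by omega : 0 < qq m + 1)) ?_
  rw [h]; ring

theorem card_setH (hm : 1 ≤ m) :
    (setH K m).ncard * (2 * (qq m - 1)) = Nat.card (G K m) * (qq m - 3) := by
  classical
  set T : Set (G K m) := {g | ∃ y : Kˣ, y ≠ 1 ∧ y ≠ -1 ∧ g = gH y}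
  have h := conjUnion_top_card (N := Subgroup.normalizer (torM K m : Set (G K m))) (T := T) ?_ ?_
  · rw [normalizer_torM hm, ← setH] at h
    rw [h]
    congr 1
    have hT : T = gH '' ({1, -1}ᶜ : Set Kˣ) := by
      ext g
      simp only [T, Set.mem_image, Set.mem_compl_iff, Set.mem_insert_iff, Set.mem_singleton_iff, not_or]
      constructor
      · rintro ⟨y, h1, h2, rfl⟩; exact ⟨y, ⟨h1, h2⟩, rfl⟩
      · rintro ⟨y, ⟨h1, h2⟩, rfl⟩; exact ⟨y, h1, h2, rfl⟩
    rw [hT, Set.ncard_image_of_injective _ gH_injective, Set.ncard_compl, show Nat.card Kˣ = qq m - 1 from card_units_K (m := m), Set.ncard_pair]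
    · omega
    · intro e
      have h3 : (3 : K) = 0 := CharP.cast_eq_zero K 3
      have h2 : (-1 : K) = 1 := congrArg Units.val e.symm
      exact one_ne_zero (by linear_combination h3 + h2 : (1 : K) = 0)
  · rintro g x ⟨y, h1, h2, rfl⟩ ⟨y', -, -, hy'⟩
    refine mem_normalizer_of_conj_mem fun w hw => ?_
    obtain ⟨v, rfl⟩ := torM_le hw
    obtain ⟨s, hs⟩ := mem_torM.1 hw
    obtain ⟨z, rfl | rfl⟩ := conj_regular_cases h1 h2 hy'
    · rw [← map_inv, ← map_mul, ← map_mul, mul_inv_cancel_comm]; exact hw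
    · rw [mul_inv_rev, show gH z * w0 m * gH v * ((w0 m)⁻¹ * (gH z)⁻¹) =
        gH z * (w0 m * gH v * w0 m) * (gH z : G K m)⁻¹ by rw [w0_inv]; simp only [mul_assoc],
        w0_gH, mul_assoc (gH v⁻¹), w0_mul_self, mul_one, ← map_inv, ← map_mul, ← map_mul, mul_inv_cancel_comm]
      exact mem_torM.2 ⟨s⁻¹, by rw [inv_pow, hs]⟩
  · rintro n hn x ⟨y, h1, h2, rfl⟩
    obtain ⟨v, hv, hv1⟩ := exists_torM_ne_one (K := K) hm
    obtain ⟨v', hv'⟩ := torM_le ((Subgroup.mem_normalizer_iff.1 hn _).1 hv)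
    obtain ⟨u1, u2⟩ := regular_of_odd (torM_order hv).1 hv1
    obtain ⟨z, rfl | rfl⟩ := conj_regular_cases u1 u2 hv'.symm
    · exact ⟨y, h1, h2, by rw [← map_inv, ← map_mul, ← map_mul, mul_inv_cancel_comm]⟩
    · refine ⟨y⁻¹, by simpa using h1, fun e => h2 (by rw [← inv_inv y, e, inv_neg_one]), ?_⟩
      rw [mul_inv_rev, show gH z * w0 m * gH y * ((w0 m)⁻¹ * (gH z)⁻¹) =
        gH z * (w0 m * gH y * w0 m) * (gH z : G K m)⁻¹ by rw [w0_inv]; simp only [mul_assoc],
        w0_gH, mul_assoc (gH y⁻¹), w0_mul_self, mul_one, ← map_inv, ← map_mul, ← map_mul, mul_inv_cancel_comm]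

lemma torD_pow_four {d : G K m} (hd : d ∈ torD K m) : d ^ 4 ∈ torA K m ∧ (d ^ 4 = 1 → d ∈ fourE K m) := by
  haveI : Fact (Nat.Prime 2) := ⟨Nat.prime_two⟩
  refine ⟨torA_eq (pow_mem hd 4) ?_, fun h => ⟨hd, ?_⟩⟩
  · rw [← pow_mul]
    have := Subgroup.orderOf_dvd_natCard _ hd
    rw [card_torD, (lP_spec m).1] at this
    exact orderOf_dvd_iff_pow_eq_one.1 this
  · obtain ⟨j, -, hj⟩ := (Nat.dvd_prime_pow Nat.prime_two).1 (orderOf_dvd_of_pow_eq_one (n := 2 ^ 2) (by norm_num; exact h))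
    obtain ⟨S, hS⟩ := (IsPGroup.of_card (p := 2) (G := ↥(Subgroup.zpowers d)) (n := j)
      (by rw [Nat.card_zpowers, hj])).exists_le_sylow
    exact sylow_two_exponent S d (hS (Subgroup.mem_zpowers d))

theorem card_setA (hm : 1 ≤ m) :
    (setA K m).ncard * (6 * (qq m + 1)) = Nat.card (G K m) * (qq m + 1 - 4) := by
  classical
  set T : Set (G K m) := (torD K m : Set (G K m)) \ fourE K m
  have h := conjUnion_top_card (N := Subgroup.normalizer (fourE K m : Set (G K m))) (T := T) ?_ ?_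
  · rw [card_normalizer_fourE hm, ← setA] at h
    rw [h]
    congr 1
    rw [Set.ncard_sdiff (fun z hz => hz.1) (Set.toFinite _), ← Nat.card_coe_set_eq, ← Nat.card_coe_set_eq]
    show Nat.card ↥(torD K m) - Nat.card ↥(fourE K m) = _
    rw [card_torD, card_fourE]
  · rintro g x ⟨hx, hx1⟩ ⟨hgx, hgx1⟩
    have h4 : x ^ 4 ≠ 1 := fun e => hx1 ((torD_pow_four hx).2 e)
    have h4' : (g * x * g⁻¹) ^ 4 ≠ 1 := fun e => hgx1 ((torD_pow_four hgx).2 e)
    refine mem_normalizer_of_conj_mem fun w hw => ⟨?_, by rw [conj_mul, hw.2, mul_one, mul_inv_cancel]⟩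
    rw [← centralizer_torA hm (torD_pow_four hgx).1 h4', conj_pow, Subgroup.mem_centralizer_singleton_iff,
      conj_mul, conj_mul]
    rw [torD_comm w hw.1 _ (pow_mem hx 4)]
  · rintro n hn x ⟨hx, hx1⟩
    have hx' : x ∈ Subgroup.centralizer {invA K m} ⊓ Subgroup.centralizer {tI K m} := by
      refine Subgroup.mem_inf.2 ⟨?_, ?_⟩ <;> rw [Subgroup.mem_centralizer_singleton_iff]
      · exact torD_comm x hx _ invA_mem_torD
      · exact torD_comm x hx _ tI_mem_torD
    have hnA : n ∈ Subgroup.normalizer (torA K m : Set (G K m)) := by rw [normalizer_torA hm]; exact hn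
    have hl : 1 < lP m := by
      have h1 := qq_ge27 hm
      have h2 := (lP_spec m).1
      omega
    obtain ⟨α, hα, hα1⟩ : ∃ α ∈ torA K m, α ≠ 1 := by
      by_contra hc
      push Not at hc
      have := card_torA (K := K) (m := m)
      rw [(Subgroup.eq_bot_iff_forall _).2 hc, Subgroup.card_bot] at this
      omega
    have hα' := (Subgroup.mem_normalizer_iff.1 hnA α).1 hα
    refine ⟨?_, fun h => hx1 ((Subgroup.mem_normalizer_iff.1 hn x).2 h)⟩
    show n * x * n⁻¹ ∈ torD K m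
    rw [← centralizer_torA hm hα' (fun h => hα1 (conj_eq_one_iff.1 h)), Subgroup.mem_centralizer_singleton_iff,
      conj_mul, conj_mul, torD_comm x hx α (torA_le_torD hα)]

end Cfsg.Agent.Lib.Ree
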