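import Cfsg.Agent.Lib.Ree.CountSets

/-!
The number of non-trivial elements of order dividing `q² - q + 1`.
-/

set_option autoImplicit false
set_option linter.unusedSectionVars false

namespace Cfsg.Agent.Lib.Ree

open Cfsg.Lie
open Cfsg.Agent.Lib.LieTwisted Cfsg.Agent.Lib.LieTwisted.Ree

variable {K : Type*} [Field K] [CharP K 3] [Fintype K] {m : ℕ} [hF : Fact (Fintype.card K = 3 ^ (2 * m + 1))]

lemma orderOf_setH {g : G K m} (hg : g ∈ setH K m) : orderOf g ∣ qq m - 1 ∧ ¬ orderOf g ∣ 2 := by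
  obtain ⟨u, -, y, h1, h2, hy⟩ := hg
  rw [← orderOf_conj' u g, hy]
  refine ⟨orderOf_dvd_of_pow_eq_one (gH_pow_card y), fun h => ?_⟩
  have h' := orderOf_dvd_iff_pow_eq_one.1 h
  rw [pow_two, ← map_mul, ← map_one (gH : Kˣ →* G K m)] at h'
  have h4 : (y : K) * y = 1 := congrArg Units.val (gH_injective h')
  rcases mul_self_eq_one_iff.1 h4 with h5 | h5
  · exact h1 (Units.ext h5)
  · exact h2 (Units.ext h5)

lemma orderOf_setA {g : G K m} (hg : g ∈ setA K m) : orderOf g ∣ qq m + 1 ∧ ¬ orderOf g ∣ 2 := by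
  obtain ⟨u, -, hd, hE⟩ := hg
  rw [← orderOf_conj' u g]
  refine ⟨?_, fun h => hE ⟨hd, ?_⟩⟩
  · rw [← card_torD (K := K) (m := m)]; exact Subgroup.orderOf_dvd_natCard _ hd
  · rw [← pow_two]; exact orderOf_dvd_iff_pow_eq_one.1 h

lemma orderOf_setI {g : G K m} (hg : g ∈ setI K m) : orderOf g = 2 := by
  haveI : Fact (Nat.Prime 2) := ⟨Nat.prime_two⟩
  obtain ⟨u, -, h⟩ := hg
  rw [← orderOf_conj' u g, Set.mem_singleton_iff.1 h]
  exact orderOf_eq_prime (by rw [pow_two]; exact a_sq) invA_ne_one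

lemma orderOf_setP {g : G K m} (hg : g ∈ setP K m) : 3 ∣ orderOf g ∧ orderOf g ∣ 9 := by
  have h := orderOf_dvd_of_pow_eq_one hg.2
  obtain ⟨j, hj, hj'⟩ := (Nat.dvd_prime_pow Nat.prime_three).1 (show orderOf g ∣ 3 ^ 2 from h)
  rcases Nat.eq_zero_or_pos j with rfl | hpos
  · exact absurd (orderOf_eq_one_iff.1 (hj'.trans (pow_zero 3))) hg.1
  · exact ⟨hj' ▸ dvd_pow_self 3 hpos.ne', h⟩

lemma coprime_qm_T (m : ℕ) : Nat.Coprime (qq m - 1) (tT m) ∧ Nat.Coprime (qq m + 1) (tT m) := by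
  constructor <;> refine Nat.coprime_of_dvd fun r hr h h' => ?_
  · exact (prime_dvd_tT_facts hr h').2.2.2.1 h
  · exact (prime_dvd_tT_facts hr h').2.2.2.2 h

lemma gcd_qm_qp (m : ℕ) {n : ℕ} (h : n ∣ qq m - 1) (h' : n ∣ qq m + 1) : n ∣ 2 := by
  have := Nat.dvd_sub h' h
  have hq := qq_ge m
  rwa [show qq m + 1 - (qq m - 1) = 2 by omega] at this

/-- Three times the number of elements of order dividing `q² - q + 1`. -/
theorem card_setT (hm : 1 ≤ m) :
    3 * ((setT K m).ncard : ℤ) = (qq m : ℤ) ^ 3 * ((qq m : ℤ) - 1) * ((qq m : ℤ) + 1) * ((tT m : ℤ) - qq m - 1) := by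
  classical
  have dPS : Disjoint (setP K m) (setS K m) := Set.disjoint_left.2 fun g h1 h2 => by
    have := (orderOf_setP h1).2
    rw [show orderOf g = 6 from h2] at this
    exact absurd this (by norm_num)
  have no3 : ∀ {g : G K m}, g ∈ setI K m ∨ g ∈ setH K m ∨ g ∈ setA K m ∨ g ∈ setT K m → ¬ 3 ∣ orderOf g := by
    rintro g (h | h | h | h) h3
    · rw [orderOf_setI h] at h3; exact absurd h3 (by norm_num)
    · exact (not_three_dvd_qq_pm m).1 (h3.trans (orderOf_setH h).1)
    · exact (not_three_dvd_qq_pm m).2 (h3.trans (orderOf_setA h).1)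
    · exact not_three_dvd_tT m (h3.trans h.2)
  have d3 : Disjoint (setP K m ∪ setS K m) (setI K m ∪ setH K m ∪ setA K m ∪ setT K m) :=
    Set.disjoint_left.2 fun g h1 h2 => by
      refine no3 (g := g) ?_ ?_
      · rcases h2 with ((h | h) | h) | h
        exacts [Or.inl h, Or.inr (Or.inl h), Or.inr (Or.inr (Or.inl h)), Or.inr (Or.inr (Or.inr h))]
      · rcases h1 with h | h
        · exact (orderOf_setP h).1
        · rw [show orderOf g = 6 from h]; norm_num
  have dIH : Disjoint (setI K m) (setH K m) := Set.disjoint_left.2 fun g h1 h2 =>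
    (orderOf_setH h2).2 (by rw [orderOf_setI h1])
  have dA : Disjoint (setI K m ∪ setH K m) (setA K m) := Set.disjoint_left.2 fun g h1 h2 => by
    rcases h1 with h | h
    · exact (orderOf_setA h2).2 (by rw [orderOf_setI h])
    · exact (orderOf_setA h2).2 (gcd_qm_qp m (orderOf_setH h).1 (orderOf_setA h2).1)
  have dT : Disjoint (setI K m ∪ setH K m ∪ setA K m) (setT K m) := Set.disjoint_left.2 fun g h1 h2 => by
    refine h2.1 (orderOf_eq_one_iff.1 ?_)
    rcases h1 with (h | h) | h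
    · have := h2.2
      rw [orderOf_setI h] at this
      exact absurd (even_iff_two_dvd.2 this) (Nat.not_even_iff_odd.2 (tT_odd m))
    · exact Nat.eq_one_of_dvd_coprimes (coprime_qm_T m).1 (orderOf_setH h).1 h2.2
    · exact Nat.eq_one_of_dvd_coprimes (coprime_qm_T m).2 (orderOf_setA h).1 h2.2
  have d1 : Disjoint ({1} : Set (G K m)) (setP K m ∪ setS K m ∪ (setI K m ∪ setH K m ∪ setA K m ∪ setT K m)) := by
    rw [Set.disjoint_singleton_left]
    rintro ((h | h) | ((h | h) | h) | h)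
    · exact h.1 rfl
    · have : orderOf (1 : G K m) = 6 := h
      rw [orderOf_one] at this; exact absurd this (by norm_num)
    · have := orderOf_setI h; rw [orderOf_one] at this; exact absurd this (by norm_num)
    · exact (orderOf_setH h).2 (by rw [orderOf_one]; exact one_dvd _)
    · exact (orderOf_setA h).2 (by rw [orderOf_one]; exact one_dvd _)
    · exact h.1 rfl
  have hcover : ({1} : Set (G K m)) ∪ (setP K m ∪ setS K m ∪ (setI K m ∪ setH K m ∪ setA K m ∪ setT K m)) = Set.univ := by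
    rw [Set.eq_univ_iff_forall]
    intro g
    rcases elem_cases hm g with h | h | h | h | h | h | h
    · exact Or.inl h
    · exact Or.inr (Or.inl (Or.inl h))
    · exact Or.inr (Or.inl (Or.inr h))
    · exact Or.inr (Or.inr (Or.inl (Or.inl (Or.inl h))))
    · exact Or.inr (Or.inr (Or.inl (Or.inl (Or.inr h))))
    · exact Or.inr (Or.inr (Or.inl (Or.inr h)))
    · exact Or.inr (Or.inr (Or.inr h))
  have hsum := congrArg Set.ncard hcover
  rw [Set.ncard_univ, Set.ncard_union_eq d1, Set.ncard_union_eq d3, Set.ncard_union_eq dPS, Set.ncard_union_eq dT,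
    Set.ncard_union_eq dA, Set.ncard_union_eq dIH, Set.ncard_singleton, card_setP, card_setS hm, card_setI] at hsum
  have hH := card_setH (K := K) hm
  have hA := card_setA (K := K) hm
  rw [card_G'] at hsum hH hA
  have hT' := tT_add m
  have hq1 : 3 ≤ qq m := qq_ge m
  have hq3 : 1 ≤ qq m ^ 3 := Nat.one_le_pow _ _ (by omega)
  generalize (setH K m).ncard = NH at hsum hH
  generalize (setA K m).ncard = NA at hsum hA
  generalize (setT K m).ncard = NT at hsum ⊢
  generalize tT m = T at hsum hH hA hT' ⊢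
  generalize qq m = q at hsum hH hA hT' hq1 hq3 ⊢
  zify [show 1 ≤ q by omega, hq3, show 3 ≤ q from hq1, show 4 ≤ q + 1 by omega] at hsum hH hA hT'
  have hT'' : (T : ℤ) = q * q - q + 1 := by linear_combination hT'
  rw [hT''] at hsum hH hA ⊢
  have h0 : (6 : ℤ) * ((q : ℤ) - 1) * ((q : ℤ) + 1) ≠ 0 := by
    refine mul_ne_zero (mul_ne_zero (by norm_num) ?_) ?_ <;> omega
  apply mul_left_cancel₀ h0
  linear_combination (18 * ((q : ℤ) - 1) * ((q : ℤ) + 1)) * hsum - (9 * ((q : ℤ) + 1)) * hH -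
    (3 * ((q : ℤ) - 1)) * hA

end Cfsg.Agent.Lib.Ree
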