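import Cfsg.Agent.Lib.Ree.InvolCent
import Cfsg.Agent.Lib.Ree.Arith
import Cfsg.Agent.Lib.RecogThree.PSL2Orders

/-!
The Sylow 2-subgroups of the small Ree group are elementary abelian of order eight.
-/

set_option autoImplicit false
set_option linter.unusedSectionVars false

open scoped Pointwise

namespace Cfsg.Agent.Lib.Ree

open Cfsg.Lie
open Cfsg.Agent.Lib.LieTwisted Cfsg.Agent.Lib.LieTwisted.Ree Cfsg.Agent.Lib.RecogThree.PSL2Orders

variable {K : Type*} [Field K] [CharP K 3] [Fintype K] {m : ℕ} [hF : Fact (Fintype.card K = 3 ^ (2 * m + 1))]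

lemma card_G : Nat.card (G K m) = qq m ^ 3 * (qq m - 1) * (qq m ^ 3 + 1) := card_twisted hF.out

lemma card_sylow_two (S : Sylow 2 (G K m)) : Nat.card S = 8 := by
  haveI : Fact (Nat.Prime 2) := ⟨Nat.prime_two⟩
  obtain ⟨r, hr, -, h⟩ := two_part m
  rw [Sylow.card_eq_multiplicity, card_G, h]
  have hodd : Odd (r * (qq m * qq m * tT m)) :=
    hr.mul ((((by decide : Odd 3).pow).mul ((by decide : Odd 3).pow)).mul (tT_odd m))
  rw [show (8 : ℕ) = 2 ^ 3 from rfl,
    Nat.factorization_mul (by norm_num) (Nat.pos_iff_ne_zero.1 hodd.pos), Finsupp.add_apply,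
    Nat.Prime.factorization_pow Nat.prime_two, Finsupp.single_eq_same,
    Nat.factorization_eq_zero_of_not_dvd (fun h2 => Nat.not_even_iff_odd.2 hodd (even_iff_two_dvd.2 h2))]

/-- Elements of 2-power order in `C(a)` square to one. -/
lemma sq_of_centralizer_invA {x : G K m} (hx : x ∈ Subgroup.centralizer {invA K m}) {j : ℕ}
    (hj : x ^ 2 ^ j = 1) : x * x = 1 := by
  haveI : Fact (Nat.Prime 3) := ⟨Nat.prime_three⟩
  obtain ⟨e⟩ := centralizer_invA_equiv (K := K) (m := m)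
  set x' : ↥(Subgroup.centralizer {invA K m}) := ⟨x, hx⟩
  have h2 : (e x').2 ^ 2 ^ j = 1 := by
    rw [← Prod.pow_snd, ← map_pow, show x' ^ 2 ^ j = 1 from Subtype.ext hj, map_one, Prod.snd_one]
  have hsq : (e x').2 ^ 2 = 1 := by
    have hq : Fintype.card K = qq m := hF.out
    have hdd : dd (Fintype.card K) = 2 := by
      rw [dd, if_neg]
      rw [hq, Nat.two_dvd_ne_zero, ← Nat.odd_iff]
      exact (by decide : Odd 3).pow
    have hord : orderOf (e x').2 ∣ 2 ^ j := orderOf_dvd_of_pow_eq_one h2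
    obtain ⟨k, -, hk⟩ := half_qq_odd m
    obtain ⟨l, -, hl, -⟩ := quarter_qq_odd m
    apply orderOf_dvd_iff_pow_eq_one.1
    have hcop : ∀ n, Odd n → orderOf (e x').2 ∣ 2 * n → orderOf (e x').2 ∣ 2 := by
      intro n hn hd
      exact (Nat.Coprime.dvd_mul_right (Nat.Coprime.coprime_dvd_left hord ((Nat.coprime_two_left.2 hn).pow_left j))).1 hd
    rcases orderOf_cases 3 (e x').2 with h | h | h
    · exact hcop 3 (by decide) (h.mul_left 2)
    · rw [hdd, hq, hk] at h
      exact hcop _ ⟨k, rfl⟩ (h.mul_left 2)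
    · rw [hdd, hq, hl] at h
      exact hcop _ ⟨l, rfl⟩ h
  have h1 : (e x').1 * (e x').1 = 1 := (by decide : ∀ z : Multiplicative (ZMod 2), z * z = 1) _
  have : x' * x' = 1 := e.injective (by
    rw [map_mul, map_one]
    exact Prod.ext h1 (by rw [Prod.snd_mul, Prod.snd_one, ← pow_two]; exact hsq))
  exact congrArg Subtype.val this

lemma exists_sylow_in_centralizer :
    ∃ S : Sylow 2 (G K m), (S : Subgroup (G K m)) ≤ Subgroup.centralizer {invA K m} := by
  haveI : Fact (Nat.Prime 2) := ⟨Nat.prime_two⟩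
  obtain ⟨r, -, hr, -⟩ := two_part m
  have h8 : 2 ^ 3 ∣ Nat.card ↥(Subgroup.centralizer {invA K m}) := ⟨r, by rw [card_centralizer_invA]; exact hr⟩
  obtain ⟨P, hP⟩ := Sylow.exists_subgroup_card_pow_prime 2 h8
  obtain ⟨S, hS⟩ := (IsPGroup.of_card (G := ↥(P.map (Subgroup.centralizer {invA K m}).subtype)) (n := 3)
    (by rw [Subgroup.card_subtype, hP])).exists_le_sylow
  refine ⟨S, ?_⟩
  rw [← Subgroup.eq_of_le_of_card_ge hS (by rw [card_sylow_two, Subgroup.card_subtype, hP]; norm_num)]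
  exact Subgroup.map_subtype_le _

theorem sylow_two_exponent (S : Sylow 2 (G K m)) : ∀ x ∈ S, x * x = 1 := by
  haveI : Fact (Nat.Prime 2) := ⟨Nat.prime_two⟩
  obtain ⟨S0, hS0⟩ := exists_sylow_in_centralizer (K := K) (m := m)
  obtain ⟨g, rfl⟩ := MulAction.exists_smul_eq (G K m) S0 S
  intro x hx
  change x ∈ ((g • S0 : Sylow 2 (G K m)) : Subgroup (G K m)) at hx
  rw [Sylow.smul_def, Sylow.pointwise_smul_def, Subgroup.mem_pointwise_smul_iff_inv_smul_mem] at hx
  change (MulAut.conj g)⁻¹ x ∈ (S0 : Subgroup (G K m)) at hx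
  obtain ⟨n, hn⟩ := S0.2 ⟨_, hx⟩
  have hy2 := sq_of_centralizer_invA (hS0 hx) (j := n) (congrArg Subtype.val hn)
  exact ((MulAut.conj g)⁻¹).injective (by rw [map_mul, hy2, map_one])

lemma eq_invA {a : G K m} (haH : (a : GL chevG2.Idx K) ∈ chevG2.diagonalSubgroup K) (ha1 : a ≠ 1)
    (ha2 : a * a = 1) : a = invA K m := by
  obtain ⟨y, hy'⟩ := (mem_diag_twisted hF.out _).1 ⟨haH, a.2⟩
  have ha : a = gH y := Subtype.ext hy'
  subst ha
  rw [← map_mul, ← map_one (gH : Kˣ →* G K m)] at ha2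
  have h2 : (y : K) * y = 1 := congrArg Units.val (gH_injective ha2)
  rcases mul_self_eq_one_iff.1 h2 with h | h
  · exact absurd (by rw [show y = 1 from Units.ext h, map_one]) ha1
  · rw [show y = -1 from Units.ext h]

end Cfsg.Agent.Lib.Ree
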