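import Cfsg.Agent.Lib.Ree.Basic
import Cfsg.Agent.Lib.ChevStructure.RankOne
import Cfsg.Agent.Lib.Linear.Order
import Cfsg.Agent.Lib.SL2Tori.Products

/-!
The centraliser of the diagonal involution of the small Ree group is `Z₂ × PSL₂(q)`.
-/

set_option autoImplicit false
set_option linter.unusedSectionVars false

namespace Cfsg.Agent.Lib.Ree

open Cfsg.Lie
open Cfsg.Agent.Lib.LieTwisted Cfsg.Agent.Lib.LieTwisted.Ree Cfsg.Agent.Lib.ChevStructure
open scoped MatrixGroups

/-- The pairs of commuting root subgroups used for the diagonal `SL₂`. -/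
theorem comm_diag : [(10, 3), (1, 8), (1, 3)].all (fun p : ℕ × ℕ =>
    SparseRoot.sameWordC chevG2 3 [(p.1, (1, 1, 0)), (p.2, (1, 0, 1))]
      [(p.2, (1, 0, 1)), (p.1, (1, 1, 0))]) = true := by decide +kernel

variable {K : Type*} [Field K] [CharP K 3] [Fintype K] {m : ℕ} [hF : Fact (Fintype.card K = 3 ^ (2 * m + 1))]

/-- The diagonal involution. -/
noncomputable abbrev invA (K : Type*) [Field K] [CharP K 3] [Fintype K] (m : ℕ)
    [Fact (Fintype.card K = 3 ^ (2 * m + 1))] : G K m := gH (-1)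

omit [Fintype K] hF in
lemma x_comm' {r s : ℕ} (h : (r, s) ∈ [(10, 3), (1, 8), (1, 3)]) (u t : K) :
    xe (Fin.ofNat chevG2.nroots r) u * xe (Fin.ofNat chevG2.nroots s) t =
      xe (Fin.ofNat chevG2.nroots s) t * xe (Fin.ofNat chevG2.nroots r) u := by
  simpa [evalG, ofNat_eq] using eq_of_sameWord (List.all_eq_true.1 comm_diag (r, s) h) u t

omit [Fintype K] hF in
lemma slU_slL_generate : (⊤ : Subgroup SL(2, K)) =
    Subgroup.closure ({x | ∃ t : K, x = slU t} ∪ {x | ∃ t : K, x = slL t}) := by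
  refine le_antisymm (fun g _ => ?_) le_top
  obtain ⟨y, hy⟩ := C2.slGraph_fst_surj K (8 : Rt chevG2) g
  have := Subgroup.mem_map_of_mem (MonoidHom.fst SL(2, K) (GL chevG2.Idx K)) hy
  rw [Core.slGraph, MonoidHom.map_closure] at this
  refine Subgroup.closure_mono ?_ this
  rintro _ ⟨z, (⟨t, rfl⟩ | ⟨t, rfl⟩), rfl⟩
  · exact Or.inl ⟨t, rfl⟩
  · exact Or.inr ⟨t, rfl⟩

/-- The diagonal `SL₂` of the small Ree group. -/
theorem exists_phi : ∃ φ : SL(2, K) →* G K m, ∀ t : K,
    φ (slU t) = gU 0 t 0 ∧ φ (slL t) = w0 m * gU 0 (-t) 0 * w0 m := by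
  obtain ⟨φ8, hr8, h8⟩ := C2.exists_slHom K (8 : Rt chevG2)
  obtain ⟨φ10, hr10, h10⟩ := C2.exists_slHom K (10 : Rt chevG2)
  set Fr : SL(2, K) →* SL(2, K) := Matrix.SpecialLinearGroup.map (phi m) with hFr
  have hFrU : ∀ t : K, Fr (slU t) = slU (t ^ 3 ^ m) := fun t => by
    apply Subtype.ext
    ext i j
    fin_cases i <;> fin_cases j <;> simp [hFr, phi_apply, (show (3 : ℕ) ^ m ≠ 0 by positivity)]
  have hFrL : ∀ t : K, Fr (slL t) = slL (t ^ 3 ^ m) := fun t => by
    apply Subtype.ext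
    ext i j
    fin_cases i <;> fin_cases j <;> simp [hFr, phi_apply, (show (3 : ℕ) ^ m ≠ 0 by positivity)]
  have hcomm : ∀ a b, Commute (φ8 a) (φ10 b) := by
    have hgen : ∀ s ∈ ({x | ∃ t : K, x = slU t} ∪ {x | ∃ t : K, x = slL t} : Set SL(2, K)),
        ∀ s' ∈ ({x | ∃ t : K, x = slU t} ∪ {x | ∃ t : K, x = slL t} : Set SL(2, K)), Commute (φ8 s) (φ10 s') := by
      rintro _ (⟨t, rfl⟩ | ⟨t, rfl⟩) _ (⟨u, rfl⟩ | ⟨u, rfl⟩) <;>
        simp only [(h8 t).1, (h8 t).2, (h10 u).1, (h10 u).2, Commute, SemiconjBy]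
      · exact (x108 u t).symm
      · exact (x_comm' (r := 1) (s := 8) (by simp) u t).symm
      · exact (x_comm' (r := 10) (s := 3) (by simp) u t).symm
      · exact (x_comm' (r := 1) (s := 3) (by simp) u t).symm
    intro a b
    have h1 : ∀ s ∈ ({x | ∃ t : K, x = slU t} ∪ {x | ∃ t : K, x = slL t} : Set SL(2, K)), Commute (φ8 s) (φ10 b) := by
      intro s hs
      have hb : b ∈ Subgroup.closure ({x | ∃ t : K, x = slU t} ∪ {x | ∃ t : K, x = slL t}) :=
        slU_slL_generate (K := K) ▸ Subgroup.mem_top b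
      induction hb using Subgroup.closure_induction with
      | mem x hx => exact hgen s hs x hx
      | one => rw [map_one]; exact Commute.one_right _
      | mul x y _ _ hx hy => rw [map_mul]; exact hx.mul_right hy
      | inv x _ hx => rw [map_inv]; exact hx.inv_right
    have ha : a ∈ Subgroup.closure ({x | ∃ t : K, x = slU t} ∪ {x | ∃ t : K, x = slL t}) :=
      slU_slL_generate (K := K) ▸ Subgroup.mem_top a
    induction ha using Subgroup.closure_induction with
    | mem x hx => exact h1 x hx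
    | one => rw [map_one]; exact Commute.one_left _
    | mul x y _ _ hx hy => rw [map_mul]; exact hx.mul_left hy
    | inv x _ hx => rw [map_inv]; exact hx.inv_left
  let φ0 : SL(2, K) →* GL chevG2.Idx K := MonoidHom.mk' (fun g => φ8 (Fr g) * φ10 g) fun a b => by
    rw [map_mul, map_mul, map_mul]
    exact (hcomm (Fr b) a).mul_mul_mul_comm _ _
  have he : (3 : ℕ) ^ m ≠ 0 := by positivity
  have hu0 : ∀ t : K, reeU m 0 t 0 = xe 8 (t ^ 3 ^ m) * xe 10 t := by
    intro t; simp [reeU, ordP, xe_zero, zero_pow he]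
  have hU : ∀ t : K, φ0 (slU t) = reeU m 0 t 0 := by
    intro t
    show φ8 (Fr (slU t)) * φ10 (slU t) = _
    rw [hFrU, (h8 _).1, (h10 _).1, hu0]
  have hL : ∀ t : K, φ0 (slL t) = n0 * reeU m 0 (-t) 0 * n0 := by
    intro t
    show φ8 (Fr (slL t)) * φ10 (slL t) = _
    rw [hFrL, (h8 _).2, (h10 _).2, hu0]
    have := n0_word_conj [((8 : Rt chevG2), (-t) ^ 3 ^ m), ((10 : Rt chevG2), -t)]
    simpa [nP, (odd_pow m).neg_pow, mul_assoc] using this.symm
  have hmem : ∀ g, φ0 g ∈ Cfsg.Lie.twistedG2 K (3 ^ m) := by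
    intro g
    have : Subgroup.closure ({x | ∃ t : K, x = slU t} ∪ {x | ∃ t : K, x = slL t}) ≤
        (Cfsg.Lie.twistedG2 K (3 ^ m)).comap φ0 := by
      rw [Subgroup.closure_le]
      rintro _ (⟨t, rfl⟩ | ⟨t, rfl⟩)
      · rw [SetLike.mem_coe, Subgroup.mem_comap, hU]; exact reeU_mem m _ _ _
      · rw [SetLike.mem_coe, Subgroup.mem_comap, hL]; exact mul_mem (mul_mem (n0_mem m) (reeU_mem m _ _ _)) (n0_mem m)
    exact this (slU_slL_generate (K := K) ▸ Subgroup.mem_top g)
  exact ⟨φ0.codRestrict _ hmem, fun t => ⟨Subtype.ext (hU t), Subtype.ext (hL t)⟩⟩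

/-- The chosen homomorphism `SL₂(K) → G¹`. -/
noncomputable def phiA : SL(2, K) →* G K m := (exists_phi (K := K) (m := m)).choose

lemma phiA_slU (t : K) : phiA (slU t) = (gU 0 t 0 : G K m) := ((exists_phi (K := K) (m := m)).choose_spec t).1
lemma phiA_slL (t : K) : phiA (slL t) = (w0 m * gU 0 (-t) 0 * w0 m : G K m) :=
  ((exists_phi (K := K) (m := m)).choose_spec t).2

lemma phiA_slN_one : phiA (slN (1 : Kˣ)) = (w0 m : G K m) := by
  rw [slN, map_mul, map_mul, phiA_slU, phiA_slL]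
  simp only [Units.val_one, inv_one, neg_neg]
  apply Subtype.ext
  have he : (3 : ℕ) ^ m ≠ 0 := by positivity
  show reeU m 0 1 0 * (n0 * reeU m 0 1 0 * n0) * reeU m 0 1 0 = n0
  have hu : reeU m (0 : K) 1 0 = wordG [((8 : Rt chevG2), (1 : K)), ((10 : Rt chevG2), 1)] := by
    simp [reeU, ordP, xe_zero, zero_pow he]
  rw [hu, n0_word_conj, ← wordG_append, ← wordG_append]
  simp [nP, n0]
  rfl

lemma slN_one_sq : (slN (1 : Kˣ) : SL(2, K)) * slN 1 = Cfsg.Agent.Lib.PSLTwo.Sylow.negOne := by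
  apply Subtype.ext
  simp [slN_val, Cfsg.Agent.Lib.PSLTwo.Sylow.negOne, Matrix.mul_fin_two, Matrix.SpecialLinearGroup.coe_mul]

lemma phiA_negOne : phiA (Cfsg.Agent.Lib.PSLTwo.Sylow.negOne : SL(2, K)) = (1 : G K m) := by
  rw [← slN_one_sq, map_mul, phiA_slN_one, w0_mul_self]

lemma slH_conj_slU (u : Kˣ) (t : K) :
    (slH u : SL(2, K)) * slU t = slU ((u : K) * u * t) * slH u := by
  apply Subtype.ext
  simp [slH_val, slU_val, Matrix.mul_fin_two, Matrix.SpecialLinearGroup.coe_mul]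
  field_simp

lemma phiA_slH_gU (u : Kˣ) (t : K) :
    (phiA (slH u) : G K m) * gU 0 t 0 * (phiA (slH u))⁻¹ = gU 0 ((u : K) * u * t) 0 := by
  rw [← phiA_slU, ← phiA_slU, ← map_mul, slH_conj_slU, map_mul, mul_inv_cancel_right]

lemma phiA_slH_mem (u : Kˣ) : (phiA (slH u) : G K m) ∈ B1 (K := K) m := by
  by_contra h
  have h1 := conj_not_B1 h (gU_mem_U1 (m := m) 0 1 0) (by rw [phiA_slH_gU]; exact gU_mem_B1 _ _ _)
  rw [← gU_zero] at h1
  exact one_ne_zero (gU_inj h1).2.1

lemma phiA_kernel {g : SL(2, K)} (h : phiA g = (1 : G K m)) : g = 1 ∨ g = Cfsg.Agent.Lib.PSLTwo.Sylow.negOne := by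
  obtain ⟨y, hy⟩ := C2.slGraph_fst_surj K (8 : Rt chevG2) g
  rcases C2.slGraph_cases K (8 : Rt chevG2) hy with ⟨t, u, e⟩ | ⟨t, u, s, e⟩
  · have eg : g = slU t * slH u := congrArg Prod.fst e
    rw [eg, map_mul, phiA_slU, mul_eq_one_iff_inv_eq, gU0_inv] at h
    have h2 := phiA_slH_gU (m := m) u 1
    rw [← h, gU0_inv, gU0_mul, gU0_mul] at h2
    have h3 := (gU_inj h2).2.1
    simp only [mul_one, neg_neg] at h3
    have hu : (u : K) * u = 1 := by linear_combination -h3
    have hu' : u = 1 ∨ u = -1 := by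
      rcases mul_self_eq_one_iff.1 hu with h4 | h4
      · exact Or.inl (Units.ext h4)
      · exact Or.inr (Units.ext h4)
    have hH : (slH u : SL(2, K)) = 1 ∨ (slH u : SL(2, K)) = Cfsg.Agent.Lib.PSLTwo.Sylow.negOne := by
      rcases hu' with rfl | rfl
      · left; apply Subtype.ext; simp [slH_val, Matrix.one_fin_two]
      · right; apply Subtype.ext; simp [slH_val, Cfsg.Agent.Lib.PSLTwo.Sylow.negOne]
    have h0 : (phiA (slH u) : G K m) = 1 := by
      rcases hH with e' | e' <;> rw [e']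
      · exact map_one _
      · exact phiA_negOne
    rw [← h, ← gU_zero] at h0
    have ht : t = 0 := neg_eq_zero.1 (gU_inj h0).2.1
    rw [eg, ht, show (slU (0 : K) : SL(2, K)) = 1 from Subtype.ext (by simp [Matrix.one_fin_two]), one_mul]
    exact hH
  · exfalso
    have eg : g = slU t * slH u * slN 1 * slU s := congrArg Prod.fst e
    rw [eg, map_mul, map_mul, map_mul, phiA_slU, phiA_slU, phiA_slN_one] at h
    obtain ⟨a, b, c, z, e'⟩ := mem_B1_iff.1 (mul_mem (gU_mem_B1 (m := m) 0 t 0) (phiA_slH_mem (m := m) u))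
    rw [e'] at h
    exact big_not_B1 (m := m) a b c z 0 s 0 (h ▸ one_mem _)

lemma center_eq_ker : (phiA : SL(2, K) →* G K m).ker = Subgroup.center SL(2, K) := by
  ext g
  rw [MonoidHom.mem_ker]
  constructor
  · intro h
    rcases phiA_kernel h with rfl | rfl
    · exact one_mem _
    · exact Cfsg.Agent.Lib.SL2Tori.Products.negOne_mem_center
  · intro h
    rcases Cfsg.Agent.Lib.SL2Tori.Products.mem_center_cases h with rfl | rfl
    · exact map_one _
    · exact phiA_negOne

/-- The embedding of `PSL₂(K)`. -/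
noncomputable def psiA : Matrix.ProjectiveSpecialLinearGroup (Fin 2) K →* G K m :=
  QuotientGroup.lift _ phiA (center_eq_ker (K := K) (m := m)).ge

lemma psiA_proj (g : SL(2, K)) : psiA (Cfsg.Agent.Lib.SL2Tori.Products.proj g) = (phiA g : G K m) := rfl

lemma psiA_injective : Function.Injective (psiA : Matrix.ProjectiveSpecialLinearGroup (Fin 2) K →* G K m) := by
  rw [injective_iff_map_eq_one]
  intro x hx
  obtain ⟨g, rfl⟩ := Cfsg.Agent.Lib.SL2Tori.Products.proj_surjective x
  rw [psiA_proj, ← MonoidHom.mem_ker, center_eq_ker] at hx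
  exact (QuotientGroup.eq_one_iff g).2 hx

lemma invA_comm_gU0 (u : K) : Commute (invA K m) (gU 0 u 0) := by
  show _ = _
  rw [a_gU]; simp

lemma invA_comm_w0 : Commute (invA K m) (w0 m) := by
  show _ = _
  rw [gH_w0]; simp

lemma phiA_mem_centralizer (g : SL(2, K)) : phiA g ∈ Subgroup.centralizer {invA K m} := by
  have : Subgroup.closure ({x | ∃ t : K, x = slU t} ∪ {x | ∃ t : K, x = slL t}) ≤
      (Subgroup.centralizer {invA K m}).comap phiA := by
    rw [Subgroup.closure_le]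
    rintro _ (⟨t, rfl⟩ | ⟨t, rfl⟩) <;> rw [SetLike.mem_coe, Subgroup.mem_comap, Subgroup.mem_centralizer_iff] <;>
      rintro _ rfl
    · rw [phiA_slU]; exact (invA_comm_gU0 t).eq
    · rw [phiA_slL]; exact ((invA_comm_w0.mul_right (invA_comm_gU0 _)).mul_right invA_comm_w0).eq
  exact this (slU_slL_generate (K := K) ▸ Subgroup.mem_top g)

set_option maxHeartbeats 1000000 in
/-- The centraliser of the diagonal involution in Bruhat coordinates. -/
theorem centralizer_invA_cases {g : G K m} (hg : g ∈ Subgroup.centralizer {invA K m}) :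
    (∃ (u : K) (z : Kˣ), g = gU 0 u 0 * gH z) ∨
      ∃ (u : K) (z : Kˣ) (u' : K), g = gU 0 u 0 * gH z * w0 m * gU 0 u' 0 := by
  have hc : invA K m * g = g * invA K m := Subgroup.mem_centralizer_iff.1 hg _ rfl
  have hz : ∀ x : K, -x = x → x = 0 := fun x hx => by
    have h3 : (3 : K) = 0 := CharP.cast_eq_zero K 3
    linear_combination hx + x * h3
  rcases gcases g with ⟨t, u, v, z, rfl⟩ | ⟨t, u, v, z, a, b, c, rfl⟩
  · rw [← mul_assoc, a_gU, mul_assoc, mul_assoc, ← map_mul, ← map_mul] at hc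
    obtain ⟨⟨e1, -, e3⟩, -⟩ := small_inj hc
    exact Or.inl ⟨u, z, by rw [hz t e1, hz v e3]⟩
  · have el : invA K m * (gU t u v * gH z * w0 m * gU a b c) = gU (-t) u (-v) * gH (-1 * z) * w0 m * gU a b c := by
      simp only [← mul_assoc, a_gU, map_mul]
    have er : (gU t u v * gH z * w0 m * gU a b c) * invA K m =
        gU t u v * gH (-1 * z) * w0 m * gU (-a) b (-c) := by
      have e' : (gU a b c : G K m) * gH (-1) = gH (-1) * gU (-a) b (-c) := by rw [a_gU, neg_neg, neg_neg]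
      have ew : (w0 m : G K m) * gH (-1) = gH (-1) * w0 m := invA_comm_w0.eq.symm
      rw [mul_assoc (_ * w0 m), e', ← mul_assoc, mul_assoc (gU t u v * gH z) (w0 m), ew, ← mul_assoc,
        mul_assoc (gU t u v), ← map_mul, mul_comm z]
    obtain ⟨⟨⟨e1, -, e3⟩, -⟩, e4, -, e6⟩ := big_inj (el.symm.trans (hc.trans er))
    exact Or.inr ⟨u, z, b, by rw [hz t e1, hz v e3, hz a e4.symm, hz c e6.symm]⟩

lemma gH_mem_centralizer (z : Kˣ) : (gH z : G K m) ∈ Subgroup.centralizer {invA K m} := by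
  rw [Subgroup.mem_centralizer_iff]
  rintro _ rfl
  rw [← map_mul, ← map_mul, mul_comm]

set_option maxHeartbeats 1000000 in
theorem card_centralizer_invA : Nat.card ↥(Subgroup.centralizer {invA K m}) =
    3 ^ (2 * m + 1) * (3 ^ (2 * m + 1) - 1) * (3 ^ (2 * m + 1) + 1) := by
  classical
  have hu : ∀ u : K, (gU 0 u 0 : G K m) ∈ Subgroup.centralizer {invA K m} := fun u => by
    rw [Subgroup.mem_centralizer_iff]
    rintro _ rfl
    exact (invA_comm_gU0 u).eq
  have hw : (w0 m : G K m) ∈ Subgroup.centralizer {invA K m} := by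
    rw [Subgroup.mem_centralizer_iff]
    rintro _ rfl
    exact invA_comm_w0.eq
  let v : (K × Kˣ) ⊕ (K × Kˣ × K) → G K m :=
    Sum.elim (fun p => gU 0 p.1 0 * gH p.2) (fun p => gU 0 p.1 0 * gH p.2.1 * w0 m * gU 0 p.2.2 0)
  have hv : ∀ p, v p ∈ Subgroup.centralizer {invA K m} := by
    rintro (⟨u, z⟩ | ⟨u, z, u'⟩)
    · exact mul_mem (hu _) (gH_mem_centralizer _)
    · exact mul_mem (mul_mem (mul_mem (hu _) (gH_mem_centralizer _)) hw) (hu _)
  have hnB : ∀ (u : K) (z : Kˣ) (a : K) (b : Kˣ) (c : K),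
      (gU 0 u 0 * gH z : G K m) ≠ gU 0 a 0 * gH b * w0 m * gU 0 c 0 := by
    intro u z a b c h
    apply big_not_B1 (m := m) 0 a 0 b 0 c 0
    rw [← h]
    exact mul_mem (gU_mem_B1 _ _ _) (gH_mem_B1 _)
  have hinj : Function.Injective v := by
    rintro (⟨u, z⟩ | ⟨u, z, u'⟩) (⟨a, b⟩ | ⟨a, b, c⟩) h
    · obtain ⟨⟨-, h1, -⟩, h2⟩ := small_inj (show (gU 0 u 0 * gH z : G K m) = gU 0 a 0 * gH b from h)
      rw [h1, h2]
    · exact absurd (show (gU 0 u 0 * gH z : G K m) = gU 0 a 0 * gH b * w0 m * gU 0 c 0 from h) (hnB u z a b c)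
    · exact absurd (show (gU 0 a 0 * gH b : G K m) = gU 0 u 0 * gH z * w0 m * gU 0 u' 0 from h.symm) (hnB a b u z u')
    · obtain ⟨⟨⟨-, h1, -⟩, h2⟩, -, h3, -⟩ := big_inj
        (show (gU 0 u 0 * gH z * w0 m * gU 0 u' 0 : G K m) = gU 0 a 0 * gH b * w0 m * gU 0 c 0 from h)
      rw [h1, h2, h3]
  let f : (K × Kˣ) ⊕ (K × Kˣ × K) → ↥(Subgroup.centralizer {invA K m}) := fun p => ⟨v p, hv p⟩
  have hf : Function.Bijective f := by
    refine ⟨fun p q h => hinj (congrArg Subtype.val h), ?_⟩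
    rintro ⟨g, hg⟩
    rcases centralizer_invA_cases hg with ⟨u, z, e⟩ | ⟨u, z, u', e⟩
    · exact ⟨Sum.inl (u, z), Subtype.ext e.symm⟩
    · exact ⟨Sum.inr (u, z, u'), Subtype.ext e.symm⟩
  rw [← Nat.card_congr (Equiv.ofBijective f hf), Nat.card_sum, Nat.card_prod, Nat.card_prod, Nat.card_prod,
    card_K (m := m), card_units_K (m := m)]
  ring

lemma odd_q (m : ℕ) : Odd (3 ^ (2 * m + 1)) := (by decide : Odd 3).pow

theorem two_mul_card_PSL : 2 * Nat.card (Matrix.ProjectiveSpecialLinearGroup (Fin 2) K) =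
    3 ^ (2 * m + 1) * (3 ^ (2 * m + 1) - 1) * (3 ^ (2 * m + 1) + 1) := by
  rw [← hF.out]
  exact Cfsg.Agent.Lib.Linear.two_mul_card_PSL_two_of_odd (hF.out ▸ odd_q m)

lemma invA_ne_one : invA K m ≠ 1 := by
  intro h
  have h' : (-1 : Kˣ) = 1 := gH_injective (m := m) (by rw [map_one]; exact h)
  have h2 : (-1 : K) = 1 := congrArg Units.val h'
  have h3 : (3 : K) = 0 := CharP.cast_eq_zero K 3
  exact one_ne_zero (by linear_combination h3 + h2 : (1 : K) = 0)

/-- `a` is not in the diagonal `PSL₂`. -/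
lemma invA_not_range : invA K m ∉ (psiA : Matrix.ProjectiveSpecialLinearGroup (Fin 2) K →* G K m).range := by
  rintro ⟨x, hx⟩
  obtain ⟨g, rfl⟩ := Cfsg.Agent.Lib.SL2Tori.Products.proj_surjective x
  rw [psiA_proj] at hx
  have hc : ∀ h : SL(2, K), phiA (g * h * g⁻¹ * h⁻¹) = (1 : G K m) := by
    intro h
    simp only [map_mul, map_inv, hx]
    rw [Subgroup.mem_centralizer_iff.1 (phiA_mem_centralizer h) _ rfl, mul_inv_cancel_right, mul_inv_cancel]
  obtain ⟨⟨a, b, c, d, hmat⟩, hdet⟩ : (∃ a b c d : K, (g : Matrix (Fin 2) (Fin 2) K) = !![a, b; c, d]) ∧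
      (g : Matrix (Fin 2) (Fin 2) K).det = 1 := ⟨⟨_, _, _, _, Matrix.eta_fin_two _⟩, g.2⟩
  have h3 : (3 : K) = 0 := CharP.cast_eq_zero K 3
  have key : ∀ h : SL(2, K), (g : Matrix (Fin 2) (Fin 2) K) * (h : Matrix (Fin 2) (Fin 2) K) =
      (h : Matrix (Fin 2) (Fin 2) K) * g ∨ (g : Matrix (Fin 2) (Fin 2) K) * (h : Matrix (Fin 2) (Fin 2) K) =
      -((h : Matrix (Fin 2) (Fin 2) K) * g) := by
    intro h
    rcases phiA_kernel (hc h) with e | e
    · left
      rw [mul_inv_eq_one, mul_inv_eq_iff_eq_mul] at e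
      exact congrArg Subtype.val e
    · right
      rw [mul_inv_eq_iff_eq_mul, mul_inv_eq_iff_eq_mul, mul_assoc] at e
      have e' := congrArg Subtype.val e
      rw [Matrix.SpecialLinearGroup.coe_mul, Matrix.SpecialLinearGroup.coe_mul, Matrix.SpecialLinearGroup.coe_mul] at e'
      rw [e', show ((Cfsg.Agent.Lib.PSLTwo.Sylow.negOne : SL(2, K)) : Matrix (Fin 2) (Fin 2) K) = -1 by
        ext i j; fin_cases i <;> fin_cases j <;> simp [Cfsg.Agent.Lib.PSLTwo.Sylow.negOne], neg_mul, one_mul]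
  have hU := key (slU 1)
  have hL := key (slL 1)
  rw [hmat, Matrix.det_fin_two_of] at hdet
  simp only [hmat, slU_val, slL_val, Matrix.mul_fin_two] at hU hL
  have e1 : c = 0 := by
    rcases hU with e | e
    · have := congrFun (congrFun e 0) 0; simp at this; exact this
    · have e' := congrFun (congrFun e 1) 0
      simp at e'
      linear_combination (-1 : K) * e' + c * h3
  have e2 : b = 0 := by
    rcases hL with e | e
    · have := congrFun (congrFun e 0) 0; simp at this; exact this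
    · have e' := congrFun (congrFun e 0) 1
      simp at e'
      linear_combination (-1 : K) * e' + b * h3
  subst e1 e2
  have had : a = d := by
    rcases hU with e | e
    · have := congrFun (congrFun e 0) 1; simpa using this
    · exfalso
      have e' := congrFun (congrFun e 0) 0
      simp at e'
      have : a = 0 := by linear_combination (-1 : K) * e' + a * h3
      rw [this] at hdet; simp at hdet
  subst had
  have hg : g = 1 ∨ g = Cfsg.Agent.Lib.PSLTwo.Sylow.negOne := by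
    have haa : a * a = 1 := by linear_combination hdet
    rcases mul_self_eq_one_iff.1 haa with rfl | rfl
    · left; exact Subtype.ext (by rw [hmat]; simp [Matrix.one_fin_two])
    · right; exact Subtype.ext (by rw [hmat]; simp [Cfsg.Agent.Lib.PSLTwo.Sylow.negOne])
  refine invA_ne_one (K := K) (m := m) ?_
  rw [← hx]
  rcases hg with rfl | rfl
  · exact map_one _
  · exact phiA_negOne

/-- The isomorphism `C(a) ≅ Z₂ × PSL₂(q)`. -/
theorem centralizer_invA_equiv :
    Nonempty (↥(Subgroup.centralizer {invA K m}) ≃*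
      Multiplicative (ZMod 2) × Matrix.ProjectiveSpecialLinearGroup (Fin 2) K) := by
  classical
  have hpow : invA K m ^ 2 = 1 := by rw [pow_two]; exact a_sq
  let e0 : Multiplicative (ZMod 2) →* G K m :=
    { toFun := fun c => invA K m ^ (Multiplicative.toAdd c).val
      map_one' := by simp
      map_mul' := fun x y => by
        rw [← pow_add, pow_eq_pow_mod _ hpow, pow_eq_pow_mod ((Multiplicative.toAdd x).val + _) hpow, toAdd_mul, ZMod.val_add]
        simp }
  have hcom : ∀ (x : Multiplicative (ZMod 2)) (y : Matrix.ProjectiveSpecialLinearGroup (Fin 2) K),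
      Commute (e0 x) (psiA y : G K m) := by
    intro x y
    obtain ⟨g, rfl⟩ := Cfsg.Agent.Lib.SL2Tori.Products.proj_surjective y
    refine Commute.pow_left ?_ _
    exact Subgroup.mem_centralizer_iff.1 (phiA_mem_centralizer g) _ rfl
  let F : Multiplicative (ZMod 2) × Matrix.ProjectiveSpecialLinearGroup (Fin 2) K →* G K m :=
    MonoidHom.noncommCoprod e0 psiA hcom
  have hFmem : ∀ p, F p ∈ Subgroup.centralizer {invA K m} := by
    rintro ⟨x, y⟩
    obtain ⟨g, rfl⟩ := Cfsg.Agent.Lib.SL2Tori.Products.proj_surjective y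
    exact mul_mem (pow_mem (Subgroup.mem_centralizer_iff.2 (by rintro _ rfl; rfl)) _) (phiA_mem_centralizer g)
  have hinj : Function.Injective (F.codRestrict _ hFmem) := by
    rw [injective_iff_map_eq_one]
    rintro ⟨x, y⟩ h
    have h' : e0 x * psiA y = (1 : G K m) := congrArg Subtype.val h
    have hx : x = 1 ∨ x = Multiplicative.ofAdd 1 :=
      (by decide : ∀ z : Multiplicative (ZMod 2), z = 1 ∨ z = Multiplicative.ofAdd 1) x
    rcases hx with rfl | rfl
    · rw [map_one, one_mul] at h'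
      rw [psiA_injective (h'.trans (map_one _).symm)]
      rfl
    · exfalso
      refine invA_not_range (K := K) (m := m) ⟨y⁻¹, ?_⟩
      rw [map_inv, ← mul_eq_one_iff_eq_inv.1 h']
      exact pow_one _
  have hcard : Nat.card (Multiplicative (ZMod 2) × Matrix.ProjectiveSpecialLinearGroup (Fin 2) K) =
      Nat.card ↥(Subgroup.centralizer {invA K m}) := by
    rw [Nat.card_prod, card_centralizer_invA, Nat.card_congr Multiplicative.toAdd, Nat.card_zmod,
      two_mul_card_PSL (m := m)]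
  exact ⟨(MulEquiv.ofBijective _ ((Nat.bijective_iff_injective_and_card _).2 ⟨hinj, hcard⟩)).symm⟩

end Cfsg.Agent.Lib.Ree
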