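import Cfsg.Agent.Lib.Ree.SylowTwo

/-!
`|N(S)| = 168` for a Sylow 2-subgroup of the small Ree group, and all involutions are conjugate.
-/

set_option autoImplicit false
set_option linter.unusedSectionVars false

open scoped Pointwise

namespace Cfsg.Agent.Lib.Ree

open Cfsg.Lie
open Cfsg.Agent.Lib.LieTwisted Cfsg.Agent.Lib.LieTwisted.Ree Cfsg.Agent.Lib.ChevStructure
open Cfsg.Agent.Lib.SL2Tori.Products (proj proj_surjective proj_eq_iff)
open Cfsg.Agent.Lib.PSLTwo.Sylow (negOne)
open scoped MatrixGroups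

variable {K : Type*} [Field K] [CharP K 3] [Fintype K] {m : ℕ} [hF : Fact (Fintype.card K = 3 ^ (2 * m + 1))]

variable (K m) in
/-- The normaliser of the standard Sylow 2-subgroup. -/
noncomputable def normE : Subgroup (G K m) := Subgroup.normalizer (sylE K m : Set (G K m))

lemma sylE_le_normE : sylE K m ≤ normE K m := Subgroup.le_normalizer

lemma mem_sylE_conj {g x : G K m} (hg : g ∈ normE K m) (hx : x ∈ sylE K m) : g * x * g⁻¹ ∈ sylE K m :=
  (Subgroup.mem_normalizer_iff.1 hg x).1 hx

lemma cOrb_sub {N : Subgroup (G K m)} (hN : N ≤ normE K m) {x : G K m} (hx : x ∈ sylE K m) :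
    cOrb N x ⊆ sylE K m := by
  rintro y ⟨n, hn, rfl⟩; exact mem_sylE_conj (hN hn) hx

/-- Orbits of a subgroup of `N(S)` containing `S` on `S` have odd size. -/
lemma cOrb_odd {N : Subgroup (G K m)} (hEN : sylE K m ≤ N) {x : G K m} (hx : x ∈ sylE K m) :
    Odd (cOrb N x).ncard := by
  haveI : Fact (Nat.Prime 2) := ⟨Nat.prime_two⟩
  obtain ⟨r, hr, -, hG⟩ := two_part m
  have h := cOrb_mul_centralizer N x
  have hle : sylE K m ≤ N ⊓ Subgroup.centralizer {x} :=
    le_inf hEN fun y hy => Subgroup.mem_centralizer_iff.2 (by rintro _ rfl; exact sylE_comm _ hx y hy)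
  obtain ⟨c, hc⟩ := Subgroup.card_dvd_of_le hle
  obtain ⟨d, hd⟩ := N.card_subgroup_dvd_card
  rw [card_sylE] at hc
  rw [card_G, hG, ← h, hc] at hd
  rw [← Nat.not_even_iff_odd]
  rintro ⟨e, he⟩
  have hodd : Odd (r * (qq m * qq m * tT m)) :=
    hr.mul ((((by decide : Odd 3).pow).mul ((by decide : Odd 3).pow)).mul (tT_odd m))
  generalize r * (qq m * qq m * tT m) = R at hd hodd
  rw [he, show (e + e) * (8 * c) * d = 8 * (2 * (e * c * d)) by ring] at hd
  obtain ⟨k, hk⟩ := hodd
  omega

/-- The element `ψ(slU 1)` normalising the standard Sylow 2-subgroup. -/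
lemma u_mem_normE : (gU 0 1 0 : G K m) ∈ normE K m ⊓ Subgroup.centralizer {invA K m} := by
  have h3 : (3 : K) = 0 := CharP.cast_eq_zero K 3
  have hu : (gU 0 1 0 : G K m) = psiA (proj (slU 1)) := (phiA_slU (1 : K)).symm
  refine ⟨?_, by rw [hu]; exact psiA_mem_centralizer _⟩
  have hi : (slU (1 : K) : SL(2, K)) * slN 1 = slJ K * negOne * slU 1 := by
    apply Subtype.ext
    simp only [Matrix.SpecialLinearGroup.coe_mul, negOne_val, slN_val, slJ_val, slU_val, Matrix.mul_neg,
      Matrix.mul_one, Matrix.neg_mul, Matrix.mul_fin_two]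
    ext i j; fin_cases i <;> fin_cases j <;> simp <;> first | linear_combination h3 | linear_combination -h3 | linear_combination (2 : K) * h3 | linear_combination (-2 : K) * h3
  have hj : (slU (1 : K) : SL(2, K)) * slJ K = slJ K * slN 1 * slU 1 := by
    apply Subtype.ext
    simp only [Matrix.SpecialLinearGroup.coe_mul, slN_val, slJ_val, slU_val, Matrix.mul_fin_two]
    ext i j; fin_cases i <;> fin_cases j <;> simp <;> first | linear_combination h3 | linear_combination -h3 | linear_combination (2 : K) * h3 | linear_combination (-2 : K) * h3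
  set u := (gU 0 1 0 : G K m) with hudef
  have hiE : psiA (proj (slN (1 : Kˣ))) ∈ sylE K m := triple_le_sylE (by simp [triple])
  have hjE : psiA (proj (slJ K)) ∈ sylE K m := triple_le_sylE (by simp [triple])
  have conjmem : ∀ t ∈ triple K m, u * t * u⁻¹ ∈ sylE K m := by
    intro t ht
    simp only [triple, Set.mem_insert_iff, Set.mem_singleton_iff] at ht
    rcases ht with ht | ht | ht <;> rw [ht, hu]
    · rw [← invA_comm_psiA, mul_inv_cancel_right]; exact invA_mem_sylE
    · rw [← map_mul, ← map_mul proj, hi, map_mul proj, map_mul proj, negOne_proj, mul_one, map_mul, mul_inv_cancel_right]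
      exact hjE
    · have e : proj (slU (1 : K)) * proj (slJ K) = proj (slJ K) * proj (slN 1) * proj (slU 1) := by
        rw [← map_mul, hj, map_mul, map_mul]
      rw [← map_mul, e, map_mul, map_mul, mul_inv_cancel_right]
      exact mul_mem hjE hiE
  haveI : Fact (Nat.Prime 2) := ⟨Nat.prime_two⟩
  have hsub : sylE K m ≤ (sylE K m).comap (MulAut.conj u⁻¹).toMonoidHom := by
    intro y hy
    show u⁻¹ * y * u⁻¹⁻¹ ∈ sylE K m
    rw [sylE, Subgroup.mem_centralizer_iff]
    intro t ht
    have := sylE_comm _ (conjmem t ht) y hy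
    rw [inv_inv]
    calc t * (u⁻¹ * y * u) = u⁻¹ * ((u * t * u⁻¹) * y) * u := by group
      _ = u⁻¹ * (y * (u * t * u⁻¹)) * u := by rw [this]
      _ = _ := by group
  show u ∈ normE K m
  rw [normE, ← inv_mem_iff]
  exact (Subgroup.mem_normalizer_iff.2 fun y => ⟨fun hy => by simpa using hsub hy, fun hy => by
    have hcard : Nat.card ↥((sylE K m).map (MulAut.conj u⁻¹).toMonoidHom) = Nat.card ↥(sylE K m) :=
      Subgroup.card_map_of_injective (MulEquiv.injective _)
    have heq : (sylE K m).map (MulAut.conj u⁻¹).toMonoidHom = sylE K m :=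
      Subgroup.eq_of_le_of_card_ge (Subgroup.map_le_iff_le_comap.2 hsub) hcard.ge
    rw [← heq] at hy
    obtain ⟨z, hz, hze⟩ := hy
    have : z = y := (MulAut.conj u⁻¹).injective hze
    exact this ▸ hz⟩)

lemma u_not_mem_sylE : (gU 0 1 0 : G K m) ∉ sylE K m := by
  obtain ⟨S, hS⟩ := exists_sylE (K := K) (m := m)
  intro (h : (gU 0 1 0 : G K m) ∈ sylE K m)
  rw [← hS] at h
  have h2 := sylow_two_exponent S _ h
  rw [gU0_mul, ← gU_zero] at h2
  have h3 : (3 : K) = 0 := CharP.cast_eq_zero K 3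
  exact one_ne_zero (by linear_combination h3 - (gU_inj h2).2.1 : (1 : K) = 0)

theorem card_normE_invA : Nat.card ↥(normE K m ⊓ Subgroup.centralizer {invA K m}) = 24 := by
  classical
  set i : G K m := psiA (proj (slN (1 : Kˣ))) with hidef
  set j : G K m := psiA (proj (slJ K)) with hjdef
  set a := invA K m with hadef
  set N := normE K m ⊓ Subgroup.centralizer {a} with hNdef
  have hiE : i ∈ sylE K m := triple_le_sylE (by simp [triple, i])
  have hjE : j ∈ sylE K m := triple_le_sylE (by simp [triple, j])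
  have haE : a ∈ sylE K m := invA_mem_sylE
  have hEC : ∀ {x : G K m}, x ∈ sylE K m → sylE K m ≤ Subgroup.centralizer {x} := fun hx y hy =>
    Subgroup.mem_centralizer_iff.2 (by rintro _ rfl; exact sylE_comm _ hx y hy)
  have hEN : sylE K m ≤ N := le_inf sylE_le_normE (hEC haE)
  set N₁ := N ⊓ Subgroup.centralizer {i}
  have hEN₁ : sylE K m ≤ N₁ := le_inf hEN (hEC hiE)
  have fix : ∀ {g s : G K m}, g ∈ Subgroup.centralizer {s} → g * s * g⁻¹ = s := fun {g s} h => by
    rw [← Subgroup.mem_centralizer_iff.1 h s rfl, mul_inv_cancel_right]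
  have conj2 : ∀ {g x : G K m}, g * x * g⁻¹ = 1 → x = 1 := fun h => conj_eq_one_iff.1 h
  -- orbit of `i`
  have hi1 : i ≠ 1 := by
    intro h
    have := psiA_injective (h.trans (map_one _).symm)
    rcases Cfsg.Agent.Lib.SL2Tori.Products.proj_eq_one_iff.1 this with e | e <;>
      simpa [slN_val, negOne, Matrix.one_fin_two] using congrArg Subtype.val e
  have hia : i ≠ a := fun h => invA_not_range ⟨_, h⟩
  have horb : cOrb N i ⊆ (sylE K m : Set (G K m)) \ {1, a} := by
    rintro y ⟨n, hn, rfl⟩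
    refine ⟨mem_sylE_conj hn.1 hiE, ?_⟩
    rintro (h | h)
    · exact hi1 (conj2 h)
    · exact hia (by
        have := fix hn.2
        rw [← this] at h
        exact mul_left_cancel (mul_right_cancel h))
  have hEcard : ((sylE K m : Set (G K m))).ncard = 8 := by rw [← Nat.card_coe_set_eq]; exact card_sylE
  have hle6 : (cOrb N i).ncard ≤ 6 := by
    refine le_trans (Set.ncard_le_ncard horb (Set.toFinite _)) ?_
    rw [Set.ncard_sdiff (by rintro x (rfl | rfl); exacts [one_mem _, haE]) (Set.toFinite _), hEcard,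
      Set.ncard_pair invA_ne_one.symm]
  -- the stabiliser of `i` is `S`
  have hN₁ : N₁ ≤ sylE K m := by
    intro g hg
    rw [← centralizer_sylE]
    obtain ⟨S, hS⟩ := exists_sylE (K := K) (m := m)
    have hgi : g * i * g⁻¹ = i := fix hg.2
    have hga : g * a * g⁻¹ = a := fix hg.1.2
    have ho := cOrb_odd hEN₁ hjE
    have hj1 : j ≠ 1 := by
      intro h
      have := psiA_injective (h.trans (map_one _).symm)
      rcases Cfsg.Agent.Lib.SL2Tori.Products.proj_eq_one_iff.1 this with e | e <;>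
        simpa [slJ_val, negOne, Matrix.one_fin_two] using congrArg Subtype.val e
    have hsub : cOrb N₁ j ⊆ (sylE K m : Set (G K m)) \ {1, a, i, a * i} := by
      rintro y ⟨n, hn, rfl⟩
      refine ⟨mem_sylE_conj hn.1.1 hjE, ?_⟩
      have hja : j ≠ a := fun h => invA_not_range ⟨_, h⟩
      have hji : j ≠ i := by
        intro h
        have := psiA_injective h
        rcases proj_eq_iff.1 this with e | e <;>
          simpa [slJ_val, slN_val, negOne_val, Matrix.SpecialLinearGroup.coe_mul, ← Matrix.ext_iff, Fin.forall_fin_two] using congrArg Subtype.val e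
      have hjai : j ≠ a * i := by
        intro h
        refine invA_not_range (K := K) (m := m) ⟨proj (slJ K) * (proj (slN (1 : Kˣ)))⁻¹, ?_⟩
        rw [map_mul, map_inv, ← hidef, ← hjdef, h, mul_inv_cancel_right]
      have hna : n * a * n⁻¹ = a := fix hn.1.2
      have hni : n * i * n⁻¹ = i := fix hn.2
      have cancel : ∀ s, n * s * n⁻¹ = s → n * j * n⁻¹ = s → j = s := fun s h1 h2 =>
        mul_left_cancel (mul_right_cancel (h2.trans h1.symm))
      rintro (h | h | h | h)
      · exact hj1 (conj2 h)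
      · exact hja (cancel a hna h)
      · exact hji (cancel i hni h)
      · exact hjai (cancel (a * i) (by rw [← conj_mul, hna, hni]) h)
    by_contra hgE
    have hja : j ≠ a := fun h => invA_not_range ⟨_, h⟩
    set W : Set (G K m) := {1, a, i, a * i} with hW
    have haa : a * a = 1 := a_sq
    have hii : i * i = 1 := triple_sq i (by simp [triple, i])
    have hai : i * a = a * i := (invA_comm_psiA _).symm
    have hWfix : ∀ w ∈ W, g * w * g⁻¹ = w := by
      rintro w (h | h | h | h) <;> rw [h]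
      · simp
      · exact hga
      · exact hgi
      · rw [← conj_mul, hga, hgi]
    have hWE : ∀ w ∈ W, w ∈ sylE K m := by
      rintro w (h | h | h | h) <;> rw [h]
      exacts [one_mem _, haE, hiE, mul_mem haE hiE]
    have hWmul : ∀ w ∈ W, ∀ w' ∈ W, w * w' ∈ W := by
      have h1 : a * (a * i) = i := by rw [← mul_assoc, haa, one_mul]
      have h2 : i * (a * i) = a := by rw [← mul_assoc, hai, mul_assoc, hii, mul_one]
      have h3 : a * i * a = i := by rw [mul_assoc, hai, h1]
      have h4 : a * i * i = a := by rw [mul_assoc, hii, mul_one]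
      have h5 : a * i * (a * i) = 1 := by rw [← mul_assoc, h3, hii]
      rintro w (h | h | h | h) w' (h' | h' | h' | h') <;> rw [h, h'] <;>
        simp [W, haa, hii, hai, h1, h2, h3, h4, h5]
    have hjW : j ∉ W := by
      intro h
      exact (hsub ⟨1, one_mem _, by group⟩).2 h
    have hW4 : W.ncard = 4 := by
      have h1 : a * i ≠ 1 := fun h => hia (by
        have := congrArg (a * ·) h; simpa [← mul_assoc, haa] using this)
      have h2 : a * i ≠ a := fun h => hi1 (by
        have := congrArg (a * ·) h; simpa [← mul_assoc, haa] using this)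
      have h3 : a * i ≠ i := fun h => invA_ne_one (by
        have := congrArg (· * i) h; simpa [mul_assoc, hii] using this)
      rw [hW, Set.ncard_insert_of_notMem, Set.ncard_insert_of_notMem, Set.ncard_pair h3.symm]
      · simp only [Set.mem_insert_iff, Set.mem_singleton_iff, not_or]
        exact ⟨hia.symm, h2.symm⟩
      · simp only [Set.mem_insert_iff, Set.mem_singleton_iff, not_or]
        exact ⟨invA_ne_one.symm, hi1.symm, h1.symm⟩
    have hunion : W ∪ (fun w => j * w) '' W = (sylE K m : Set (G K m)) := by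
      refine Set.eq_of_subset_of_ncard_le ?_ ?_ (Set.toFinite _)
      · rintro y (hy | ⟨w, hw, rfl⟩)
        · exact hWE y hy
        · exact mul_mem hjE (hWE w hw)
      · rw [Set.ncard_union_eq ?_ (Set.toFinite _) (Set.toFinite _),
          Set.ncard_image_of_injective _ (mul_right_injective j), hW4, hEcard]
        rw [Set.disjoint_left]
        rintro _ hy ⟨w, hw, rfl⟩
        refine hjW ?_
        have hww : w * w = 1 := by
          rw [← hS] at hWE
          exact sylow_two_exponent S _ (hWE w hw)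
        have := hWmul _ hy _ hw
        rwa [mul_assoc, hww, mul_one] at this
    have hj' : g * j * g⁻¹ ∈ W ∪ (fun w => j * w) '' W := by
      rw [hunion]; exact mem_sylE_conj hg.1.1 hjE
    obtain ⟨w, hw, hwe⟩ := hj'.resolve_left (hsub ⟨g, hg, rfl⟩).2
    have hwe' : g * j * g⁻¹ = j * w := hwe.symm
    have hsq : g * g ∈ sylE K m := by
      rw [sylE, Subgroup.mem_centralizer_iff]
      intro t ht
      simp only [triple, Set.mem_insert_iff, Set.mem_singleton_iff] at ht
      have hc : ∀ s, g * g * s * (g * g)⁻¹ = s → s * (g * g) = g * g * s := fun s h =>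
        (mul_inv_eq_iff_eq_mul.1 h).symm
      have hd : ∀ s, g * g * s * (g * g)⁻¹ = g * (g * s * g⁻¹) * g⁻¹ := fun s => by group
      rcases ht with ht | ht | ht <;> rw [ht] <;> apply hc <;> rw [hd]
      · rw [hga, hga]
      · rw [hgi, hgi]
      · show g * (g * j * g⁻¹) * g⁻¹ = j
        rw [hwe', ← conj_mul, hwe', hWfix w hw, mul_assoc, show w * w = 1 by
          rw [← hS] at hWE; exact sylow_two_exponent S _ (hWE w hw), mul_one]
    haveI : Fact (Nat.Prime 2) := ⟨Nat.prime_two⟩
    have hp : IsPGroup 2 (Subgroup.zpowers g) := by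
      have h4 : g ^ 4 = 1 := by
        rw [← hS] at hsq
        have := sylow_two_exponent S _ hsq
        calc g ^ 4 = g * g * (g * g) := by simp only [show 4 = 1 + 1 + 1 + 1 from rfl, pow_add, pow_one, mul_assoc]
          _ = 1 := this
      obtain ⟨e, -, he⟩ := (Nat.dvd_prime_pow Nat.prime_two).1 (orderOf_dvd_of_pow_eq_one (n := 2 ^ 2) h4)
      exact IsPGroup.of_card (n := e) (by rw [Nat.card_zpowers, he])
    have : g ∈ Subgroup.zpowers g ⊓ (S : Subgroup (G K m)) := by
      rw [← hp.inf_normalizer_sylow S]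
      have hn := hg.1.1
      rw [normE, ← hS] at hn
      exact ⟨Subgroup.mem_zpowers g, hn⟩
    rw [centralizer_sylE] at hgE
    exact hgE (hS ▸ this.2)
  have hN₁card : Nat.card ↥N₁ = 8 := by rw [le_antisymm hN₁ hEN₁, card_sylE]
  have hmul := cOrb_mul_centralizer N i
  rw [show N ⊓ Subgroup.centralizer {i} = N₁ from rfl, hN₁card] at hmul
  have hodd := cOrb_odd hEN hiE
  have hu3 : orderOf (gU 0 1 0 : G K m) = 3 := by
    haveI : Fact (Nat.Prime 3) := ⟨Nat.prime_three⟩
    refine orderOf_eq_prime (gU_pow_three_zero _ _) fun h => ?_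
    rw [← gU_zero] at h
    exact one_ne_zero (gU_inj h).2.1
  have h3 : 3 ∣ Nat.card ↥N := by
    have hx : orderOf (⟨gU 0 1 0, u_mem_normE (K := K) (m := m)⟩ : ↥N) = 3 := by
      rw [Subgroup.orderOf_mk]; exact hu3
    exact dvd_trans (dvd_of_eq hx.symm) (orderOf_dvd_natCard _)
  obtain ⟨k, hk⟩ := hodd
  rw [← hmul] at h3 ⊢
  omega

theorem card_orbit_invA (hm : 1 ≤ m) {x : G K m} (hx : x ∈ sylE K m) (hx1 : x ≠ 1) :
    cOrb (normE K m) x = (sylE K m : Set (G K m)) \ {1} := by
  classical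
  haveI : Fact (Nat.Prime 2) := ⟨Nat.prime_two⟩
  set N := normE K m
  set X : Set (G K m) := (sylE K m : Set (G K m)) \ {1}
  have hXcard : X.ncard = 7 := by
    rw [Set.ncard_sdiff (Set.singleton_subset_iff.2 (one_mem _)) (Set.toFinite _), Set.ncard_singleton,
      ← Nat.card_coe_set_eq]
    show Nat.card ↥(sylE K m) - 1 = 7
    rw [card_sylE]
  have hsub : ∀ {y}, y ∈ X → cOrb N y ⊆ X := by
    rintro y ⟨hy, hy1⟩ _ ⟨n, hn, rfl⟩
    exact ⟨mem_sylE_conj hn hy, fun h => hy1 (conj_eq_one_iff.1 h)⟩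
  have hne1 : ∀ {y}, y ∈ X → (cOrb N y).ncard ≠ 1 := by
    rintro y ⟨hy, hy1⟩ h1
    obtain ⟨S, hS⟩ := exists_sylE (K := K) (m := m)
    apply hy1
    refine eq_one_of_fixed_by_normalizer (Cfsg.Agent.Lib.LieTwisted.Ree.perfectRee hF.out hm) S
      (fun a ha b hb => sylE_comm a (hS ▸ ha) b (hS ▸ hb)) (hS ▸ hy : y ∈ (S : Subgroup (G K m))) fun n hn => ?_
    obtain ⟨z, hz⟩ := Set.ncard_eq_one.1 h1
    have e1 : y = z := by
      have : y ∈ cOrb N y := ⟨1, one_mem _, by group⟩
      rwa [hz] at this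
    have e2 : n * y * n⁻¹ = z := by
      have : n * y * n⁻¹ ∈ cOrb N y := ⟨n, by rw [hS] at hn; exact hn, rfl⟩
      rwa [hz] at this
    exact mul_inv_eq_iff_eq_mul.1 (e2.trans e1.symm)
  have hdisj : ∀ {y z}, z ∉ cOrb N y → Disjoint (cOrb N y) (cOrb N z) := by
    intro y z h
    rw [Set.disjoint_left]
    rintro w ⟨n, hn, rfl⟩ ⟨n', hn', e⟩
    refine h ⟨n'⁻¹ * n, mul_mem (inv_mem hn') hn, ?_⟩
    calc n'⁻¹ * n * y * (n'⁻¹ * n)⁻¹ = n'⁻¹ * (n * y * n⁻¹) * n' := by group
      _ = z := by rw [← e]; group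
  have hxX : x ∈ X := ⟨hx, hx1⟩
  by_contra hne
  obtain ⟨y, hyX, hy⟩ := Set.exists_of_ssubset (lt_of_le_of_ne (hsub hxX) hne)
  have hO1 := cOrb_odd (N := N) (sylE_le_normE (K := K) (m := m)) hx
  have hO2 := cOrb_odd (N := N) (sylE_le_normE (K := K) (m := m)) hyX.1
  have h1 := hne1 hxX
  have h2 := hne1 hyX
  have hd := hdisj hy
  have hu : cOrb N x ∪ cOrb N y ⊆ X := Set.union_subset (hsub hxX) (hsub hyX)
  have hlt : (cOrb N x ∪ cOrb N y).ncard ≠ 7 := by
    rw [Set.ncard_union_eq hd (Set.toFinite _) (Set.toFinite _)]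
    obtain ⟨a, ha⟩ := hO1
    obtain ⟨b, hb⟩ := hO2
    omega
  obtain ⟨z, hzX, hz⟩ := Set.exists_of_ssubset (lt_of_le_of_ne hu fun h => hlt (by rw [h, hXcard]))
  have hO3 := cOrb_odd (N := N) (sylE_le_normE (K := K) (m := m)) hzX.1
  have h3 := hne1 hzX
  rw [Set.mem_union, not_or] at hz
  have hd2 : Disjoint (cOrb N x ∪ cOrb N y) (cOrb N z) := Set.disjoint_union_left.2 ⟨hdisj hz.1, hdisj hz.2⟩
  have hle := Set.ncard_le_ncard (Set.union_subset hu (hsub hzX)) (Set.toFinite _)
  rw [Set.ncard_union_eq hd2 (Set.toFinite _) (Set.toFinite _),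
    Set.ncard_union_eq hd (Set.toFinite _) (Set.toFinite _), hXcard] at hle
  obtain ⟨a, ha⟩ := hO1
  obtain ⟨b, hb⟩ := hO2
  obtain ⟨c, hc⟩ := hO3
  omega

theorem card_normE (hm : 1 ≤ m) : Nat.card ↥(normE K m) = 168 := by
  rw [← cOrb_mul_centralizer (normE K m) (invA K m), card_normE_invA,
    card_orbit_invA hm invA_mem_sylE invA_ne_one,
    Set.ncard_sdiff (Set.singleton_subset_iff.2 (one_mem _)) (Set.toFinite _), Set.ncard_singleton,
    ← Nat.card_coe_set_eq]
  show (Nat.card ↥(sylE K m) - 1) * 24 = 168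
  rw [card_sylE]

/-- All involutions are conjugate. -/
theorem isConj_invA (hm : 1 ≤ m) {x : G K m} (hx1 : x ≠ 1) (hx : x * x = 1) : IsConj (invA K m) x := by
  haveI : Fact (Nat.Prime 2) := ⟨Nat.prime_two⟩
  obtain ⟨E, hE⟩ := exists_sylE (K := K) (m := m)
  have hp : IsPGroup 2 (Subgroup.zpowers x) :=
    IsPGroup.of_card (n := 1) (by rw [Nat.card_zpowers, pow_one, orderOf_eq_prime (by rw [pow_two, hx]) hx1])
  obtain ⟨S, hS⟩ := hp.exists_le_sylow
  obtain ⟨g, hg⟩ := MulAction.exists_smul_eq (G K m) S E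
  have hxS : x ∈ (S : Subgroup (G K m)) := hS (Subgroup.mem_zpowers x)
  have hmem : g * x * g⁻¹ ∈ sylE K m := by
    rw [← hE, ← hg, Sylow.smul_def, Sylow.pointwise_smul_def, Subgroup.mem_pointwise_smul_iff_inv_smul_mem]
    show (MulAut.conj g)⁻¹ (g * x * g⁻¹) ∈ (S : Subgroup (G K m))
    rw [MulAut.conj_inv_apply]
    simpa [mul_assoc] using hxS
  have horb := card_orbit_invA hm (invA_mem_sylE (K := K) (m := m)) invA_ne_one
  have : g * x * g⁻¹ ∈ cOrb (normE K m) (invA K m) := by
    rw [horb]; exact ⟨hmem, fun h => hx1 (conj_eq_one_iff.1 h)⟩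
  obtain ⟨n, -, e⟩ := this
  refine isConj_iff.2 ⟨g⁻¹ * n, ?_⟩
  calc g⁻¹ * n * invA K m * (g⁻¹ * n)⁻¹ = g⁻¹ * (n * invA K m * n⁻¹) * g := by group
    _ = x := by rw [e]; group

/-- `C(S) = S` and `|N(S)| = 168`. -/
theorem sylow_two_normalizer (hm : 1 ≤ m) (S : Sylow 2 (G K m)) :
    Subgroup.centralizer ((S : Subgroup (G K m)) : Set (G K m)) = S ∧
      Nat.card (Subgroup.normalizer ((S : Subgroup (G K m)) : Set (G K m))) = 168 := by
  haveI : Fact (Nat.Prime 2) := ⟨Nat.prime_two⟩
  constructor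
  · refine le_antisymm ?_ fun x hx => Subgroup.mem_centralizer_iff.2 fun y hy => ?_
    · intro x hx
      obtain ⟨E, hE⟩ := exists_sylE (K := K) (m := m)
      obtain ⟨g, hg⟩ := MulAction.exists_smul_eq (G K m) E S
      rw [← hg, Sylow.smul_def, Sylow.pointwise_smul_def, Subgroup.mem_pointwise_smul_iff_inv_smul_mem, hE,
        ← centralizer_sylE, Subgroup.mem_centralizer_iff]
      intro y hy
      show y * (MulAut.conj g)⁻¹ x = (MulAut.conj g)⁻¹ x * y
      have hy' : g * y * g⁻¹ ∈ (S : Subgroup (G K m)) := by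
        rw [← hg, Sylow.smul_def, Sylow.pointwise_smul_def, Subgroup.mem_pointwise_smul_iff_inv_smul_mem, hE]
        show (MulAut.conj g)⁻¹ (g * y * g⁻¹) ∈ sylE K m
        rw [MulAut.conj_inv_apply]
        simpa [mul_assoc] using hy
      have := Subgroup.mem_centralizer_iff.1 hx _ hy'
      rw [MulAut.conj_inv_apply]
      calc y * (g⁻¹ * x * g) = g⁻¹ * (g * y * g⁻¹ * x) * g := by group
        _ = g⁻¹ * (x * (g * y * g⁻¹)) * g := by rw [this]
        _ = _ := by group
    · have h1 := sylow_two_exponent S _ hx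
      have h2 := sylow_two_exponent S _ hy
      have h3 := sylow_two_exponent S _ (mul_mem hy hx)
      calc y * x = (y * x)⁻¹ := eq_inv_of_mul_eq_one_left h3
        _ = x * y := by rw [mul_inv_rev, inv_eq_of_mul_eq_one_right h1, inv_eq_of_mul_eq_one_right h2]
  · obtain ⟨E, hE⟩ := exists_sylE (K := K) (m := m)
    obtain ⟨g, hg⟩ := MulAction.exists_smul_eq (G K m) E S
    rw [← hg, ← card_normE (K := K) hm, normE, ← hE, Sylow.smul_def, Sylow.pointwise_smul_def,
      Subgroup.pointwise_smul_def]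
    show Nat.card ↥(Subgroup.normalizer (((E : Subgroup (G K m)).map (MulAut.conj g).toMonoidHom : Subgroup (G K m)) : Set (G K m))) = _
    rw [← Subgroup.map_equiv_normalizer_eq (E : Subgroup (G K m)) (MulAut.conj g)]
    exact Subgroup.card_map_of_injective (MulEquiv.injective _)

end Cfsg.Agent.Lib.Ree
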