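import Mathlib

/-!
Matrices of degree seven over a finite field which have prime order with multiplicative degree six.
-/

set_option autoImplicit false
set_option linter.unusedSectionVars false

namespace Cfsg.Agent.Lib.Ree.Linear7

open Polynomial Matrix

variable {K : Type*} [Field K] [Fintype K]

local notation "M7" => Matrix (Fin 7) (Fin 7) K

/-- The structure of such a matrix: `f` irreducible of degree 6, a cyclic vector and an eigenvector. -/
structure Split (M : Matrix (Fin 7) (Fin 7) K) (p : ℕ) where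
  f : K[X]
  irr : Irreducible f
  monic : f.Monic
  deg : f.natDegree = 6
  dvd_pow : f ∣ X ^ p - 1
  not_one : ¬ f ∣ X - 1
  w : Fin 7 → K
  hw : w ≠ 0
  fw : aeval M f *ᵥ w = 0
  c : K
  v : Fin 7 → K
  hv : v ≠ 0
  Mv : M *ᵥ v = c • v

theorem aeval_eigen {M : M7} {c : K} {v : Fin 7 → K} (h : M *ᵥ v = c • v) (P : K[X]) :
    aeval M P *ᵥ v = P.eval c • v := by
  induction P using Polynomial.induction_on' with
  | add P Q hP hQ => rw [map_add, Matrix.add_mulVec, hP, hQ, eval_add, add_smul]
  | monomial n a =>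
    rw [aeval_monomial, eval_monomial, Algebra.algebraMap_eq_smul_one, smul_mul_assoc, one_mul, Matrix.smul_mulVec,
      mul_smul]
    congr 1
    induction n with
    | zero => simp
    | succ n ih => rw [pow_succ', ← Matrix.mulVec_mulVec, ih, Matrix.mulVec_smul, h, smul_smul, ← pow_succ]

/-- The degree of an irreducible factor of `X^p - 1` other than `X - 1`. -/
theorem degree_eq {p : ℕ} (hp : p.Prime) (hord : orderOf (Fintype.card K : ZMod p) = 6) {f : K[X]}
    (hirr : Irreducible f) (hmonic : f.Monic) (hdvd : f ∣ X ^ p - 1) (hne : ¬ f ∣ X - 1) :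
    6 ∣ f.natDegree := by
  classical
  haveI := Fact.mk hirr
  haveI : Module.Finite K (AdjoinRoot f) := (AdjoinRoot.powerBasis hirr.ne_zero).finite
  haveI : Finite (AdjoinRoot f) := Module.finite_of_finite K
  haveI := Fintype.ofFinite (AdjoinRoot f)
  have hcard : Nat.card (AdjoinRoot f) = Fintype.card K ^ f.natDegree := by
    rw [Module.natCard_eq_pow_finrank (K := K), (AdjoinRoot.powerBasis hirr.ne_zero).finrank,
      AdjoinRoot.powerBasis_dim, Nat.card_eq_fintype_card]
  set z := AdjoinRoot.root f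
  have hz : z ^ p = 1 := by
    have := AdjoinRoot.mk_eq_zero.2 hdvd
    rw [map_sub, map_pow, AdjoinRoot.mk_X, map_one, sub_eq_zero] at this
    exact this
  have hz1 : z ≠ 1 := fun h => hne (AdjoinRoot.mk_eq_zero.1 (by rw [map_sub, AdjoinRoot.mk_X, map_one, sub_eq_zero]; exact h))
  haveI := Fact.mk hp
  have hzord : orderOf z = p := orderOf_eq_prime hz hz1
  have hz0 : z ≠ 0 := fun h => by rw [h, zero_pow hp.ne_zero] at hz; exact zero_ne_one hz
  have h1 := FiniteField.pow_card_sub_one_eq_one z hz0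
  have h2 := orderOf_dvd_of_pow_eq_one h1
  rw [hzord, ← Nat.card_eq_fintype_card, hcard] at h2
  have h3 : (Fintype.card K : ZMod p) ^ f.natDegree = 1 := by
    rw [← Nat.cast_pow, ← sub_eq_zero, ← Nat.cast_one, ← Nat.cast_sub (Nat.one_le_pow _ _ Fintype.card_pos)]
    exact (ZMod.natCast_eq_zero_iff _ _).2 h2
  rw [← hord]
  exact orderOf_dvd_of_pow_eq_one h3

theorem no_root {f : K[X]} (hirr : Irreducible f) (hdeg : f.natDegree = 6) (c : K) : f.eval c ≠ 0 := by
  intro h
  have h1 := natDegree_eq_of_degree_eq_some (Polynomial.degree_eq_one_of_irreducible_of_root hirr (x := c) h)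
  exact absurd (hdeg.symm.trans h1) (by decide)

theorem exists_split {M : M7} {p : ℕ} (hp : p.Prime) (hpK : (p : K) ≠ 0)
    (hord : orderOf (Fintype.card K : ZMod p) = 6) (hMp : M ^ p = 1) (hM1 : M ≠ 1) :
    Nonempty (Split M p) := by
  classical
  set μ := minpoly K M
  have hint : IsIntegral K M := Matrix.isIntegral M
  have hμp : μ ∣ X ^ p - 1 := minpoly.dvd K M (by simp [hMp])
  have hsf : Squarefree μ :=
    Squarefree.squarefree_of_dvd hμp (by
      have h := (Polynomial.separable_X_pow_sub_C (n := p) (1 : K) hpK one_ne_zero).squarefree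
      rwa [map_one] at h)
  obtain ⟨f, hirr, hmonic, hfμ, hne⟩ : ∃ f : K[X], Irreducible f ∧ f.Monic ∧ f ∣ μ ∧ ¬ f ∣ X - 1 := by
    have hX : Irreducible (X - 1 : K[X]) := by simpa using irreducible_X_sub_C (1 : K)
    by_cases hd : (X - 1 : K[X]) ∣ μ
    · obtain ⟨ν, hν⟩ := hd
      have hνu : ¬ IsUnit ν := by
        intro hu
        obtain ⟨a, ha, hae⟩ := Polynomial.isUnit_iff.1 hu
        apply hM1
        have h0 : aeval M μ = 0 := minpoly.aeval K M
        rw [hν, ← hae, map_mul, aeval_C, map_sub, aeval_X, map_one, Algebra.algebraMap_eq_smul_one, mul_smul_comm,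
          mul_one, smul_eq_zero] at h0
        exact sub_eq_zero.1 (h0.resolve_left ha.ne_zero)
      obtain ⟨f, hf, hirr, hfν⟩ := Polynomial.exists_monic_irreducible_factor ν hνu
      refine ⟨f, hirr, hf, hν ▸ hfν.mul_left _, fun h => ?_⟩
      have hass : Associated f (X - 1) := hirr.associated_of_dvd hX h
      exact hX.not_isUnit (hsf _ (hν ▸ mul_dvd_mul_left _ (hass.symm.dvd.trans hfν)))
    · obtain ⟨f, hf, hirr, hfν⟩ := Polynomial.exists_monic_irreducible_factor μ (minpoly.not_isUnit K M)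
      refine ⟨f, hirr, hf, hfν, fun h => hd ?_⟩
      exact (hirr.associated_of_dvd hX h).symm.dvd.trans hfν
  have hfc : f ∣ M.charpoly := hfμ.trans (Matrix.minpoly_dvd_charpoly M)
  have hdeg7 : M.charpoly.natDegree = 7 := by rw [Matrix.charpoly_natDegree_eq_dim, Fintype.card_fin]
  have hdeg : f.natDegree = 6 := by
    obtain ⟨k, hk⟩ := degree_eq hp hord hirr hmonic (hfμ.trans hμp) hne
    have hle := Polynomial.natDegree_le_of_dvd hfc (Matrix.charpoly_monic M).ne_zero
    have := hirr.natDegree_pos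
    omega
  obtain ⟨h, hh⟩ := hfc
  have hh1 : h.natDegree = 1 := by
    have hh0 : h ≠ 0 := fun e => (Matrix.charpoly_monic M).ne_zero (by rw [hh, e, mul_zero])
    have := congrArg natDegree hh
    rw [natDegree_mul hirr.ne_zero hh0, hdeg7, hdeg] at this
    omega
  obtain ⟨c, hc⟩ : ∃ c, h.IsRoot c :=
    Polynomial.exists_root_of_degree_eq_one ((degree_eq_iff_natDegree_eq_of_pos one_pos).2 hh1)
  have hdet : (Matrix.scalar (Fin 7) c - M).det = 0 := by
    rw [← Matrix.eval_charpoly, hh, eval_mul, hc.eq_zero, mul_zero]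
  obtain ⟨v, hv, hv'⟩ := Matrix.exists_mulVec_eq_zero_iff.2 hdet
  have hMv : M *ᵥ v = c • v := by
    rw [Matrix.sub_mulVec, sub_eq_zero] at hv'
    rw [← hv']
    simp [Matrix.scalar_apply, Matrix.mulVec_diagonal, funext_iff]
  have hfnu : ∃ w, w ≠ 0 ∧ aeval M f *ᵥ w = 0 := by
    rw [Matrix.exists_mulVec_eq_zero_iff]
    by_contra hd
    obtain ⟨g, hg⟩ := hfμ
    have hu : IsUnit (aeval M f) := (Matrix.isUnit_iff_isUnit_det _).2 (isUnit_iff_ne_zero.2 hd)
    have h0 : aeval M g = 0 := by
      have : aeval M μ = 0 := minpoly.aeval K M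
      rw [hg, map_mul] at this
      exact hu.mul_right_eq_zero.1 this
    have hg0 : g ≠ 0 := fun e => minpoly.ne_zero hint (by show μ = 0; rw [hg, e, mul_zero])
    have hle : μ ∣ g := minpoly.dvd K M h0
    have := Polynomial.natDegree_le_of_dvd hle hg0
    rw [hg, natDegree_mul hirr.ne_zero hg0, hdeg] at this
    omega
  obtain ⟨w, hw, hfw⟩ := hfnu
  exact ⟨⟨f, hirr, hmonic, hdeg, hfμ.trans hμp, hne, w, hw, hfw, c, v, hv, hMv⟩⟩

variable {M : Matrix (Fin 7) (Fin 7) K} {p : ℕ} (S : Split M p)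

theorem dvd_of_kill {P : K[X]} (h : aeval M P *ᵥ S.w = 0) : S.f ∣ P := by
  by_contra hn
  obtain ⟨a, b, hab⟩ := ((EuclideanDomain.dvd_or_coprime S.f P S.irr).resolve_left hn)
  have := congrArg (fun Q => aeval M Q *ᵥ S.w) hab
  simp only [map_add, map_mul, map_one, Matrix.add_mulVec, ← Matrix.mulVec_mulVec, S.fw, h, Matrix.mulVec_zero,
    add_zero, Matrix.one_mulVec] at this
  exact S.hw this.symm

theorem kill_of_dvd {P : K[X]} (h : S.f ∣ P) : aeval M P *ᵥ S.w = 0 := by
  obtain ⟨g, rfl⟩ := h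
  rw [mul_comm, map_mul, ← Matrix.mulVec_mulVec, S.fw, Matrix.mulVec_zero]

/-- The coordinates. -/
theorem decompose (x : Fin 7 → K) : ∃ (P : K[X]) (a : K), x = aeval M P *ᵥ S.w + a • S.v := by
  classical
  let L : (Fin 6 → K) × K →ₗ[K] (Fin 7 → K) :=
    { toFun := fun q => aeval M (∑ i : Fin 6, C (q.1 i) * X ^ (i : ℕ)) *ᵥ S.w + q.2 • S.v
      map_add' := fun q r => by
        simp only [Prod.fst_add, Prod.snd_add, Pi.add_apply, map_add, add_mul, Finset.sum_add_distrib,
          Matrix.add_mulVec, add_smul]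
        abel
      map_smul' := fun s q => by
        simp only [Prod.smul_fst, Prod.smul_snd, Pi.smul_apply, RingHom.id_apply, smul_add, smul_smul, smul_eq_mul]
        congr 1
        rw [show (∑ i : Fin 6, C (s * q.1 i) * X ^ (i : ℕ)) = C s * ∑ i : Fin 6, C (q.1 i) * X ^ (i : ℕ) by
          rw [Finset.mul_sum]; simp [mul_assoc], map_mul, aeval_C, Algebra.algebraMap_eq_smul_one, smul_mul_assoc,
          one_mul, Matrix.smul_mulVec] }
  have hinj : Function.Injective L := by
    rw [injective_iff_map_eq_zero]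
    rintro ⟨q, b⟩ h
    change aeval M (∑ i : Fin 6, C (q i) * X ^ (i : ℕ)) *ᵥ S.w + b • S.v = 0 at h
    have h2 := congrArg (fun z => aeval M S.f *ᵥ z) h
    simp only [Matrix.mulVec_add, Matrix.mulVec_mulVec, ← map_mul, kill_of_dvd S (dvd_mul_right _ _),
      Matrix.mulVec_smul, aeval_eigen S.Mv, zero_add, Matrix.mulVec_zero, smul_smul, smul_eq_zero, S.hv, or_false,
      mul_eq_zero, no_root S.irr S.deg, or_false] at h2
    subst h2
    rw [zero_smul, add_zero] at h
    have hd := dvd_of_kill S h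
    have h0 : (∑ i : Fin 6, C (q i) * X ^ (i : ℕ)) = 0 := by
      refine Polynomial.eq_zero_of_dvd_of_degree_lt hd ?_
      rw [degree_eq_natDegree S.irr.ne_zero, S.deg]
      exact degree_sum_fin_lt q
    refine Prod.ext (funext fun i => ?_) rfl
    have := congrArg (fun P : K[X] => P.coeff (i : ℕ)) h0
    simpa [finset_sum_coeff, coeff_C_mul_X_pow, ← Fin.ext_iff] using this
  have hsurj : Function.Surjective L := by
    refine (LinearMap.injective_iff_surjective_of_finrank_eq_finrank ?_).1 hinj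
    simp
  obtain ⟨⟨q, a⟩, h⟩ := hsurj x
  exact ⟨_, a, h.symm⟩

theorem comm_aeval {g : M7} (hg : g * M = M * g) (P : K[X]) : g * aeval M P = aeval M P * g := by
  induction P using Polynomial.induction_on' with
  | add P Q hP hQ => rw [map_add, mul_add, add_mul, hP, hQ]
  | monomial n a =>
    rw [aeval_monomial, Algebra.algebraMap_eq_smul_one, smul_mul_assoc, one_mul, mul_smul_comm, smul_mul_assoc,
      ((show Commute g M from hg).pow_right n).eq]

theorem image_w {g : M7} (hg : g * M = M * g) : ∃ P : K[X], g *ᵥ S.w = aeval M P *ᵥ S.w := by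
  obtain ⟨P, a, h⟩ := decompose S (g *ᵥ S.w)
  refine ⟨P, ?_⟩
  have h2 : aeval M S.f *ᵥ (g *ᵥ S.w) = 0 := by
    rw [Matrix.mulVec_mulVec, ← comm_aeval hg, ← Matrix.mulVec_mulVec, S.fw, Matrix.mulVec_zero]
  rw [h, Matrix.mulVec_add, Matrix.mulVec_mulVec, ← map_mul, kill_of_dvd S (dvd_mul_right _ _), zero_add,
    Matrix.mulVec_smul, aeval_eigen S.Mv, smul_smul, smul_eq_zero] at h2
  have ha : a = 0 := by simpa [S.hv, no_root S.irr S.deg] using h2
  rw [h, ha, zero_smul, add_zero]

theorem image_v {g : M7} (hg : g * M = M * g) : ∃ a : K, g *ᵥ S.v = a • S.v := by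
  obtain ⟨P, a, h⟩ := decompose S (g *ᵥ S.v)
  refine ⟨a, ?_⟩
  have e : M *ᵥ (g *ᵥ S.v) = S.c • (g *ᵥ S.v) := by
    rw [Matrix.mulVec_mulVec, ← hg, ← Matrix.mulVec_mulVec, S.Mv, Matrix.mulVec_smul]
  have h2 : aeval M ((X - C S.c) * P) *ᵥ S.w = 0 := by
    have hk : aeval M (X - C S.c) *ᵥ (g *ᵥ S.v) = 0 := by
      rw [aeval_eigen e, eval_sub, eval_X, eval_C, sub_self, zero_smul]
    rw [h, Matrix.mulVec_add, Matrix.mulVec_mulVec, ← map_mul, Matrix.mulVec_smul, aeval_eigen S.Mv, eval_sub,
      eval_X, eval_C, sub_self, zero_smul, smul_zero, add_zero] at hk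
    exact hk
  rcases S.irr.prime.dvd_or_dvd (dvd_of_kill S h2) with hd | hd
  · exfalso
    have h1 := Polynomial.natDegree_le_of_dvd hd (X_sub_C_ne_zero S.c)
    rw [S.deg, natDegree_X_sub_C] at h1
    omega
  · rw [h, kill_of_dvd S hd, zero_add]

theorem eq_one_of_fix {g : M7} (hg : g * M = M * g) (hw : g *ᵥ S.w = S.w) (hdet : g.det = 1) : g = 1 := by
  obtain ⟨a, ha⟩ := image_v S hg
  -- columns `w, Mw, …, M⁵w, v`
  let B : M7 := Matrix.of fun i j => if j.val < 6 then ((M ^ j.val) *ᵥ S.w) i else S.v i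
  let D : M7 := Matrix.diagonal fun j => if j.val < 6 then 1 else a
  have hgB : g * B = B * D := by
    ext i j
    rw [Matrix.mul_diagonal]
    by_cases hj : j.val < 6
    · simp only [B, hj, if_true, mul_one, Matrix.mul_apply, Matrix.of_apply]
      have : g *ᵥ ((M ^ j.val) *ᵥ S.w) = (M ^ j.val) *ᵥ S.w := by
        rw [Matrix.mulVec_mulVec, ((show Commute g M from hg).pow_right _).eq, ← Matrix.mulVec_mulVec, hw]
      exact congrFun this i
    · simp only [B, hj, if_false, Matrix.mul_apply, Matrix.of_apply]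
      have := congrFun ha i
      rw [Pi.smul_apply, smul_eq_mul, mul_comm] at this
      exact this
  have hBdet : B.det ≠ 0 := by
    intro h0
    obtain ⟨x, hx, hBx⟩ := Matrix.exists_mulVec_eq_zero_iff.2 h0
    have hsplit : B *ᵥ x = aeval M (∑ i : Fin 6, C (x i.castSucc) * X ^ (i : ℕ)) *ᵥ S.w + x (Fin.last 6) • S.v := by
      ext i
      rw [Matrix.mulVec, dotProduct, Fin.sum_univ_castSucc]
      congr 1
      · simp only [B, Matrix.of_apply, Fin.val_castSucc, Fin.is_lt, if_true, map_sum, map_mul, aeval_C, map_pow, aeval_X,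
          Algebra.algebraMap_eq_smul_one, smul_mul_assoc, one_mul, Matrix.sum_mulVec, Matrix.smul_mulVec,
          Finset.sum_apply, Pi.smul_apply, smul_eq_mul]
        exact Finset.sum_congr rfl fun k _ => mul_comm _ _
      · simp [B, mul_comm]
    rw [hsplit] at hBx
    have h2 := congrArg (fun z => aeval M S.f *ᵥ z) hBx
    simp only [Matrix.mulVec_add, Matrix.mulVec_mulVec, ← map_mul, kill_of_dvd S (dvd_mul_right _ _),
      Matrix.mulVec_smul, aeval_eigen S.Mv, zero_add, Matrix.mulVec_zero, smul_smul, smul_eq_zero, S.hv, or_false,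
      mul_eq_zero, no_root S.irr S.deg] at h2
    rw [h2, zero_smul, add_zero] at hBx
    have h3 : (∑ i : Fin 6, C (x i.castSucc) * X ^ (i : ℕ)) = 0 := by
      refine Polynomial.eq_zero_of_dvd_of_degree_lt (dvd_of_kill S hBx) ?_
      rw [degree_eq_natDegree S.irr.ne_zero, S.deg]
      exact degree_sum_fin_lt fun i : Fin 6 => x i.castSucc
    apply hx
    ext j
    refine Fin.lastCases ?_ (fun i => ?_) j
    · exact h2
    · have := congrArg (fun P : K[X] => P.coeff (i : ℕ)) h3
      simpa [finset_sum_coeff, coeff_C_mul_X_pow, ← Fin.ext_iff] using this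
  have hdetD : D.det = a := by simp [D, Matrix.det_diagonal, Fin.prod_univ_seven]
  have ha1 : a = 1 := by
    have := congrArg Matrix.det hgB
    rw [Matrix.det_mul, Matrix.det_mul, hdet, hdetD, one_mul] at this
    exact mul_left_cancel₀ hBdet (by rw [mul_one, ← this])
  have hD1 : D = 1 := by simp [D, ha1]
  rw [hD1, mul_one] at hgB
  have hu : IsUnit B := (Matrix.isUnit_iff_isUnit_det _).2 (isUnit_iff_ne_zero.2 hBdet)
  exact hu.mul_right_cancel (by rw [hgB, one_mul])

include S in
/-- A group of matrices of determinant one centralising `M` is cyclic. -/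
theorem isCyclic_of_commute {Γ : Type*} [Group Γ] [Finite Γ] (ρ : Γ →* M7) (hρ : Function.Injective ρ)
    (hcomm : ∀ g, ρ g * M = M * ρ g) (hdet : ∀ g, (ρ g).det = 1) : IsCyclic Γ := by
  haveI := Fact.mk S.irr
  choose P hP using fun g => image_w S (hcomm g)
  have huniq : ∀ g (Q : K[X]), ρ g *ᵥ S.w = aeval M Q *ᵥ S.w → AdjoinRoot.mk S.f (P g) = AdjoinRoot.mk S.f Q := by
    intro g Q hQ
    refine AdjoinRoot.mk_eq_mk.2 (dvd_of_kill S ?_)
    rw [map_sub, Matrix.sub_mulVec, ← hP, hQ, sub_self]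
  let e : Γ →* AdjoinRoot S.f :=
    { toFun := fun g => AdjoinRoot.mk S.f (P g)
      map_one' := by rw [huniq 1 1 (by rw [map_one, map_one]), map_one]
      map_mul' := fun g h => by
        rw [← map_mul, mul_comm]
        refine huniq _ _ ?_
        rw [map_mul, ← Matrix.mulVec_mulVec, hP h, Matrix.mulVec_mulVec, comm_aeval (hcomm g),
          ← Matrix.mulVec_mulVec, hP g, Matrix.mulVec_mulVec, ← map_mul] }
  refine isCyclic_of_subgroup_isDomain e ((injective_iff_map_eq_one e).2 fun g hg => hρ ?_)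
  rw [map_one]
  refine eq_one_of_fix S (hcomm g) ?_ (hdet g)
  have h1 : S.f ∣ P g - 1 := AdjoinRoot.mk_eq_mk.1 (hg.trans (map_one _).symm)
  have := kill_of_dvd S h1
  rw [map_sub, map_one, Matrix.sub_mulVec, Matrix.one_mulVec, sub_eq_zero] at this
  rw [hP g, this]

include S in
/-- A matrix conjugating `M` into `M ^ k` makes `k` a power of `q` modulo `p`. -/
theorem conj_pow_cases (hp : p.Prime) (hord : orderOf (Fintype.card K : ZMod p) = 6) (hMp : M ^ p = 1)
    {g g' : M7} (hgg : g' * g = 1) {k : ℕ} (hg : g * M = M ^ k * g) :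
    ∃ i < 6, M ^ k = M ^ (Fintype.card K ^ i) := by
  classical
  haveI := Fact.mk S.irr
  have hcomp : ∀ P : K[X], g * aeval M P = aeval M (P.comp (X ^ k)) * g := by
    intro P
    induction P using Polynomial.induction_on' with
    | add P Q hP hQ => rw [add_comp, map_add, map_add, mul_add, add_mul, hP, hQ]
    | monomial n a =>
      have : g * M ^ n = (M ^ k) ^ n * g := (show SemiconjBy g M (M ^ k) from hg).pow_right n
      rw [← C_mul_X_pow_eq_monomial, mul_comp, C_comp, pow_comp, X_comp, map_mul, map_mul, aeval_C, map_pow,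
        map_pow, aeval_X, map_pow, aeval_X, Algebra.algebraMap_eq_smul_one, smul_mul_assoc, one_mul, smul_mul_assoc,
        one_mul, mul_smul_comm, this, smul_mul_assoc]
  obtain ⟨P, a, h⟩ := decompose S (g *ᵥ S.w)
  have h2 : aeval M (S.f.comp (X ^ k)) *ᵥ (g *ᵥ S.w) = 0 := by
    rw [Matrix.mulVec_mulVec, ← hcomp, ← Matrix.mulVec_mulVec, S.fw, Matrix.mulVec_zero]
  rw [h, Matrix.mulVec_add, Matrix.mulVec_mulVec, ← map_mul, Matrix.mulVec_smul, aeval_eigen S.Mv, smul_smul] at h2
  have h3 := congrArg (fun z => aeval M S.f *ᵥ z) h2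
  simp only [Matrix.mulVec_add, Matrix.mulVec_mulVec, ← map_mul, kill_of_dvd S (dvd_mul_right _ _),
    Matrix.mulVec_smul, aeval_eigen S.Mv, zero_add, Matrix.mulVec_zero, smul_smul, smul_eq_zero, S.hv, or_false,
    mul_eq_zero, no_root S.irr S.deg, eval_comp] at h3
  have ha : a = 0 := by simpa [no_root S.irr S.deg] using h3
  rw [ha, zero_mul, zero_smul, add_zero] at h2
  have hP : ¬ S.f ∣ P := by
    intro hd
    rw [kill_of_dvd S hd, zero_add, ha, zero_smul] at h
    apply S.hw
    have := congrArg (fun z => g' *ᵥ z) h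
    simpa [Matrix.mulVec_mulVec, hgg] using this
  have hdvd : S.f ∣ S.f.comp (X ^ k) := (S.irr.prime.dvd_or_dvd (dvd_of_kill S h2)).resolve_right hP
  haveI : Module.Finite K (AdjoinRoot S.f) := (AdjoinRoot.powerBasis S.irr.ne_zero).finite
  set z := AdjoinRoot.root S.f
  have hroot : aeval (z ^ k) S.f = 0 := by
    have := AdjoinRoot.mk_eq_zero.2 hdvd
    rw [← AdjoinRoot.aeval_eq, aeval_comp, map_pow, aeval_X] at this
    exact this
  have hz : z ^ p = 1 := by
    have := AdjoinRoot.mk_eq_zero.2 S.dvd_pow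
    rw [map_sub, map_pow, AdjoinRoot.mk_X, map_one, sub_eq_zero] at this
    exact this
  have hz1 : z ≠ 1 := fun h => S.not_one
    (AdjoinRoot.mk_eq_zero.1 (by rw [map_sub, AdjoinRoot.mk_X, map_one, sub_eq_zero]; exact h))
  haveI := Fact.mk hp
  have hzord : orderOf z = p := orderOf_eq_prime hz hz1
  have hqroot : ∀ i : ℕ, aeval (z ^ Fintype.card K ^ i) S.f = 0 := by
    intro i
    induction i with
    | zero => rw [pow_zero, pow_one, AdjoinRoot.aeval_eq, AdjoinRoot.mk_self]
    | succ i ih =>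
      rw [pow_succ, pow_mul]
      have := congrArg (FiniteField.frobeniusAlgHom K (AdjoinRoot S.f)) ih
      rw [← aeval_algHom_apply, map_zero] at this
      exact this
  have hfin : IsOfFinOrder z := isOfFinOrder_iff_pow_eq_one.2 ⟨p, hp.pos, hz⟩
  have hinj : Set.InjOn (fun i => z ^ Fintype.card K ^ i) (Set.Iio 6) := by
    intro i hi j hj hij
    have h' : (Fintype.card K : ZMod p) ^ i = (Fintype.card K : ZMod p) ^ j := by
      have := (hfin.pow_eq_pow_iff_modEq).1 hij
      rw [hzord, ← ZMod.natCast_eq_natCast_iff] at this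
      simpa using this
    exact pow_injOn_Iio_orderOf (hord.symm ▸ hi) (hord.symm ▸ hj) h'
  by_contra hcon
  push Not at hcon
  have hne : ∀ i < 6, z ^ k ≠ z ^ Fintype.card K ^ i := by
    intro i hi he
    apply hcon i hi
    have hmod := (hfin.pow_eq_pow_iff_modEq).1 he
    rw [hzord] at hmod
    rw [pow_eq_pow_mod k hMp, pow_eq_pow_mod (Fintype.card K ^ i) hMp, show k % p = Fintype.card K ^ i % p from hmod]
  let F := S.f.map (algebraMap K (AdjoinRoot S.f))
  have hF0 : F ≠ 0 := (Polynomial.map_ne_zero_iff (algebraMap K (AdjoinRoot S.f)).injective).2 S.irr.ne_zero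
  have hsub : insert (z ^ k) ((Finset.range 6).image fun i => z ^ Fintype.card K ^ i) ⊆ F.roots.toFinset := by
    intro x hx
    rw [Multiset.mem_toFinset, Polynomial.mem_roots hF0, Polynomial.IsRoot, Polynomial.eval_map_algebraMap]
    rcases Finset.mem_insert.1 hx with rfl | hx
    · exact hroot
    · obtain ⟨i, -, rfl⟩ := Finset.mem_image.1 hx
      exact hqroot i
  have hcard := (Finset.card_le_card hsub).trans ((Multiset.toFinset_card_le _).trans (Polynomial.card_roots' F))
  rw [Finset.card_insert_of_notMem, Finset.card_image_of_injOn, Finset.card_range, natDegree_map, S.deg] at hcard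
  · omega
  · intro i hi j hj h
    exact hinj (by simpa using hi) (by simpa using hj) h
  · intro hmem
    obtain ⟨i, hi, he⟩ := Finset.mem_image.1 hmem
    exact hne i (Finset.mem_range.1 hi) he.symm

end Cfsg.Agent.Lib.Ree.Linear7
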