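import Cfsg.Agent.Lib.Ree.Classes

/-!
Cyclic Hall subgroups, Sylow subgroups and element orders of the small Ree group.
-/

set_option autoImplicit false
set_option linter.unusedSectionVars false

open scoped Pointwise

namespace Cfsg.Agent.Lib.Ree

open Cfsg.Lie
open Cfsg.Agent.Lib.PSLTwo.Sylow (mem_normalizer_of_conj_mem)

variable {K : Type*} [Field K] [CharP K 3] [Fintype K] {m : ℕ} [hF : Fact (Fintype.card K = 3 ^ (2 * m + 1))]

theorem normalizer_sub_torA (hm : 1 ≤ m) {A₀ : Subgroup (G K m)} (hle : A₀ ≤ torA K m) (hne : A₀ ≠ ⊥) :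
    Subgroup.normalizer (A₀ : Set (G K m)) = Subgroup.normalizer (torA K m : Set (G K m)) := by
  refine le_antisymm (fun n hn => ?_) (normalizer_cyclic_le (inferInstanceAs (IsCyclic ↥(Subgroup.zpowers _))) hle)
  obtain ⟨y, hy, hy1⟩ := (Subgroup.bot_or_exists_ne_one A₀).resolve_left hne
  have hy' := (Subgroup.mem_normalizer_iff.1 hn y).1 hy
  rw [normalizer_torA hm]
  refine mem_normalizer_of_conj_mem fun w hw => ⟨?_, by rw [conj_mul, hw.2, mul_one, mul_inv_cancel]⟩
  show n * w * n⁻¹ ∈ torD K m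
  rw [← centralizer_torA hm (hle hy') (fun h => hy1 (conj_eq_one_iff.1 h)), Subgroup.mem_centralizer_singleton_iff,
    conj_mul, conj_mul, torD_comm w hw.1 y (torA_le_torD (hle hy))]

/-- The four cyclic Hall subgroups with their normalisers. -/
theorem hall_subgroups (hm : 1 ≤ m) :
    ∀ kn ∈ ({((qq m - 1) / 2, 2 * (qq m - 1)), ((qq m + 1) / 4, 6 * (qq m + 1)),
        (qq m - 3 ^ (m + 1) + 1, 6 * (qq m - 3 ^ (m + 1) + 1)),
        (qq m + 3 ^ (m + 1) + 1, 6 * (qq m + 3 ^ (m + 1) + 1))} : Set (ℕ × ℕ)),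
      ∃ A : Subgroup (G K m), IsCyclic A ∧ Nat.card A = kn.1 ∧
        Nat.card (Subgroup.normalizer (A : Set (G K m))) = kn.2 ∧
        ∀ A₀ : Subgroup (G K m), A₀ ≤ A → A₀ ≠ ⊥ →
          Subgroup.normalizer (A₀ : Set (G K m)) = Subgroup.normalizer (A : Set (G K m)) := by
  obtain ⟨x, y, hx, hy, hNx, hNy, hcx, hcy, -⟩ := two_classes (K := K) hm
  intro kn hkn
  simp only [Set.mem_insert_iff, Set.mem_singleton_iff] at hkn
  rcases hkn with rfl | rfl | rfl | rfl
  · exact ⟨torM K m, torM_isCyclic, card_torM, normalizer_torM hm, fun A₀ h1 h2 => normalizer_sub_torM h1 h2⟩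
  · exact ⟨torA K m, inferInstanceAs (IsCyclic ↥(Subgroup.zpowers _)), card_torA, card_normalizer_torA hm,
      fun A₀ h1 h2 => normalizer_sub_torA hm h1 h2⟩
  · refine ⟨Subgroup.centralizer {x}, centralizer_T_isCyclic hm hx.1 hx.2 rfl, hcx, ?_,
      fun A₀ h1 h2 => normalizer_sub_T hm hx.1 hx.2 rfl h1 h2⟩
    rw [hNx, hcx, mul_comm]
  · refine ⟨Subgroup.centralizer {y}, centralizer_T_isCyclic hm hy.1 hy.2 rfl, hcy, ?_,
      fun A₀ h1 h2 => normalizer_sub_T hm hy.1 hy.2 rfl h1 h2⟩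
    rw [hNy, hcy, mul_comm]

/-- A Sylow subgroup is cyclic when a cyclic subgroup contains one. -/
lemma sylow_cyclic {p : ℕ} [Fact p.Prime] (P : Sylow p (G K m)) {T : Subgroup (G K m)} (hT : IsCyclic ↥T) {n : ℕ}
    (hn : Nat.card (G K m) = Nat.card T * n) (hcop : ¬ p ∣ n) : IsCyclic ↥(P : Subgroup (G K m)) := by
  obtain ⟨Q⟩ : Nonempty (Sylow p ↥T) := inferInstance
  obtain ⟨S, hS⟩ := (Q.2.map T.subtype).exists_le_sylow
  have heq : (Q : Subgroup T).map T.subtype = S := by
    refine Subgroup.eq_of_le_of_card_ge hS (le_of_eq ?_)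
    rw [Subgroup.card_subtype, Sylow.card_eq_multiplicity, Sylow.card_eq_multiplicity, hn,
      Nat.factorization_mul Nat.card_pos.ne' (fun h => hcop (by rw [h]; exact dvd_zero p)), Finsupp.add_apply,
      Nat.factorization_eq_zero_of_not_dvd hcop, add_zero]
  haveI := hT
  have hScyc : IsCyclic ↥(S : Subgroup (G K m)) := by
    rw [← heq]
    exact isCyclic_of_surjective (T.subtype.subgroupMap (Q : Subgroup T)) (MonoidHom.subgroupMap_surjective _ _)
  obtain ⟨g, rfl⟩ := MulAction.exists_smul_eq (G K m) S P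
  haveI := hScyc
  exact isCyclic_of_surjective ((MulAut.conj g).subgroupMap (S : Subgroup (G K m))).toMonoidHom
    ((MulAut.conj g).subgroupMap (S : Subgroup (G K m))).surjective

theorem sylow_cyclic_of_gt_three (hm : 1 ≤ m) {p : ℕ} [Fact p.Prime] (hp : 3 < p) (P : Sylow p (G K m)) :
    IsCyclic ↥(P : Subgroup (G K m)) := by
  have hp' : p.Prime := Fact.out
  have h2 : p ≠ 2 := by omega
  have h3 : p ≠ 3 := by omega
  obtain ⟨a1, a2, a3⟩ := prime_factors_apart m hp' h2
  have hq := prime_not_dvd_qq (m := m) hp' h3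
  by_cases hG : p ∣ Nat.card (G K m)
  · rw [card_G'] at hG
    rcases hp'.dvd_mul.1 hG with h | h
    · rcases hp'.dvd_mul.1 h with h | h
      · rcases hp'.dvd_mul.1 h with h | h
        · exact absurd (hp'.dvd_of_dvd_pow h) hq
        · obtain ⟨k, hk, hk'⟩ := half_qq_odd m
          refine sylow_cyclic P torM_isCyclic (n := qq m ^ 3 * (qq m + 1) * tT m * 2) ?_ ?_
          · rw [card_torM, card_G', hk', hk]; ring
          · intro hd
            rcases hp'.dvd_mul.1 hd with hd | hd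
            · rcases hp'.dvd_mul.1 hd with hd | hd
              · rcases hp'.dvd_mul.1 hd with hd | hd
                · exact hq (hp'.dvd_of_dvd_pow hd)
                · exact a1 ⟨h, hd⟩
              · exact a2 ⟨h, hd⟩
            · exact h2 ((Nat.prime_dvd_prime_iff_eq hp' Nat.prime_two).1 hd)
      · refine sylow_cyclic P (inferInstanceAs (IsCyclic ↥(Subgroup.zpowers (tP K m ^ 2)))) (T := torA K m)
          (n := qq m ^ 3 * (qq m - 1) * tT m * 4) ?_ ?_
        · rw [card_torA, card_G', (lP_spec m).1]; ring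
        · intro hd
          rcases hp'.dvd_mul.1 hd with hd | hd
          · rcases hp'.dvd_mul.1 hd with hd | hd
            · rcases hp'.dvd_mul.1 hd with hd | hd
              · exact hq (hp'.dvd_of_dvd_pow hd)
              · exact a1 ⟨hd, h⟩
            · exact a3 ⟨h, hd⟩
          · exact h2 ((Nat.prime_dvd_prime_iff_eq hp' Nat.prime_two).1 (hp'.dvd_of_dvd_pow (show p ∣ 2 ^ 2 from hd)))
    · obtain ⟨x, hx, hxp⟩ := exists_TElt (K := K) hm hp' h
      obtain ⟨c, hc⟩ := card_centralizer_T_dvd hm hx.1 hx.2 rfl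
      have hfull := centralizer_T_full hm hx.1 hx.2 rfl hp'
        (hxp ▸ Subgroup.orderOf_dvd_natCard _ (Subgroup.mem_centralizer_singleton_iff.2 rfl : x ∈ Subgroup.centralizer {x}))
      refine sylow_cyclic P (centralizer_T_isCyclic hm hx.1 hx.2 rfl) (n := qq m ^ 3 * (qq m - 1) * (qq m + 1) * c) ?_ ?_
      · rw [card_G', hc]; ring
      · intro hd
        rcases hp'.dvd_mul.1 hd with hd | hd
        · rcases hp'.dvd_mul.1 hd with hd | hd
          · rcases hp'.dvd_mul.1 hd with hd | hd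
            · exact hq (hp'.dvd_of_dvd_pow hd)
            · exact a2 ⟨hd, h⟩
          · exact a3 ⟨hd, h⟩
        · refine Nat.pow_succ_factorization_not_dvd (tT_odd m).pos.ne' hp' ?_
          have := Nat.mul_dvd_mul hfull hd
          rwa [← pow_succ, ← hc] at this
  · have hbot : (P : Subgroup (G K m)) = ⊥ := by
      refine Subgroup.eq_bot_of_card_eq _ ?_
      rw [Sylow.card_eq_multiplicity, Nat.factorization_eq_zero_of_not_dvd hG, pow_zero]
    rw [hbot]
    infer_instance

lemma exists_orderOf_dvd {g : G K m} {d : ℕ} (hd : d ∣ orderOf g) : ∃ h : G K m, orderOf h = d :=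
  ⟨g ^ (orderOf g / d), orderOf_pow_orderOf_div (orderOf_pos g).ne' hd⟩

lemma torD_exponent {z : G K m} (hz : z ∈ torD K m) : orderOf z ∣ (qq m + 1) / 2 := by
  rw [(lP_spec m).2.1]
  refine orderOf_dvd_of_pow_eq_one ?_
  obtain ⟨k, hk⟩ := mem_torD.1 hz
  have ht : tP K m ^ (2 * lP m) = 1 := by rw [← orderOf_tP (K := K), pow_orderOf_eq_one]
  rcases hk with rfl | rfl
  · rw [pow_right_comm, ht, one_pow]
  · have hc : Commute (invA K m) (tP K m ^ k) := (show Commute (invA K m) (tP K m) from invA_comm_phiA _).pow_right k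
    rw [hc.mul_pow, pow_right_comm, ht, one_pow, mul_one, pow_mul, pow_two, a_sq, one_pow]

/-- The orders of elements. -/
theorem element_orders (hm : 1 ≤ m) (d : ℕ) :
    (∃ g : G K m, orderOf g = d) ↔
      (d ∣ 6 ∨ d ∣ 9 ∨ d ∣ qq m - 1 ∨ d ∣ (qq m + 1) / 2 ∨
        d ∣ qq m - 3 ^ (m + 1) + 1 ∨ d ∣ qq m + 3 ^ (m + 1) + 1) := by
  obtain ⟨x, y, hx, hy, -, -, hcx, hcy, hcov⟩ := two_classes (K := K) hm
  constructor
  · rintro ⟨g, rfl⟩
    rcases elem_cases hm g with h | h | h | h | h | h | h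
    · exact Or.inl (by rw [h, orderOf_one]; exact one_dvd _)
    · exact Or.inr (Or.inl (orderOf_setP h).2)
    · exact Or.inl (by rw [show orderOf g = 6 from h])
    · exact Or.inl (by rw [orderOf_setI h]; norm_num)
    · exact Or.inr (Or.inr (Or.inl (orderOf_setH h).1))
    · obtain ⟨u, -, hd, -⟩ := h
      exact Or.inr (Or.inr (Or.inr (Or.inl (orderOf_conj' u g ▸ torD_exponent hd))))
    · rcases hcov h with h | h
      · exact Or.inr (Or.inr (Or.inr (Or.inr (Or.inl (hcx ▸ dvd_card_of_mem_classT h)))))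
      · exact Or.inr (Or.inr (Or.inr (Or.inr (Or.inr (hcy ▸ dvd_card_of_mem_classT h)))))
  · haveI : Fact (Nat.Prime 3) := ⟨Nat.prime_three⟩
    haveI : Fact (Nat.Prime 2) := ⟨Nat.prime_two⟩
    rintro (h | h | h | h | h | h)
    · refine exists_orderOf_dvd (g := invA K m * gU 0 1 0) (h.trans (dvd_of_eq ?_))
      have hu1 : (gU 0 1 0 : G K m) ≠ 1 := fun e => by
        rw [← gU_zero] at e
        exact one_ne_zero (gU_inj e).2.1
      rw [(invA_comm_gU0 (1 : K)).orderOf_mul_eq_mul_orderOf_of_coprime] <;>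
        rw [orderOf_eq_prime (p := 2) (by rw [pow_two]; exact a_sq) invA_ne_one,
          orderOf_eq_prime (p := 3) (gU_pow_three_zero _ _) hu1]
      norm_num
    · refine exists_orderOf_dvd (g := (gU 1 0 0 : G K m)) (h.trans (dvd_of_eq ?_))
      have h9 : orderOf (gU 1 0 0 : G K m) = 3 ^ (1 + 1) := by
        refine orderOf_eq_prime_pow ?_ (by simpa using gU_pow_nine (m := m) (1 : K) 0 0)
        intro e
        rw [pow_one] at e
        have e' : (Cfsg.Agent.Lib.LieTwisted.Ree.reeU m (1 : K) 0 0) ^ 3 = 1 := by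
          rw [← gU_val, ← SubgroupClass.coe_pow, e, OneMemClass.coe_one]
        exact one_ne_zero ((Cfsg.Agent.Lib.LieTwisted.Ree.reeU_cube_eq_one hF.out).1 e')
      rw [h9]
      norm_num
    · obtain ⟨z, hz⟩ := IsCyclic.exists_ofOrder_eq_natCard (α := Kˣ)
      refine exists_orderOf_dvd (g := (gH z : G K m)) (h.trans (dvd_of_eq ?_))
      rw [orderOf_injective gH gH_injective, hz, card_units_K (m := m)]
    · refine exists_orderOf_dvd (g := tP K m) (h.trans (dvd_of_eq ?_))
      rw [orderOf_tP, (lP_spec m).2.1]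
    · haveI := centralizer_T_isCyclic hm hx.1 hx.2 rfl
      obtain ⟨z, hz⟩ := IsCyclic.exists_ofOrder_eq_natCard (α := ↥(Subgroup.centralizer {x}))
      exact exists_orderOf_dvd (g := (z : G K m)) (h.trans (dvd_of_eq (by rw [Subgroup.orderOf_coe, hz, hcx])))
    · haveI := centralizer_T_isCyclic hm hy.1 hy.2 rfl
      obtain ⟨z, hz⟩ := IsCyclic.exists_ofOrder_eq_natCard (α := ↥(Subgroup.centralizer {y}))
      exact exists_orderOf_dvd (g := (z : G K m)) (h.trans (dvd_of_eq (by rw [Subgroup.orderOf_coe, hz, hcy])))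

end Cfsg.Agent.Lib.Ree
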