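import Cfsg.Agent.Lib.Ree.Invol
import Cfsg.Agent.Lib.LieTwisted.IsogenyG2

/-!
The seven-dimensional representation of the small Ree group in characteristic 3.
-/

set_option autoImplicit false
set_option linter.unusedSectionVars false

namespace Cfsg.Agent.Lib.Ree

open Cfsg.Lie Matrix
open Cfsg.Agent.Lib.LieTwisted Cfsg.Agent.Lib.LieTwisted.Isogeny

variable {K : Type*} [Field K] [CharP K 3] [Fintype K] {m : ℕ} [hF : Fact (Fintype.card K = 3 ^ (2 * m + 1))]

lemma twisted_le_group {g : GL chevG2.Idx K} (hg : g ∈ Cfsg.Lie.twistedG2 K (3 ^ m)) : g ∈ chevG2.group K :=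
  Ree.fixT_le m (Ree.twisted_le_fix hF.out hg)

/-- The representation of `G¹` on the ideal of short roots. -/
noncomputable def rep7 : G K m →* Matrix (Fin 7) (Fin 7) K where
  toFun x := piI dataG2_good (mt (D := chevG2) (x : GL chevG2.Idx K))
  map_one' := by rw [Subgroup.coe_one, mt_one]; exact piI_one dataG2_good
  map_mul' x y := by
    haveI : CharP K dataG2.p := ‹CharP K 3›
    rw [Subgroup.coe_mul, mt_mul]
    exact piI_mul dataG2_good (tri_of_mem dataG2_good (twisted_le_group y.2))

theorem rep7_injective : Function.Injective (rep7 : G K m →* Matrix (Fin 7) (Fin 7) K) := by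
  haveI : CharP K dataG2.p := ‹CharP K 3›
  intro x y h
  have h1 : rep7 (x * y⁻¹) = 1 := by rw [map_mul, h, ← map_mul, mul_inv_cancel, map_one]
  exact mul_inv_eq_one.1 (Subtype.ext (piI_injective dataG2_good (twisted_le_group (x * y⁻¹).2) h1))

theorem rep7_det (hm : 1 ≤ m) (x : G K m) : (rep7 x).det = 1 := by
  let d : G K m →* K :=
    { toFun := fun x => (rep7 x).det
      map_one' := by rw [map_one, Matrix.det_one]
      map_mul' := fun a b => by rw [map_mul, Matrix.det_mul] }
  have hx : x ∈ commutator (G K m) := by rw [Ree.perfectRee hF.out hm]; exact Subgroup.mem_top x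
  exact congrArg Units.val (Abelianization.commutator_subset_ker d.toHomUnits hx : d.toHomUnits x = 1)

end Cfsg.Agent.Lib.Ree
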