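import Cfsg.Agent.Lib.Ree.Invol

/-!
The normaliser of a Sylow 2-subgroup of the small Ree group and the unique class of involutions.
-/

set_option autoImplicit false
set_option linter.unusedSectionVars false

open scoped Pointwise

namespace Cfsg.Agent.Lib.Ree

open Cfsg.Lie
open Cfsg.Agent.Lib.LieTwisted Cfsg.Agent.Lib.LieTwisted.Ree Cfsg.Agent.Lib.ChevStructure
open Cfsg.Agent.Lib.SL2Tori.Products (proj proj_surjective proj_eq_iff)
open Cfsg.Agent.Lib.PSLTwo.Sylow (negOne)
open scoped MatrixGroups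

section general

variable {G : Type*} [Group G] [Finite G]

/-- In a perfect group the centre of the normaliser meets an abelian Sylow subgroup trivially. -/
theorem eq_one_of_fixed_by_normalizer {p : ℕ} [Fact p.Prime] (hperf : commutator G = ⊤) (P : Sylow p G)
    (hcomm : ∀ a ∈ P, ∀ b ∈ P, a * b = b * a) {x : G} (hx : x ∈ P)
    (hfix : ∀ n ∈ Subgroup.normalizer ((P : Subgroup G) : Set G), n * x = x * n) : x = 1 := by
  have hle : ∀ a ∈ P, a ∈ Subgroup.centralizer ((P : Subgroup G) : Set G) := fun a ha =>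
    Subgroup.mem_centralizer_iff.2 fun b hb => hcomm b hb a ha
  letI : CommGroup ↥(P : Subgroup G) :=
    { (inferInstance : Group ↥(P : Subgroup G)) with mul_comm := fun a b => Subtype.ext (hcomm _ a.2 _ b.2) }
  have hpow : x ^ (P : Subgroup G).index ∈ (P : Subgroup G) := pow_mem hx _
  have key : ∀ (k : ℕ) (g₀ : G), g₀⁻¹ * x ^ k * g₀ ∈ (P : Subgroup G) → g₀⁻¹ * x ^ k * g₀ = x ^ k := by
    intro k g₀ hk
    obtain ⟨n, hn, e⟩ := P.conj_eq_normalizer_conj_of_mem_centralizer (x ^ k) g₀ (hle _ (pow_mem hx k)) (hle _ hk)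
    have hc : Commute n (x ^ k) := (show Commute n x from hfix n hn).pow_right k
    rw [e, mul_assoc, ← hc.eq, inv_mul_cancel_left]
  have h := MonoidHom.transfer_eq_pow (MonoidHom.id ↥(P : Subgroup G)) x key
  have h1 : MonoidHom.transfer (MonoidHom.id ↥(P : Subgroup G)) x = 1 := by
    rw [← MonoidHom.mem_ker]
    exact Abelianization.commutator_subset_ker _ (hperf ▸ Subgroup.mem_top x)
  rw [h1, MonoidHom.id_apply] at h
  have h2 : x ^ (P : Subgroup G).index = 1 := (congrArg Subtype.val h).symm
  obtain ⟨n, hn⟩ := P.2 ⟨x, hx⟩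
  have h3 : x ^ p ^ n = 1 := congrArg Subtype.val hn
  have hcop : Nat.Coprime (P : Subgroup G).index (p ^ n) :=
    ((Nat.Prime.coprime_iff_not_dvd Fact.out).2 P.not_dvd_index).symm.pow_right n
  have := pow_gcd_eq_one.2 ⟨h2, h3⟩
  rwa [hcop, pow_one] at this

/-- The orbit of `x` under conjugation by a subgroup. -/
def cOrb (N : Subgroup G) (x : G) : Set G := {y | ∃ n ∈ N, n * x * n⁻¹ = y}

theorem cOrb_mul_centralizer (N : Subgroup G) (x : G) :
    (cOrb N x).ncard * Nat.card ↥(N ⊓ Subgroup.centralizer {x}) = Nat.card N := by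
  letI : MulAction ↥N G := MulAction.compHom G (ConjAct.toConjAct.toMonoidHom.comp N.subtype)
  have hsm : ∀ (n : ↥N) (y : G), n • y = (n : G) * y * (n : G)⁻¹ := fun n y => rfl
  have horb : MulAction.orbit ↥N x = cOrb N x := by
    ext y
    constructor
    · rintro ⟨n, rfl⟩; exact ⟨n, n.2, (hsm n x).symm⟩
    · rintro ⟨n, hn, rfl⟩; exact ⟨⟨n, hn⟩, hsm _ x⟩
  have hstab : MulAction.stabilizer ↥N x = (N ⊓ Subgroup.centralizer {x}).subgroupOf N := by
    ext n
    rw [MulAction.mem_stabilizer_iff, hsm, Subgroup.mem_subgroupOf, Subgroup.mem_inf, and_iff_right n.2,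
      Subgroup.mem_centralizer_iff, mul_inv_eq_iff_eq_mul]
    simp [eq_comm]
  rw [← horb, ← Nat.card_coe_set_eq, ← Nat.card_congr (Subgroup.subgroupOfEquivOfLe inf_le_left).toEquiv, ← hstab,
    ← Nat.card_prod]
  exact Nat.card_congr (MulAction.orbitProdStabilizerEquivGroup ↥N x)

end general

variable {K : Type*} [Field K] [CharP K 3] [Fintype K] {m : ℕ} [hF : Fact (Fintype.card K = 3 ^ (2 * m + 1))]

/-- The matrix `j` with `i² = j² = -1`, `ij = -ji`. -/
def slJ (K : Type*) [Field K] [CharP K 3] : SL(2, K) :=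
  ⟨!![1, 1; 1, -1], by
    have h3 : (3 : K) = 0 := CharP.cast_eq_zero K 3
    rw [Matrix.det_fin_two_of]; linear_combination -h3⟩

@[simp] lemma slJ_val : (slJ K : Matrix (Fin 2) (Fin 2) K) = !![1, 1; 1, -1] := rfl

lemma negOne_val : ((negOne : SL(2, K)) : Matrix (Fin 2) (Fin 2) K) = -1 := by
  ext i j; fin_cases i <;> fin_cases j <;> simp [negOne]

lemma comm_or_anti {g h : SL(2, K)} (hgh : proj g * proj h = proj h * proj g) :
    g * h = h * g ∨ g * h = h * g * negOne := by
  rw [← map_mul, ← map_mul, proj_eq_iff] at hgh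
  rcases hgh with e | e
  · exact Or.inl e.symm
  · right
    rw [e, mul_assoc]
    have : (negOne : SL(2, K)) * negOne = 1 := by
      apply Subtype.ext
      rw [Matrix.SpecialLinearGroup.coe_mul, negOne_val]
      simp
    rw [this, mul_one]

lemma eq_scalar_of_comm_IJ {g : SL(2, K)} (hi : g * slN 1 = slN 1 * g) (hj : g * slJ K = slJ K * g) :
    g = 1 ∨ g = negOne := by
  have h3 : (3 : K) = 0 := CharP.cast_eq_zero K 3
  obtain ⟨a, b, c, d, hmat⟩ : ∃ a b c d : K, (g : Matrix (Fin 2) (Fin 2) K) = !![a, b; c, d] :=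
    ⟨_, _, _, _, Matrix.eta_fin_two _⟩
  have hdet : (g : Matrix (Fin 2) (Fin 2) K).det = 1 := g.2
  have hi' := congrArg (fun z : SL(2, K) => (z : Matrix (Fin 2) (Fin 2) K)) hi
  have hj' := congrArg (fun z : SL(2, K) => (z : Matrix (Fin 2) (Fin 2) K)) hj
  simp only [Matrix.SpecialLinearGroup.coe_mul, hmat, slN_val, slJ_val, Matrix.mul_fin_two, Units.val_one,
    inv_one] at hi' hj'
  have i00 := congrFun (congrFun hi' 0) 0
  have i01 := congrFun (congrFun hi' 0) 1
  have j00 := congrFun (congrFun hj' 0) 0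
  have j01 := congrFun (congrFun hj' 0) 1
  simp at i00 i01 j00 j01
  have hb : b = 0 := by linear_combination i00 - j00 + b * h3
  have had : a = d := by linear_combination i01
  have hc : c = 0 := by linear_combination (-1 : K) * i00 - hb
  rw [hmat, Matrix.det_fin_two_of, hb, hc, ← had] at hdet
  have haa : a * a = 1 := by linear_combination hdet
  rcases mul_self_eq_one_iff.1 haa with h | h
  · left; exact Subtype.ext (by rw [hmat, hb, hc, ← had, h]; simp [Matrix.one_fin_two])
  · right; exact Subtype.ext (by rw [hmat, hb, hc, ← had, h]; simp [negOne])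

variable (K m) in
/-- The three basic commuting involutions. -/
noncomputable def triple : Set (G K m) := {invA K m, psiA (proj (slN (1 : Kˣ))), psiA (proj (slJ K))}

variable (K m) in
/-- The standard Sylow 2-subgroup. -/
noncomputable def sylE : Subgroup (G K m) := Subgroup.centralizer (triple K m)

lemma psiA_mem_centralizer (x : Matrix.ProjectiveSpecialLinearGroup (Fin 2) K) :
    psiA x ∈ Subgroup.centralizer {invA K m} := by
  obtain ⟨g, rfl⟩ := proj_surjective x
  exact phiA_mem_centralizer g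

lemma invA_comm_psiA (x : Matrix.ProjectiveSpecialLinearGroup (Fin 2) K) :
    invA K m * psiA x = psiA x * invA K m :=
  Subgroup.mem_centralizer_iff.1 (psiA_mem_centralizer x) _ rfl

lemma centralizer_split {x : G K m} (hx : x ∈ Subgroup.centralizer {invA K m}) :
    ∃ y, x = psiA y ∨ x = invA K m * psiA y := by
  let L := (psiA : Matrix.ProjectiveSpecialLinearGroup (Fin 2) K →* G K m).range
  have hle : L ≤ Subgroup.centralizer {invA K m} := by rintro _ ⟨y, rfl⟩; exact psiA_mem_centralizer y
  have hcard : Nat.card ↥(Subgroup.centralizer {invA K m}) = 2 * Nat.card L := by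
    rw [card_centralizer_invA, ← two_mul_card_PSL (K := K) (m := m),
      Nat.card_congr (MonoidHom.ofInjective (psiA_injective (K := K) (m := m))).toEquiv]
  have hidx : (L.subgroupOf (Subgroup.centralizer {invA K m})).index = 2 := by
    have h := (L.subgroupOf (Subgroup.centralizer {invA K m})).card_mul_index
    rw [Nat.card_congr (Subgroup.subgroupOfEquivOfLe hle).toEquiv, hcard, mul_comm 2] at h
    exact Nat.eq_of_mul_eq_mul_left Nat.card_pos h
  by_cases h : x ∈ L
  · obtain ⟨y, rfl⟩ := h; exact ⟨y, Or.inl rfl⟩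
  · have ha : invA K m ∈ Subgroup.centralizer {invA K m} := Subgroup.mem_centralizer_iff.2 (by rintro _ rfl; rfl)
    have := (Subgroup.mul_mem_iff_of_index_two hidx (a := ⟨invA K m, ha⟩) (b := ⟨x, hx⟩)).2
      ⟨fun h' => absurd h' invA_not_range, fun h' => absurd h' h⟩
    obtain ⟨y, hy⟩ := this
    exact ⟨y, Or.inr (by rw [show psiA y = invA K m * x from hy, ← mul_assoc, a_sq, one_mul])⟩

lemma comm_psiA_iff {x y : Matrix.ProjectiveSpecialLinearGroup (Fin 2) K} :
    (psiA x * psiA y : G K m) = psiA y * psiA x ↔ x * y = y * x := by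
  rw [← map_mul, ← map_mul]
  exact psiA_injective.eq_iff

lemma card_sylE_le : Nat.card ↥(sylE K m) ≤ 8 := by
  classical
  have hdec : ∀ x : ↥(sylE K m), ∃ (e : Bool) (g : SL(2, K)),
      (x : G K m) = (if e then invA K m else 1) * psiA (proj g) ∧
        (g * slN 1 = slN 1 * g ∨ g * slN 1 = slN 1 * g * negOne) ∧
        (g * slJ K = slJ K * g ∨ g * slJ K = slJ K * g * negOne) := by
    rintro ⟨x, hx⟩
    have hx' : ∀ t ∈ triple K m, t * x = x * t := Subgroup.mem_centralizer_iff.1 hx
    obtain ⟨y, hy⟩ := centralizer_split (x := x)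
      (Subgroup.mem_centralizer_iff.2 (by rintro _ rfl; exact hx' _ (by simp [triple])))
    obtain ⟨g, rfl⟩ := proj_surjective y
    have key : ∀ z, psiA z * x = x * psiA z → proj g * z = z * proj g := by
      intro z hz
      rcases hy with e | e <;> subst e
      · exact (comm_psiA_iff (m := m)).1 hz.symm
      · rw [← mul_assoc, ← invA_comm_psiA, mul_assoc, mul_assoc] at hz
        exact (comm_psiA_iff (m := m)).1 (mul_left_cancel hz).symm
    have hi := comm_or_anti (key (proj (slN (1 : Kˣ))) (hx' _ (by simp [triple])))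
    have hj := comm_or_anti (key (proj (slJ K)) (hx' _ (by simp [triple])))
    rcases hy with e | e
    · exact ⟨false, g, by simpa using e, hi, hj⟩
    · exact ⟨true, g, by simpa using e, hi, hj⟩
  choose e g hg hgi hgj using hdec
  let f : ↥(sylE K m) → Bool × Bool × Bool :=
    fun x => (e x, decide (g x * slN 1 = slN 1 * g x), decide (g x * slJ K = slJ K * g x))
  have hf : Function.Injective f := by
    intro x y hxy
    simp only [f, Prod.mk.injEq, decide_eq_decide] at hxy
    obtain ⟨h1, h2, h3⟩ := hxy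
    have hc : ∀ (s : SL(2, K)), (g x * s = s * g x ∨ g x * s = s * g x * negOne) →
        (g y * s = s * g y ∨ g y * s = s * g y * negOne) → (g x * s = s * g x ↔ g y * s = s * g y) →
        g y * (g x)⁻¹ * s = s * (g y * (g x)⁻¹) := by
      intro s a b hab
      obtain ⟨c, hcx, hcy⟩ : ∃ c, g x * s = s * g x * c ∧ g y * s = s * g y * c := by
        by_cases h : g x * s = s * g x
        · exact ⟨1, by rw [mul_one, h], by rw [mul_one, hab.1 h]⟩
        · exact ⟨negOne, a.resolve_left h, b.resolve_left fun hb => h (hab.2 hb)⟩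
      have : g y * (g x)⁻¹ = s * (g y * (g x)⁻¹) * s⁻¹ :=
        calc g y * (g x)⁻¹ = g y * s * (g x * s)⁻¹ := by group
          _ = s * g y * c * (s * g x * c)⁻¹ := by rw [hcx, hcy]
          _ = _ := by group
      exact eq_mul_inv_iff_mul_eq.1 this
    have hs : proj (g x) = proj (g y) := by
      rw [proj_eq_iff]
      rcases eq_scalar_of_comm_IJ (hc _ (hgi x) (hgi y) h2) (hc _ (hgj x) (hgj y) h3) with h | h
      · exact Or.inl (mul_inv_eq_one.1 h)
      · exact Or.inr (by rw [mul_inv_eq_iff_eq_mul.1 h, Cfsg.Agent.Lib.PSLTwo.Sylow.negOne_central])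
    exact Subtype.ext (by rw [hg x, hg y, h1, hs])
  exact le_trans (Nat.card_le_card_of_injective f hf) (by simp [Nat.card_eq_fintype_card])

lemma negOne_proj : proj (negOne : SL(2, K)) = 1 :=
  Cfsg.Agent.Lib.SL2Tori.Products.proj_eq_one_iff.2 (Or.inr rfl)

lemma slJ_sq : slJ K * slJ K = negOne := by
  have h3 : (3 : K) = 0 := CharP.cast_eq_zero K 3
  apply Subtype.ext
  rw [Matrix.SpecialLinearGroup.coe_mul, negOne_val, slJ_val, Matrix.mul_fin_two]
  ext i j; fin_cases i <;> fin_cases j <;> simp <;> linear_combination h3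

lemma slN_slJ : slN 1 * slJ K = slJ K * slN 1 * negOne := by
  apply Subtype.ext
  simp [Matrix.SpecialLinearGroup.coe_mul, negOne_val, slN_val, Matrix.mul_fin_two]

lemma triple_comm : ∀ s ∈ triple K m, ∀ t ∈ triple K m, s * t = t * s := by
  have hij : psiA (proj (slN (1 : Kˣ))) * psiA (proj (slJ K)) =
      psiA (proj (slJ K)) * (psiA (proj (slN (1 : Kˣ))) : G K m) := by
    rw [comm_psiA_iff, ← map_mul, slN_slJ, map_mul, negOne_proj, mul_one, map_mul]
  intro s hs t ht
  simp only [triple, Set.mem_insert_iff, Set.mem_singleton_iff] at hs ht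
  rcases hs with hs | hs | hs <;> rcases ht with ht | ht | ht <;> rw [hs, ht]
  · exact invA_comm_psiA _
  · exact invA_comm_psiA _
  · exact (invA_comm_psiA _).symm
  · exact hij
  · exact (invA_comm_psiA _).symm
  · exact hij.symm

lemma triple_sq : ∀ s ∈ triple K m, s * s = 1 := by
  simp only [triple, Set.mem_insert_iff, Set.mem_singleton_iff]
  rintro s (rfl | rfl | rfl)
  · exact a_sq
  · rw [← map_mul, ← map_mul, slN_one_sq, negOne_proj, map_one]
  · rw [← map_mul, ← map_mul, slJ_sq, negOne_proj, map_one]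

theorem exists_sylE : ∃ S : Sylow 2 (G K m), (S : Subgroup (G K m)) = sylE K m := by
  haveI : Fact (Nat.Prime 2) := ⟨Nat.prime_two⟩
  have hsq : ∀ x ∈ Subgroup.closure (triple K m), x * x = 1 := by
    intro x hx
    have hcl : Subgroup.closure (triple K m) ≤ Subgroup.centralizer (Subgroup.closure (triple K m) : Set (G K m)) := by
      rw [Subgroup.centralizer_closure, Subgroup.closure_le]
      exact fun s hs => Subgroup.mem_centralizer_iff.2 fun t ht => triple_comm t ht s hs
    induction hx using Subgroup.closure_induction with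
    | mem x hx => exact triple_sq x hx
    | one => exact one_mul 1
    | mul x y hx' hy' h1 h2 =>
      have hc : y * x = x * y := Subgroup.mem_centralizer_iff.1 (hcl hx') y hy'
      rw [mul_assoc, ← mul_assoc y, hc, mul_assoc x y, h2, mul_one, h1]
    | inv x _ h => rw [← mul_inv_rev, h, inv_one]
  have hP : IsPGroup 2 ↥(Subgroup.closure (triple K m)) :=
    fun x => ⟨1, Subtype.ext (by rw [pow_one, pow_two]; exact hsq x x.2)⟩
  obtain ⟨S, hS⟩ := hP.exists_le_sylow
  refine ⟨S, Subgroup.eq_of_le_of_card_ge ?_ (card_sylow_two S ▸ card_sylE_le)⟩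
  intro x hx
  rw [sylE, Subgroup.mem_centralizer_iff]
  intro t ht
  have htS : t ∈ S := hS (Subgroup.subset_closure ht)
  have h1 := sylow_two_exponent S _ hx
  have h2 := sylow_two_exponent S _ htS
  have h3 := sylow_two_exponent S _ (mul_mem htS hx)
  calc t * x = (t * x)⁻¹ := eq_inv_of_mul_eq_one_left h3
    _ = x * t := by rw [mul_inv_rev, inv_eq_of_mul_eq_one_right h1, inv_eq_of_mul_eq_one_right h2]

lemma card_sylE : Nat.card ↥(sylE K m) = 8 := by
  obtain ⟨S, hS⟩ := exists_sylE (K := K) (m := m)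
  rw [← hS]; exact card_sylow_two S

lemma sylE_comm : ∀ x ∈ sylE K m, ∀ y ∈ sylE K m, x * y = y * x := by
  obtain ⟨S, hS⟩ := exists_sylE (K := K) (m := m)
  rw [← hS]
  intro x hx y hy
  have h1 := sylow_two_exponent S _ hx
  have h2 := sylow_two_exponent S _ hy
  have h3 := sylow_two_exponent S _ (mul_mem hx hy)
  calc x * y = (x * y)⁻¹ := eq_inv_of_mul_eq_one_left h3
    _ = y * x := by rw [mul_inv_rev, inv_eq_of_mul_eq_one_right h1, inv_eq_of_mul_eq_one_right h2]

lemma triple_le_sylE : triple K m ⊆ sylE K m :=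
  fun s hs => Subgroup.mem_centralizer_iff.2 fun t ht => triple_comm t ht s hs

lemma invA_mem_sylE : invA K m ∈ sylE K m := triple_le_sylE (by simp [triple])

theorem centralizer_sylE : Subgroup.centralizer (sylE K m : Set (G K m)) = sylE K m :=
  le_antisymm (Subgroup.centralizer_le triple_le_sylE)
    fun x hx => Subgroup.mem_centralizer_iff.2 fun y hy => sylE_comm y hy x hx

end Cfsg.Agent.Lib.Ree
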