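import Cfsg.Agent.Lib.Ree.Invol

/-!
Elements of order divisible by three in the small Ree group and their centralisers.
-/

set_option autoImplicit false
set_option linter.unusedSectionVars false

open scoped Pointwise

namespace Cfsg.Agent.Lib.Ree

open Cfsg.Lie
open Cfsg.Agent.Lib.LieTwisted Cfsg.Agent.Lib.LieTwisted.Ree

variable {K : Type*} [Field K] [CharP K 3] [Fintype K] {m : ℕ} [hF : Fact (Fintype.card K = 3 ^ (2 * m + 1))]

lemma card_U1 : Nat.card ↥(U1 (K := K) m) = qq m ^ 3 := by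
  rw [Nat.card_congr (Subgroup.subgroupOfEquivOfLe (inf_le_right)).toEquiv, card_pos_twisted hF.out]

lemma three_not_dvd_cofactor (m : ℕ) : ¬ 3 ∣ (qq m - 1) * (qq m ^ 3 + 1) := by
  intro h
  rcases (Nat.prime_three.dvd_mul).1 h with h | h
  · exact (not_three_dvd_qq_pm m).1 h
  · rw [cube_add_one] at h
    rcases (Nat.prime_three.dvd_mul).1 h with h | h
    · exact (not_three_dvd_qq_pm m).2 h
    · exact not_three_dvd_tT m h

lemma U1_index : (U1 (K := K) m).index = (qq m - 1) * (qq m ^ 3 + 1) := by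
  have h := (U1 (K := K) m).card_mul_index
  rw [card_U1, card_G, mul_assoc] at h
  exact Nat.eq_of_mul_eq_mul_left (pow_pos (le_trans (by norm_num) (qq_ge m)) 3) h

/-- `U¹` is a Sylow 3-subgroup. -/
theorem exists_sylow_U1 : ∃ P : Sylow 3 (G K m), (P : Subgroup (G K m)) = U1 (K := K) m := by
  haveI : Fact (Nat.Prime 3) := ⟨Nat.prime_three⟩
  have hp : IsPGroup 3 ↥(U1 (K := K) m) := IsPGroup.of_card (n := (2 * m + 1) * 3) (by rw [card_U1, ← pow_mul])
  exact ⟨hp.toSylow (by rw [U1_index]; exact three_not_dvd_cofactor m), rfl⟩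

lemma exists_conj_U1 {z : G K m} {n : ℕ} (hz : z ^ 3 ^ n = 1) : ∃ g : G K m, g * z * g⁻¹ ∈ U1 (K := K) m := by
  haveI : Fact (Nat.Prime 3) := ⟨Nat.prime_three⟩
  obtain ⟨k, -, hk⟩ := (Nat.dvd_prime_pow Nat.prime_three).1 (orderOf_dvd_of_pow_eq_one hz)
  have hp : IsPGroup 3 (Subgroup.zpowers z) := IsPGroup.of_card (n := k) (by rw [Nat.card_zpowers, hk])
  obtain ⟨S, hS⟩ := hp.exists_le_sylow
  obtain ⟨P, hP⟩ := exists_sylow_U1 (K := K) (m := m)
  obtain ⟨g, hg⟩ := MulAction.exists_smul_eq (G K m) S P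
  refine ⟨g, ?_⟩
  rw [← hP, ← hg, Sylow.smul_def, Sylow.pointwise_smul_def, Subgroup.mem_pointwise_smul_iff_inv_smul_mem]
  show (MulAut.conj g)⁻¹ (g * z * g⁻¹) ∈ (S : Subgroup (G K m))
  rw [MulAut.conj_inv_apply]
  simpa [mul_assoc] using hS (Subgroup.mem_zpowers z)

/-- Elements commuting with an element of order three have order dividing 6 or 9. -/
theorem orderOf_of_commute_three {y z : G K m} (hz : orderOf z = 3) (hc : y * z = z * y) :
    orderOf y ∣ 6 ∨ orderOf y ∣ 9 := by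
  obtain ⟨g, hg⟩ := exists_conj_U1 (z := z) (n := 1) (orderOf_dvd_iff_pow_eq_one.1 (dvd_of_eq (by rw [pow_one]; exact hz)))
  have hne : g * z * g⁻¹ ≠ 1 := fun h => by
    rw [conj_eq_one_iff.1 h, orderOf_one] at hz; exact absurd hz (by decide)
  have hc' : (g * y * g⁻¹) * (g * z * g⁻¹) = (g * z * g⁻¹) * (g * y * g⁻¹) := by
    rw [conj_mul, conj_mul, hc]
  obtain ⟨t, u, v, h | h⟩ := centralizer_gU hg hne hc'
  · right
    have := orderOf_dvd_of_pow_eq_one (show (g * y * g⁻¹) ^ 9 = 1 by rw [h, gU_pow_nine])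
    rwa [← MulAut.conj_apply, MulEquiv.orderOf_eq] at this
  · left
    have := orderOf_dvd_of_pow_eq_one (show (g * y * g⁻¹) ^ 6 = 1 by rw [h, gU_a_pow_six])
    rwa [← MulAut.conj_apply, MulEquiv.orderOf_eq] at this

end Cfsg.Agent.Lib.Ree
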