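import Cfsg.Agent.Lib.Ree.InvolClass
import Cfsg.Agent.Lib.Ree.ThreeElts
import Cfsg.Agent.Lib.SL2Tori.Basic

/-!
Centralisers inside the involution centraliser of elements of order prime to six.
-/

set_option autoImplicit false
set_option linter.unusedSectionVars false

namespace Cfsg.Agent.Lib.Ree

open Cfsg.Lie
open Cfsg.Agent.Lib.SL2Tori (Regular torus mem_torus)
open Cfsg.Agent.Lib.SL2Tori.Products (proj proj_surjective proj_eq_iff proj_eq_one_iff)
open Cfsg.Agent.Lib.PSLTwo.Sylow (negOne slTr NonScalar negOne_central negOne_sq det_eq)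
open scoped MatrixGroups

variable {K : Type*} [Field K] [CharP K 3] [Fintype K] {m : ℕ} [hF : Fact (Fintype.card K = 3 ^ (2 * m + 1))]

lemma phiA_eq_psiA (g : SL(2, K)) : (phiA g : G K m) = psiA (proj g) := rfl

lemma phiA_comm_iff (g h : SL(2, K)) :
    (phiA g * phiA h : G K m) = phiA h * phiA g ↔ proj g * proj h = proj h * proj g := by
  rw [phiA_eq_psiA, phiA_eq_psiA, comm_psiA_iff]

lemma invA_comm_phiA (g : SL(2, K)) : invA K m * phiA g = phiA g * invA K m  := by
  rw [phiA_eq_psiA]; exact invA_comm_psiA _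

lemma invA_mul_phiA_pow (g : SL(2, K)) (n : ℕ) :
    (invA K m * phiA g) ^ n = invA K m ^ n * (phiA (g ^ n) : G K m) := by
  rw [(show Commute (invA K m) (phiA g) from invA_comm_phiA g).mul_pow, map_pow]

/-- An element of odd order of `C(a)` lies in the diagonal `PSL₂`. -/
lemma exists_phiA_of_odd {x : G K m} (hx : x ∈ Subgroup.centralizer {invA K m}) {n : ℕ} (hn : Odd n)
    (hxn : x ^ n = 1) : ∃ g, x = phiA g := by
  obtain ⟨y, hy⟩ := centralizer_split hx
  obtain ⟨g, rfl⟩ := proj_surjective y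
  rcases hy with h | h
  · exact ⟨g, h⟩
  · exfalso
    rw [h, ← phiA_eq_psiA, invA_mul_phiA_pow] at hxn
    obtain ⟨k, rfl⟩ := hn
    rw [pow_succ, pow_mul, pow_two, a_sq, one_pow, one_mul] at hxn
    refine invA_not_range (K := K) (m := m) ⟨proj (g ^ (2 * k + 1))⁻¹, ?_⟩
    rw [← phiA_eq_psiA, map_inv]
    exact (eq_inv_of_mul_eq_one_left hxn).symm

variable (m) in
/-- `⟨a⟩ × H̄` for a subgroup `H` of `SL₂`. -/
noncomputable def dbl (H : Subgroup SL(2, K)) : Subgroup (G K m) where
  carrier := {z | ∃ h ∈ H, z = phiA h ∨ z = invA K m * phiA h}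
  one_mem' := ⟨1, one_mem _, Or.inl (map_one _).symm⟩
  mul_mem' := by
    rintro x y ⟨h, hh, hx⟩ ⟨k, hk, hy⟩
    refine ⟨h * k, mul_mem hh hk, ?_⟩
    rcases hx with rfl | rfl <;> rcases hy with rfl | rfl <;> rw [map_mul]
    · exact Or.inl rfl
    · right; rw [← mul_assoc, ← invA_comm_phiA, mul_assoc]
    · right; rw [mul_assoc]
    · left; rw [mul_assoc, ← mul_assoc (phiA h), ← invA_comm_phiA, mul_assoc, ← mul_assoc, a_sq, one_mul]
  inv_mem' := by
    rintro x ⟨h, hh, hx⟩
    refine ⟨h⁻¹, inv_mem hh, ?_⟩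
    rcases hx with rfl | rfl <;> rw [map_inv]
    · exact Or.inl rfl
    · right; rw [invA_comm_phiA, mul_inv_rev, inv_eq_of_mul_eq_one_right a_sq]

lemma mem_dbl {H : Subgroup SL(2, K)} {z : G K m} :
    z ∈ dbl m H ↔ ∃ h ∈ H, z = phiA h ∨ z = invA K m * phiA h := Iff.rfl

lemma phiA_mem_dbl {H : Subgroup SL(2, K)} {h : SL(2, K)} (hh : h ∈ H) : (phiA h : G K m) ∈ dbl m H :=
  ⟨h, hh, Or.inl rfl⟩

lemma invA_mem_dbl (H : Subgroup SL(2, K)) : invA K m ∈ dbl m H :=
  ⟨1, one_mem _, Or.inr (by rw [map_one, mul_one])⟩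

lemma dbl_le (H : Subgroup SL(2, K)) : dbl m H ≤ Subgroup.centralizer {invA K m} := by
  rintro z ⟨h, -, rfl | rfl⟩
  · exact phiA_mem_centralizer h
  · exact mul_mem (Subgroup.mem_centralizer_iff.2 (by rintro _ rfl; rfl)) (phiA_mem_centralizer h)

theorem card_dbl (H : Subgroup SL(2, K)) (hn : (negOne : SL(2, K)) ∈ H) :
    Nat.card ↥(dbl m H) = Nat.card H := by
  classical
  let f : ↥H →* G K m := phiA.comp H.subtype
  have hker : Nat.card ↥f.ker = 2 := by
    have h2 : (2 : K) ≠ 0 := fun h => by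
      have h3 : (3 : K) = 0 := CharP.cast_eq_zero K 3
      exact one_ne_zero (by linear_combination h3 - h : (1 : K) = 0)
    have hne : (⟨negOne, hn⟩ : ↥H) ≠ 1 := fun h =>
      Cfsg.Agent.Lib.PSLTwo.Sylow.negOne_ne_one h2 (congrArg Subtype.val h)
    have : (f.ker : Set ↥H) = {1, ⟨negOne, hn⟩} := by
      ext x
      constructor
      · intro hx
        rcases phiA_kernel (g := (x : SL(2, K))) hx with h | h
        · exact Or.inl (Subtype.ext h)
        · exact Or.inr (Subtype.ext h)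
      · rintro (rfl | rfl)
        · exact map_one _
        · exact phiA_negOne
    show Nat.card ↥(f.ker : Set ↥H) = 2
    rw [this, Nat.card_coe_set_eq, Set.ncard_pair hne.symm]
  let g : Bool × ↥f.range → ↥(dbl m H) := fun p => ⟨(if p.1 then invA K m else 1) * p.2.1, by
    obtain ⟨b, ⟨_, x, rfl⟩⟩ := p
    cases b
    · exact ⟨x, x.2, Or.inl (one_mul _)⟩
    · exact ⟨x, x.2, Or.inr rfl⟩⟩
  have hg : Function.Bijective g := by
    constructor
    · rintro ⟨b, ⟨_, x, rfl⟩⟩ ⟨c, ⟨_, y, rfl⟩⟩ h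
      have h' : (if b then invA K m else 1) * f x = (if c then invA K m else 1) * f y := congrArg Subtype.val h
      have key : ∀ x y : ↥H, invA K m * f x = f y → False := fun x y h =>
        invA_not_range (K := K) (m := m) ⟨proj ((y : SL(2, K)) * (x : SL(2, K))⁻¹), by
          rw [← phiA_eq_psiA, map_mul, map_inv]; exact (eq_mul_inv_iff_mul_eq.2 h).symm⟩
      cases b <;> cases c <;> simp only [Bool.false_eq_true, if_false, if_true, one_mul] at h'
      · exact Prod.ext rfl (Subtype.ext h')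
      · exact (key y x h'.symm).elim
      · exact (key x y h').elim
      · exact Prod.ext rfl (Subtype.ext (mul_left_cancel h'))
    · rintro ⟨_, h, hh, rfl | rfl⟩
      · exact ⟨(false, ⟨_, ⟨h, hh⟩, rfl⟩), Subtype.ext (one_mul _)⟩
      · exact ⟨(true, ⟨_, ⟨h, hh⟩, rfl⟩), rfl⟩
  rw [← Nat.card_congr (Equiv.ofBijective g hg), Nat.card_prod, Nat.card_eq_fintype_card, Fintype.card_bool,
    ← Nat.card_congr (QuotientGroup.quotientKerEquivRange f).toEquiv, Subgroup.card_eq_card_quotient_mul_card_subgroup f.ker,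
    hker]
  ring

lemma two_ne_zero' : (2 : K) ≠ 0 := fun h => by
  have h3 : (3 : K) = 0 := CharP.cast_eq_zero K 3
  exact one_ne_zero (by linear_combination h3 - h : (1 : K) = 0)

omit hF in
lemma proj_cube_of_not_regular {g : SL(2, K)} (hg : ¬ Regular g) : proj g ^ 3 = 1 := by
  have h3 : (3 : K) = 0 := CharP.cast_eq_zero K 3
  have ht : slTr g ^ 2 = 4 := not_not.1 hg
  have hd := det_eq g
  have hM : (g : Matrix (Fin 2) (Fin 2) K) * g = slTr g • (g : Matrix (Fin 2) (Fin 2) K) - 1 := by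
    ext i j; fin_cases i <;> fin_cases j <;> simp [Matrix.mul_apply, Fin.sum_univ_two, slTr] <;>
      first | linear_combination -hd | ring
  have hM3 : (g : Matrix (Fin 2) (Fin 2) K) * g * g = (-slTr g) • (1 : Matrix (Fin 2) (Fin 2) K) := by
    rw [hM, sub_mul, smul_mul_assoc, hM, one_mul, smul_sub, smul_smul,
      show slTr g * slTr g = 1 from by linear_combination ht + h3, one_smul, neg_smul]
    abel
  rw [← map_pow, proj_eq_one_iff]
  have hcoe : ((g ^ 3 : SL(2, K)) : Matrix (Fin 2) (Fin 2) K) = (-slTr g) • 1 := by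
    rw [Matrix.SpecialLinearGroup.coe_pow, pow_three', hM3]
  rcases mul_self_eq_one_iff.1 (show slTr g * slTr g = 1 from by linear_combination ht + h3) with h | h
  · right; apply Subtype.ext; rw [hcoe, h, negOne_val]; simp
  · left; apply Subtype.ext; rw [hcoe, h]; simp

/-- Structure of `C(a) ∩ C(y)`, `y` of order prime to six. -/
theorem centralizer_inf {y : G K m} (hy : y ∈ Subgroup.centralizer {invA K m}) (ho : Odd (orderOf y))
    (h3 : ¬ 3 ∣ orderOf y) (hy1 : y ≠ 1) :
    ∃ g : SL(2, K), y = phiA g ∧ Regular g ∧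
      Subgroup.centralizer {invA K m} ⊓ Subgroup.centralizer {y} = dbl m (torus g) := by
  obtain ⟨g, rfl⟩ := exists_phiA_of_odd hy ho (pow_orderOf_eq_one _)
  have hreg : Regular g := by
    by_contra h
    have h' : orderOf (phiA g : G K m) ∣ 3 := orderOf_dvd_of_pow_eq_one (by
      rw [phiA_eq_psiA, ← map_pow, proj_cube_of_not_regular h, map_one])
    rcases (Nat.dvd_prime Nat.prime_three).1 h' with h1 | h1
    · exact hy1 (orderOf_eq_one_iff.1 h1)
    · exact h3 (dvd_of_eq h1.symm)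
  have hgg : NonScalar (g * g) := by
    by_contra h
    have h1 : (phiA (g * g) : G K m) = 1 := by
      rcases Cfsg.Agent.Lib.PSLTwo.Sylow.scalar_cases h with e | e <;> rw [e]
      · exact map_one _
      · exact phiA_negOne
    rw [map_mul, ← pow_two] at h1
    rcases (Nat.dvd_prime Nat.prime_two).1 (orderOf_dvd_of_pow_eq_one h1) with h2 | h2
    · exact hy1 (orderOf_eq_one_iff.1 h2)
    · rw [h2] at ho; exact absurd ho (by decide)
  refine ⟨g, rfl, hreg, le_antisymm ?_ ?_⟩
  · rintro z ⟨hza, hzy⟩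
    obtain ⟨x, hx⟩ := centralizer_split hza
    obtain ⟨h, rfl⟩ := proj_surjective x
    have hc : (phiA g * phiA h : G K m) = phiA h * phiA g := by
      have h' := Subgroup.mem_centralizer_iff.1 hzy _ rfl
      rcases hx with rfl | rfl
      · exact h'
      · rw [← phiA_eq_psiA, ← mul_assoc, ← invA_comm_phiA, mul_assoc, mul_assoc] at h'
        exact mul_left_cancel h'
    refine ⟨h, ?_, hx⟩
    rcases comm_or_anti ((phiA_comm_iff g h).1 hc).symm with e | e
    · exact mem_torus.2 e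
    · rw [← Cfsg.Agent.Lib.SL2Tori.torus_eq_of_mem hreg
        (mul_mem (Cfsg.Agent.Lib.SL2Tori.self_mem_torus g) (Cfsg.Agent.Lib.SL2Tori.self_mem_torus g)) hgg,
        mem_torus]
      rw [← mul_assoc, e, mul_assoc (g * h), negOne_central, ← mul_assoc, mul_assoc g h, e]
      simp only [mul_assoc, negOne_sq, mul_one]
  · refine le_inf (dbl_le _) ?_
    rintro z ⟨h, hh, hz⟩
    rw [Subgroup.mem_centralizer_iff]
    rintro _ rfl
    rcases hz with rfl | rfl
    · rw [← map_mul, ← map_mul, mem_torus.1 hh]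
    · rw [← mul_assoc, ← invA_comm_phiA, mul_assoc, mul_assoc, ← map_mul, ← map_mul, mem_torus.1 hh]

lemma card_torus_cases {g : SL(2, K)} (hg : Regular g) :
    Nat.card (torus g) = qq m + 1 ∨ Nat.card (torus g) = qq m - 1 := by
  have hodd : Odd (Fintype.card K) := hF.out ▸ odd_q m
  by_cases h : IsSquare (slTr g ^ 2 - 4)
  · exact Or.inr (by rw [Cfsg.Agent.Lib.SL2Tori.card_torus_split hodd hg h, hF.out])
  · exact Or.inl (by rw [Cfsg.Agent.Lib.SL2Tori.card_torus_nonsplit hodd h, hF.out])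

/-- If `C(a) ∩ C(y)` contains a subgroup of order `q + 1`, it is equal to it. -/
theorem centralizer_inf_eq {y : G K m} (hy : y ∈ Subgroup.centralizer {invA K m}) (ho : Odd (orderOf y))
    (h3 : ¬ 3 ∣ orderOf y) (hy1 : y ≠ 1) {D : Subgroup (G K m)}
    (hD : D ≤ Subgroup.centralizer {invA K m} ⊓ Subgroup.centralizer {y}) (hc : Nat.card D = qq m + 1) :
    Subgroup.centralizer {invA K m} ⊓ Subgroup.centralizer {y} = D := by
  obtain ⟨g, -, hreg, he⟩ := centralizer_inf hy ho h3 hy1
  refine (Subgroup.eq_of_le_of_card_ge hD ?_).symm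
  have hd := Subgroup.card_dvd_of_le hD
  rw [he, card_dbl _ (Cfsg.Agent.Lib.SL2Tori.negOne_mem_torus g), hc] at hd ⊢
  rcases card_torus_cases (m := m) hreg with h | h
  · exact h.le
  · rw [h] at hd
    have := Nat.le_of_dvd (by have := qq_ge m; omega) hd
    omega

end Cfsg.Agent.Lib.Ree
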