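import Cfsg.Agent.Lib.Ree.Invol

/-!
The torus of order `(q-1)/2` and its normaliser.
-/

set_option autoImplicit false
set_option linter.unusedSectionVars false

namespace Cfsg.Agent.Lib.Ree

open Cfsg.Lie
open Cfsg.Agent.Lib.LieTwisted Cfsg.Agent.Lib.LieTwisted.Ree

/-- The normaliser of a cyclic subgroup normalises each of its subgroups. -/
theorem normalizer_cyclic_le {Γ : Type*} [Group Γ] [Finite Γ] {A A₀ : Subgroup Γ} (hA : IsCyclic A) (h : A₀ ≤ A) :
    Subgroup.normalizer (A : Set Γ) ≤ Subgroup.normalizer (A₀ : Set Γ) := by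
  intro n hn
  have key : ∀ x ∈ A₀, n * x * n⁻¹ ∈ A₀ := by
    intro x hx
    letI : CommGroup ↥A := IsCyclic.commGroup
    classical
    have hxA : n * x * n⁻¹ ∈ A := (Subgroup.mem_normalizer_iff.1 hn x).1 (h hx)
    set S : Set ↥A := {z | z ^ Nat.card A₀ = 1} with hS
    have hsub : (A₀.subgroupOf A : Set ↥A) ⊆ S := fun z hz =>
      Subtype.ext (by
        rw [Subgroup.coe_pow]
        exact congrArg Subtype.val (pow_card_eq_one' (x := (⟨z.1, hz⟩ : A₀))))
    have hScard : S.ncard ≤ Nat.card ↥A₀ := by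
      haveI := Fintype.ofFinite ↥A
      rw [hS, Set.ncard_eq_toFinset_card', Set.toFinset_setOf]
      exact IsCyclic.card_pow_eq_one_le Nat.card_pos
    have heq : (A₀.subgroupOf A : Set ↥A) = S := by
      refine Set.eq_of_subset_of_ncard_le hsub ?_ (Set.toFinite _)
      rwa [← Nat.card_coe_set_eq (s := (A₀.subgroupOf A : Set ↥A)), SetLike.coe_sort_coe,
        Nat.card_congr (Subgroup.subgroupOfEquivOfLe h).toEquiv]
    have hmem : (⟨n * x * n⁻¹, hxA⟩ : ↥A) ∈ S := Subtype.ext (by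
      rw [Subgroup.coe_pow]
      show (n * x * n⁻¹) ^ Nat.card A₀ = 1
      rw [conj_pow, show x ^ Nat.card A₀ = 1 from congrArg Subtype.val (pow_card_eq_one' (x := (⟨x, hx⟩ : A₀))),
        mul_one, mul_inv_cancel])
    rw [← heq] at hmem
    exact hmem
  exact (Subgroup.mem_normalizer_iff_map_conj_eq).2 (Subgroup.eq_of_le_of_card_ge
    (by rintro _ ⟨x, hx, rfl⟩; exact key x hx)
    (le_of_eq (Subgroup.card_map_of_injective (MulAut.conj n).injective).symm))

variable {K : Type*} [Field K] [CharP K 3] [Fintype K] {m : ℕ} [hF : Fact (Fintype.card K = 3 ^ (2 * m + 1))]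

variable (K m) in
/-- The diagonal subgroup `H¹`. -/
noncomputable abbrev torH : Subgroup (G K m) := (gH : Kˣ →* G K m).range

variable (K m) in
/-- The torus of order `(q-1)/2`. -/
noncomputable def torM : Subgroup (G K m) := (powMonoidHom 2 : Kˣ →* Kˣ).range.map gH

lemma torM_le : torM K m ≤ torH K m := by rintro _ ⟨y, -, rfl⟩; exact ⟨y, rfl⟩

lemma mem_torM {y : Kˣ} : (gH y : G K m) ∈ torM K m ↔ ∃ z : Kˣ, z ^ 2 = y := by
  constructor
  · rintro ⟨z, ⟨w, hw⟩, hz⟩
    exact ⟨w, (show w ^ 2 = z from hw).trans (gH_injective hz)⟩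
  · rintro ⟨z, rfl⟩; exact ⟨_, ⟨z, rfl⟩, rfl⟩

lemma card_torM : Nat.card ↥(torM K m) = (qq m - 1) / 2 := by
  rw [torM, Subgroup.card_map_of_injective gH_injective]
  have h := IsCyclic.card_powMonoidHom_range Kˣ 2
  rw [h, card_units_K (m := m)]
  congr 1
  obtain ⟨k, hk, -⟩ := half_qq_odd m
  exact Nat.gcd_eq_right ⟨2 * k + 1, hk⟩

lemma torM_isCyclic : IsCyclic ↥(torM K m) :=
  isCyclic_of_surjective (gH.subgroupMap _) (MonoidHom.subgroupMap_surjective _ _)

lemma torM_order {x : G K m} (hx : x ∈ torM K m) : Odd (orderOf x) ∧ orderOf x ∣ (qq m - 1) / 2 := by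
  have h : orderOf x ∣ (qq m - 1) / 2 := by
    rw [← card_torM (K := K) (m := m)]; exact Subgroup.orderOf_dvd_natCard _ hx
  obtain ⟨k, -, hk⟩ := half_qq_odd m
  exact ⟨(show Odd ((qq m - 1) / 2) from ⟨k, hk⟩).of_dvd_nat h, h⟩

lemma regular_of_odd {y : Kˣ} (h : Odd (orderOf (gH y : G K m))) (h1 : (gH y : G K m) ≠ 1) : y ≠ 1 ∧ y ≠ -1 := by
  refine ⟨fun e => h1 (by rw [e, map_one]), fun e => ?_⟩
  rw [e] at h h1
  have := orderOf_dvd_of_pow_eq_one (show (gH (-1) : G K m) ^ 2 = 1 by rw [pow_two, a_sq])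
  rcases (Nat.dvd_prime Nat.prime_two).1 this with h2 | h2
  · exact h1 (orderOf_eq_one_iff.1 h2)
  · rw [h2] at h; exact absurd h (by decide)

/-- An element conjugating a regular diagonal element into `H¹` lies in `N(H¹)`. -/
theorem conj_regular_cases {g : G K m} {y y' : Kˣ} (h1 : y ≠ 1) (h2 : y ≠ -1)
    (h : g * gH y * g⁻¹ = gH y') : ∃ z : Kˣ, g = gH z ∨ g = gH z * w0 m := by
  have hc : (gH y' : G K m) * g = g * gH y := (mul_inv_eq_iff_eq_mul.1 h).symm
  have hy' : y' ≠ 1 ∧ y' ≠ -1 := by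
    constructor <;> intro e <;> rw [e] at h
    · rw [map_one, conj_eq_one_iff, ← map_one (gH : Kˣ →* G K m)] at h
      exact h1 (gH_injective h)
    · have hh : g * (gH y * gH y) * g⁻¹ = (1 : G K m) := by rw [← conj_mul, h, a_sq]
      rw [conj_eq_one_iff, ← map_mul, ← map_one (gH : Kˣ →* G K m)] at hh
      have h4 : (y : K) * y = 1 := congrArg Units.val (gH_injective hh)
      rcases mul_self_eq_one_iff.1 h4 with h5 | h5
      · exact h1 (Units.ext h5)
      · exact h2 (Units.ext h5)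
  obtain ⟨hA, hB, hC⟩ := scales_ne (m := m) hy'.1 hy'.2
  have zero : ∀ {s x : K}, s ≠ 1 → s * x = x → x = 0 := fun hs e => by
    by_contra h0; exact hs ((mul_left_eq_self₀.1 e).resolve_right h0)
  rcases gcases g with ⟨t, u, v, z, rfl⟩ | ⟨t, u, v, z, a, b, c, rfl⟩
  · rw [← mul_assoc, gH_gU, mul_assoc, mul_assoc, ← map_mul, ← map_mul] at hc
    obtain ⟨⟨e1, e2, e3⟩, -⟩ := small_inj hc
    exact ⟨z, Or.inl (by rw [zero hA e1, zero hB e2, zero hC e3, gU_zero, one_mul])⟩
  · obtain ⟨hA0, hB0, hC0⟩ := scales_ne (m := m) (y := y⁻¹) (by simpa using h1) (fun e => h2 (by rw [← inv_inv y, e, inv_neg_one]))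
    have el : (gH y' : G K m) * (gU t u v * gH z * w0 m * gU a b c) =
        gU (scA m y' * t) (scB m y' * u) ((y' : K) * v) * gH (y' * z) * w0 m * gU a b c := by
      simp only [← mul_assoc, gH_gU, map_mul]
    have er : (gU t u v * gH z * w0 m * gU a b c : G K m) * gH y =
        gU t u v * gH (z * y⁻¹) * w0 m * gU (scA m y⁻¹ * a) (scB m y⁻¹ * b) ((y⁻¹ : Kˣ) * c) := by
      have e' : (gU a b c : G K m) * gH y = gH y * gU (scA m y⁻¹ * a) (scB m y⁻¹ * b) ((y⁻¹ : Kˣ) * c) := by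
        rw [← gH_conj_gU, map_inv]; group
      rw [mul_assoc (_ * w0 m), e', ← mul_assoc, mul_assoc (gU t u v * gH z) (w0 m), w0_gH, ← mul_assoc,
        mul_assoc (gU t u v), ← map_mul]
    obtain ⟨⟨⟨e1, e2, e3⟩, -⟩, e4, e5, e6⟩ := big_inj (el.symm.trans (hc.trans er))
    refine ⟨z, Or.inr ?_⟩
    rw [zero hA e1, zero hB e2, zero hC e3, zero hA0 e4.symm, zero hB0 e5.symm, zero hC0 e6.symm, gU_zero, one_mul,
      mul_one]

lemma exists_torM_ne_one (hm : 1 ≤ m) : ∃ y : Kˣ, (gH y : G K m) ∈ torM K m ∧ (gH y : G K m) ≠ 1 := by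
  by_contra hc
  push Not at hc
  have hbot : torM K m = ⊥ := (Subgroup.eq_bot_iff_forall _).2 fun x hx => by
    obtain ⟨y, rfl⟩ := torM_le hx; exact hc y hx
  have := card_torM (K := K) (m := m)
  rw [hbot, Subgroup.card_bot] at this
  have := qq_ge27 hm
  omega

theorem normalizer_torM (hm : 1 ≤ m) :
    Nat.card ↥(Subgroup.normalizer (torM K m : Set (G K m))) = 2 * (qq m - 1) := by
  classical
  set N := Subgroup.normalizer (torM K m : Set (G K m))
  have hcases : ∀ g ∈ N, ∃ z : Kˣ, g = gH z ∨ g = gH z * w0 m := by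
    intro g hg
    obtain ⟨y, hy, hy1⟩ := exists_torM_ne_one (K := K) hm
    obtain ⟨y', hy'⟩ := torM_le ((Subgroup.mem_normalizer_iff.1 hg _).1 hy)
    obtain ⟨h1, h2⟩ := regular_of_odd (torM_order hy).1 hy1
    exact conj_regular_cases h1 h2 hy'.symm
  have hH : ∀ z : Kˣ, (gH z : G K m) ∈ N := fun z => by
    rw [Subgroup.mem_normalizer_iff]
    intro x
    have hc : ∀ y : Kˣ, (gH z : G K m) * gH y * (gH z)⁻¹ = gH y := fun y => by
      rw [← map_inv, ← map_mul, ← map_mul, mul_inv_cancel_comm]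
    constructor
    · intro hx; obtain ⟨y, rfl⟩ := torM_le hx; rwa [hc]
    · intro hx
      obtain ⟨y, hy⟩ := torM_le hx
      have hxy : x = gH y := by
        have := congrArg (fun s => (gH z : G K m)⁻¹ * s * gH z) hy
        rw [← map_inv, ← map_mul, ← map_mul, inv_mul_cancel_comm] at this
        rw [this]
        simp [mul_assoc]
      rw [hxy, hc] at hx
      rwa [hxy]
  have hW : (w0 m : G K m) ∈ N := by
    have key : ∀ x ∈ torM K m, w0 m * x * w0 m ∈ torM K m := by
      intro x hx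
      obtain ⟨y, rfl⟩ := torM_le hx
      rw [w0_gH, mul_assoc, w0_mul_self, mul_one]
      obtain ⟨z, hz⟩ := mem_torM.1 hx
      exact mem_torM.2 ⟨z⁻¹, by rw [inv_pow, hz]⟩
    rw [Subgroup.mem_normalizer_iff]
    intro x
    rw [w0_inv]
    exact ⟨key x, fun hx => by
      have := key _ hx
      rwa [show w0 m * (w0 m * x * w0 m) * w0 m = x by
        simp only [← mul_assoc, w0_mul_self, one_mul]; rw [mul_assoc, w0_mul_self, mul_one]] at this⟩
  let f : Bool × Kˣ → ↥N := fun p => ⟨gH p.2 * (if p.1 then w0 m else 1), by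
    obtain ⟨b, z⟩ := p
    cases b
    · simpa using hH z
    · exact mul_mem (hH z) hW⟩
  have hf : Function.Bijective f := by
    constructor
    · rintro ⟨b, z⟩ ⟨b', z'⟩ h
      have h' : (gH z : G K m) * (if b then w0 m else 1) = gH z' * (if b' then w0 m else 1) := congrArg Subtype.val h
      have key : ∀ z z' : Kˣ, (gH z * w0 m : G K m) ≠ gH z' := fun z z' e => by
        apply big_not_B1 (m := m) 0 0 0 z 0 0 0
        rw [gU_zero, one_mul, mul_one, e]
        exact gH_mem_B1 _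
      cases b <;> cases b' <;> simp only [Bool.false_eq_true, if_false, if_true, mul_one] at h'
      · rw [gH_injective h']
      · exact absurd h'.symm (key z' z)
      · exact absurd h' (key z z')
      · rw [gH_injective (mul_right_cancel h')]
    · rintro ⟨g, hg⟩
      obtain ⟨z, rfl | rfl⟩ := hcases g hg
      · exact ⟨(false, z), Subtype.ext (mul_one _)⟩
      · exact ⟨(true, z), rfl⟩
  rw [← Nat.card_congr (Equiv.ofBijective f hf), Nat.card_prod, Nat.card_eq_fintype_card (α := Bool),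
    Fintype.card_bool, card_units_K (m := m)]

theorem normalizer_sub_torM {A₀ : Subgroup (G K m)} (hle : A₀ ≤ torM K m) (hne : A₀ ≠ ⊥) :
    Subgroup.normalizer (A₀ : Set (G K m)) = Subgroup.normalizer (torM K m : Set (G K m)) := by
  refine le_antisymm (fun n hn => ?_) (normalizer_cyclic_le torM_isCyclic hle)
  obtain ⟨x, hx, hx1⟩ := (Subgroup.bot_or_exists_ne_one A₀).resolve_left hne
  obtain ⟨y, rfl⟩ := torM_le (hle hx)
  obtain ⟨h1, h2⟩ := regular_of_odd (torM_order (hle hx)).1 hx1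
  obtain ⟨y', hy'⟩ := torM_le (hle ((Subgroup.mem_normalizer_iff.1 hn _).1 hx))
  have key : ∀ w ∈ torM K m, n * w * n⁻¹ ∈ torM K m := by
    intro w hw
    obtain ⟨v, rfl⟩ := torM_le hw
    obtain ⟨s, hs⟩ := mem_torM.1 hw
    obtain ⟨z, rfl | rfl⟩ := conj_regular_cases h1 h2 hy'.symm
    · rw [← map_inv, ← map_mul, ← map_mul, mul_inv_cancel_comm]; exact hw
    · rw [mul_inv_rev, show gH z * w0 m * gH v * ((w0 m)⁻¹ * (gH z)⁻¹) =
        gH z * (w0 m * gH v * w0 m) * (gH z : G K m)⁻¹ by rw [w0_inv]; simp only [mul_assoc],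
        w0_gH, mul_assoc (gH v⁻¹), w0_mul_self, mul_one, ← map_inv, ← map_mul, ← map_mul, mul_inv_cancel_comm]
      exact mem_torM.2 ⟨s⁻¹, by rw [inv_pow, hs]⟩
  exact (Subgroup.mem_normalizer_iff_map_conj_eq).2 (Subgroup.eq_of_le_of_card_ge
    (by rintro _ ⟨w, hw, rfl⟩; exact key w hw)
    (le_of_eq (Subgroup.card_map_of_injective (MulAut.conj n).injective).symm))

end Cfsg.Agent.Lib.Ree
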