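import Cfsg.Agent.Lib.Ree.TorusCent
import Cfsg.Agent.Lib.Coprime.Generation

/-!
The torus of order `(q+1)/4`: centraliser of each non-trivial element.
-/

set_option autoImplicit false
set_option linter.unusedSectionVars false

open scoped Pointwise

namespace Cfsg.Agent.Lib.Ree

open Cfsg.Lie
open Cfsg.Agent.Lib.SL2Tori (Regular torus mem_torus)
open Cfsg.Agent.Lib.SL2Tori.Products (proj proj_surjective proj_eq_iff proj_eq_one_iff)
open Cfsg.Agent.Lib.PSLTwo.Sylow (negOne slTr NonScalar negOne_central negOne_sq)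
open scoped MatrixGroups

/-- A group normalises the image of each of its normal subgroups. -/
theorem mem_normalizer_map_subtype {Γ : Type*} [Group Γ] {C : Subgroup Γ} (O : Subgroup C) (hO : O.Normal) {z : Γ}
    (hz : z ∈ C) : z ∈ Subgroup.normalizer ((O.map C.subtype : Subgroup Γ) : Set Γ) := by
  rw [Subgroup.mem_normalizer_iff]
  intro w
  constructor
  · rintro ⟨v, hv, rfl⟩
    exact ⟨⟨z, hz⟩ * v * ⟨z, hz⟩⁻¹, hO.conj_mem v hv _, rfl⟩
  · rintro ⟨v, hv, hve⟩
    refine ⟨⟨z, hz⟩⁻¹ * v * ⟨z, hz⟩, ?_, ?_⟩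
    · simpa using hO.conj_mem v hv (⟨z, hz⟩⁻¹ : C)
    · show z⁻¹ * (v : Γ) * z = w
      rw [show (v : Γ) = z * w * z⁻¹ from hve]; group

variable {K : Type*} [Field K] [CharP K 3] [Fintype K] {m : ℕ} [hF : Fact (Fintype.card K = 3 ^ (2 * m + 1))]

/-- `(q+1)/4`. -/
abbrev lP (m : ℕ) : ℕ := (qq m + 1) / 4

lemma lP_spec (m : ℕ) : qq m + 1 = 4 * lP m ∧ (qq m + 1) / 2 = 2 * lP m ∧ Odd (lP m) := by
  obtain ⟨k, h1, h2, h3⟩ := quarter_qq_odd m
  exact ⟨by rw [lP, h3, h1], by rw [lP, h3, h2], ⟨k, h3⟩⟩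

lemma three_not_dvd_lP (m : ℕ) : ¬ 3 ∣ lP m := fun h =>
  (not_three_dvd_qq_pm m).2 ((lP_spec m).1 ▸ h.mul_left 4)

lemma lP_pos (m : ℕ) : 0 < lP m := (lP_spec m).2.2.pos

lemma exists_tau : ∃ τ : SL(2, K), Regular τ ∧ orderOf τ = 4 * lP m ∧ torus τ = Subgroup.zpowers τ := by
  have hodd : Odd (Fintype.card K) := hF.out ▸ odd_q m
  obtain ⟨ε, x, -, hx, -⟩ := Cfsg.Agent.Lib.SL2Tori.exists_nonsplit (F := K) hodd
  have hreg : Regular x := fun h => hx ⟨0, by rw [h]; ring⟩
  haveI := Cfsg.Agent.Lib.SL2Tori.isCyclic_torus hodd hreg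
  obtain ⟨g, hg⟩ := IsCyclic.exists_ofOrder_eq_natCard (α := ↥(torus x))
  rw [Cfsg.Agent.Lib.SL2Tori.card_torus_nonsplit hodd hx, hF.out, (lP_spec m).1, ← Subgroup.orderOf_coe] at hg
  have hle : Subgroup.zpowers (g : SL(2, K)) ≤ torus x := by rw [Subgroup.zpowers_le]; exact g.2
  have heq : Subgroup.zpowers (g : SL(2, K)) = torus x :=
    Subgroup.eq_of_le_of_card_ge hle (by
      rw [Nat.card_zpowers, hg, Cfsg.Agent.Lib.SL2Tori.card_torus_nonsplit hodd hx, hF.out, (lP_spec m).1])
  have hns : NonScalar (g : SL(2, K)) := by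
    by_contra h
    have h2 : orderOf (g : SL(2, K)) ∣ 2 := orderOf_dvd_of_pow_eq_one (by
      rw [pow_two]
      rcases Cfsg.Agent.Lib.PSLTwo.Sylow.scalar_cases h with e | e <;> rw [e]
      · exact one_mul 1
      · exact negOne_sq)
    rw [hg] at h2
    have := Nat.le_of_dvd (by norm_num) h2
    have := lP_pos m
    omega
  exact ⟨g, Cfsg.Agent.Lib.SL2Tori.regular_of_mem_torus hreg g.2 hns, hg,
    (Cfsg.Agent.Lib.SL2Tori.torus_eq_of_mem hreg g.2 hns).trans heq.symm⟩

variable (K m) in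
/-- A generator of a non-split torus of `SL₂`. -/
noncomputable def tauP : SL(2, K) := (exists_tau (K := K) (m := m)).choose

lemma tauP_regular : Regular (tauP K m) := (exists_tau (K := K) (m := m)).choose_spec.1
lemma tauP_order : orderOf (tauP K m) = 4 * lP m := (exists_tau (K := K) (m := m)).choose_spec.2.1
lemma torus_tauP : torus (tauP K m) = Subgroup.zpowers (tauP K m) := (exists_tau (K := K) (m := m)).choose_spec.2.2

lemma card_torus_tauP : Nat.card (torus (tauP K m)) = qq m + 1 := by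
  rw [torus_tauP, Nat.card_zpowers, tauP_order, (lP_spec m).1]

variable (K m) in
/-- The image of the generator. -/
noncomputable def tP : G K m := phiA (tauP K m)

variable (K m) in
/-- The torus of order `(q+1)/4`. -/
noncomputable def torA : Subgroup (G K m) := Subgroup.zpowers (tP K m ^ 2)

variable (K m) in
/-- The involution of the torus. -/
noncomputable def tI : G K m := tP K m ^ lP m

variable (K m) in
/-- The centraliser of the torus. -/
noncomputable def torD : Subgroup (G K m) := dbl m (torus (tauP K m))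

lemma tauP_pow_negOne : tauP K m ^ (2 * lP m) = negOne := by
  have hn := Cfsg.Agent.Lib.SL2Tori.negOne_mem_torus (tauP K m)
  have h1 : tauP K m ^ (2 * lP m) * tauP K m ^ (2 * lP m) = 1 := by
    rw [← pow_add, show 2 * lP m + 2 * lP m = 4 * lP m by ring, ← tauP_order (K := K), pow_orderOf_eq_one]
  rcases Cfsg.Agent.Lib.PSLTwo.Sylow.sq_eq_one two_ne_zero' h1 with h | h
  · have := Nat.le_of_dvd (by have := lP_pos m; omega) (orderOf_dvd_of_pow_eq_one h)
    rw [tauP_order] at this
    have := lP_pos m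
    omega
  · exact h

lemma orderOf_tP : orderOf (tP K m) = 2 * lP m := by
  refine Nat.dvd_antisymm (orderOf_dvd_of_pow_eq_one ?_) ?_
  · rw [tP, ← map_pow, tauP_pow_negOne, phiA_negOne]
  · have h : (phiA (tauP K m ^ orderOf (tP K m)) : G K m) = 1 := by rw [map_pow]; exact pow_orderOf_eq_one _
    have h2 : tauP K m ^ (orderOf (tP K m) * 2) = 1 := by
      rw [pow_mul, pow_two]
      rcases phiA_kernel h with e | e <;> rw [e]
      · exact one_mul 1
      · exact negOne_sq
    have := orderOf_dvd_of_pow_eq_one h2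
    rw [tauP_order, show 4 * lP m = 2 * lP m * 2 by ring] at this
    exact (Nat.mul_dvd_mul_iff_right (by norm_num : 0 < 2)).1 this

lemma card_torA : Nat.card ↥(torA K m) = lP m := by
  rw [torA, Nat.card_zpowers, orderOf_pow, orderOf_tP, Nat.gcd_eq_right (dvd_mul_right 2 _)]
  omega

lemma tI_sq : tI K m * tI K m = 1 := by
  rw [tI, ← pow_add, ← two_mul, ← orderOf_tP (K := K), pow_orderOf_eq_one]

lemma tI_ne_one : tI K m ≠ 1 := by
  intro h
  have := Nat.le_of_dvd (lP_pos m) (orderOf_dvd_of_pow_eq_one h)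
  rw [orderOf_tP] at this
  have := lP_pos m
  omega

lemma tP_mem_torD : tP K m ∈ torD K m := phiA_mem_dbl (Cfsg.Agent.Lib.SL2Tori.self_mem_torus _)
lemma tI_mem_torD : tI K m ∈ torD K m := pow_mem tP_mem_torD _
lemma invA_mem_torD : invA K m ∈ torD K m := invA_mem_dbl _

lemma torA_le_torD : torA K m ≤ torD K m := by rw [torA, Subgroup.zpowers_le]; exact pow_mem tP_mem_torD _

lemma card_torD : Nat.card ↥(torD K m) = qq m + 1 := by
  rw [torD, card_dbl _ (Cfsg.Agent.Lib.SL2Tori.negOne_mem_torus _), card_torus_tauP]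

/-- The elements of `D`. -/
lemma mem_torD {z : G K m} : z ∈ torD K m ↔ ∃ k : ℕ, z = tP K m ^ k ∨ z = invA K m * tP K m ^ k := by
  rw [torD, mem_dbl]
  constructor
  · rintro ⟨h, hh, hz⟩
    rw [torus_tauP] at hh
    obtain ⟨k, -, hk⟩ := Submonoid.mem_powers_iff h (tauP K m) |>.1
      (mem_powers_iff_mem_zpowers.2 hh) |> fun ⟨k, hk⟩ => (⟨k, trivial, hk⟩ : ∃ k : ℕ, True ∧ tauP K m ^ k = h)
    subst hk
    exact ⟨k, by rw [map_pow] at hz; exact hz⟩
  · rintro ⟨k, hk⟩
    exact ⟨tauP K m ^ k, pow_mem (Cfsg.Agent.Lib.SL2Tori.self_mem_torus _) k, by rw [map_pow]; exact hk⟩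

lemma torD_comm : ∀ x ∈ torD K m, ∀ y ∈ torD K m, x * y = y * x := by
  intro x hx y hy
  obtain ⟨i, hi⟩ := mem_torD.1 hx
  obtain ⟨j, hj⟩ := mem_torD.1 hy
  have c : Commute (invA K m) (tP K m) := invA_comm_phiA _
  have c1 : Commute (tP K m ^ i) (tP K m ^ j) := (Commute.refl _).pow_pow i j
  have hx' : Commute x (invA K m) ∧ Commute x (tP K m ^ j) := by
    rcases hi with rfl | rfl
    · exact ⟨(c.pow_right i).symm, c1⟩
    · exact ⟨(Commute.refl _).mul_left (c.pow_right i).symm, (c.pow_right j).mul_left c1⟩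
  rcases hj with rfl | rfl
  · exact hx'.2
  · exact hx'.1.mul_right hx'.2

lemma torD_sq_one {z : G K m} (hz : z ∈ torD K m) (h : z * z = 1) :
    z = 1 ∨ z = invA K m ∨ z = tI K m ∨ z = invA K m * tI K m := by
  obtain ⟨k, hk⟩ := mem_torD.1 hz
  have h2 : tP K m ^ (k + k) = 1 := by
    rw [pow_add]
    rcases hk with rfl | rfl
    · exact h
    · have c : Commute (invA K m) (tP K m ^ k) := (show Commute (invA K m) (tP K m) from invA_comm_phiA _).pow_right k
      rw [c.symm.mul_mul_mul_comm, a_sq, one_mul] at h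
      exact h
  have hd := orderOf_dvd_of_pow_eq_one h2
  rw [orderOf_tP, ← two_mul] at hd
  obtain ⟨j, rfl⟩ := (Nat.mul_dvd_mul_iff_left (by norm_num : 0 < 2)).1 hd
  have : tP K m ^ (lP m * j) = 1 ∨ tP K m ^ (lP m * j) = tI K m := by
    rw [pow_mul, ← tI]
    rcases Nat.even_or_odd' j with ⟨i, rfl | rfl⟩
    · left; rw [pow_mul, pow_two, tI_sq, one_pow]
    · right; rw [pow_succ, pow_mul, pow_two, tI_sq, one_pow, one_mul]
  rcases hk with rfl | rfl <;> rcases this with e | e <;> rw [e] <;> simp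

lemma torA_eq {x : G K m} (hx : x ∈ torD K m) (h : x ^ lP m = 1) : x ∈ torA K m := by
  obtain ⟨k, hk⟩ := mem_torD.1 hx
  obtain ⟨l, hl⟩ := (lP_spec m).2.2
  rcases hk with rfl | rfl
  · rw [← pow_mul] at h
    have hd := orderOf_dvd_of_pow_eq_one h
    rw [orderOf_tP] at hd
    obtain ⟨j, rfl⟩ : 2 ∣ k := (Nat.mul_dvd_mul_iff_right (lP_pos m)).1 hd
    rw [torA, pow_mul]
    exact Subgroup.npow_mem_zpowers _ _
  · exfalso
    rw [(show Commute (invA K m) (tP K m ^ k) from ((show Commute (invA K m) (tP K m) from invA_comm_phiA _).pow_right k)).mul_pow,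
      hl, pow_succ (invA K m), pow_mul, pow_two, a_sq, one_pow, one_mul] at h
    refine invA_not_range (K := K) (m := m) ⟨proj ((tauP K m ^ (k * (2 * l + 1)))⁻¹), ?_⟩
    rw [← phiA_eq_psiA, map_inv, map_pow, pow_mul]
    exact (eq_inv_of_mul_eq_one_left h).symm

lemma torA_order {y : G K m} (hy : y ∈ torA K m) : orderOf y ∣ lP m := by
  rw [← card_torA (K := K) (m := m)]
  exact Subgroup.orderOf_dvd_natCard _ hy

lemma torA_facts {y : G K m} (hy : y ∈ torA K m) : Odd (orderOf y) ∧ ¬ 3 ∣ orderOf y :=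
  ⟨(lP_spec m).2.2.of_dvd_nat (torA_order hy), fun h => three_not_dvd_lP m (h.trans (torA_order hy))⟩

/-- `C(a) ∩ C(y) = D` for non-trivial `y` in the torus. -/
theorem centralizer_inf_torA {y : G K m} (hy : y ∈ torA K m) (hy1 : y ≠ 1) :
    Subgroup.centralizer {invA K m} ⊓ Subgroup.centralizer {y} = torD K m := by
  refine centralizer_inf_eq (dbl_le _ (torA_le_torD hy)) (torA_facts hy).1 (torA_facts hy).2 hy1
    (le_inf (dbl_le _) fun z hz => ?_) card_torD
  rw [Subgroup.mem_centralizer_singleton_iff]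
  exact torD_comm z hz y (torA_le_torD hy)

lemma fours_ne : tI K m ≠ invA K m ∧ invA K m * tI K m ≠ 1 := by
  have h1 : tI K m ≠ invA K m := fun h => invA_not_range (K := K) (m := m)
    ⟨proj (tauP K m ^ lP m), by rw [← phiA_eq_psiA, map_pow]; exact h⟩
  exact ⟨h1, fun h => h1 ((eq_inv_of_mul_eq_one_right h).trans (inv_eq_of_mul_eq_one_right a_sq))⟩

variable (K m) in
/-- The four-group of `D`. -/
noncomputable def fourE : Subgroup (G K m) where
  carrier := {z | z ∈ torD K m ∧ z * z = 1}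
  one_mem' := ⟨one_mem _, one_mul 1⟩
  mul_mem' := by
    rintro x y ⟨hx, hx2⟩ ⟨hy, hy2⟩
    refine ⟨mul_mem hx hy, ?_⟩
    rw [(show Commute y x from torD_comm y hy x hx).mul_mul_mul_comm, hx2, hy2, one_mul]
  inv_mem' := by
    rintro x ⟨hx, hx2⟩
    exact ⟨inv_mem hx, by rw [← mul_inv_rev, hx2, inv_one]⟩

lemma mem_fourE {z : G K m} :
    z ∈ fourE K m ↔ z = 1 ∨ z = invA K m ∨ z = tI K m ∨ z = invA K m * tI K m := by
  refine ⟨fun h => torD_sq_one h.1 h.2, ?_⟩
  rintro (rfl | rfl | rfl | rfl)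
  · exact one_mem _
  · exact ⟨invA_mem_torD, a_sq⟩
  · exact ⟨tI_mem_torD, tI_sq⟩
  · exact (fourE K m).mul_mem ⟨invA_mem_torD, a_sq⟩ ⟨tI_mem_torD, tI_sq⟩

lemma invA_mem_fourE : invA K m ∈ fourE K m := mem_fourE.2 (Or.inr (Or.inl rfl))
lemma tI_mem_fourE : tI K m ∈ fourE K m := mem_fourE.2 (Or.inr (Or.inr (Or.inl rfl)))

lemma card_fourE : Nat.card ↥(fourE K m) = 4 := by
  have h : (fourE K m : Set (G K m)) = {1, invA K m, tI K m, invA K m * tI K m} := by
    ext z; simpa using mem_fourE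
  show Nat.card ↥(fourE K m : Set (G K m)) = 4
  rw [h, Nat.card_coe_set_eq]
  obtain ⟨h1, h2⟩ := fours_ne (K := K) (m := m)
  rw [Set.ncard_insert_of_notMem, Set.ncard_insert_of_notMem, Set.ncard_pair]
  · exact fun h => invA_ne_one (K := K) (m := m) (by simpa using h)
  · simp only [Set.mem_insert_iff, Set.mem_singleton_iff, not_or]
    exact ⟨h1.symm, fun h => tI_ne_one (K := K) (m := m) (by simpa using h)⟩
  · simp only [Set.mem_insert_iff, Set.mem_singleton_iff, not_or]
    exact ⟨invA_ne_one.symm, tI_ne_one.symm, h2.symm⟩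

lemma fourE_orbit {N : Subgroup (G K m)} (hN : N ≤ Subgroup.normalizer (fourE K m : Set (G K m)))
    {e : G K m} (he : e ∈ fourE K m) (he1 : e ≠ 1) : (cOrb N e).ncard ≤ 3 := by
  have hsub : cOrb N e ⊆ (fourE K m : Set (G K m)) \ {1} := by
    rintro _ ⟨n, hn, rfl⟩
    exact ⟨(Subgroup.mem_normalizer_iff.1 (hN hn) e).1 he, fun h => he1 (conj_eq_one_iff.1 h)⟩
  refine le_trans (Set.ncard_le_ncard hsub (Set.toFinite _)) ?_
  rw [Set.ncard_sdiff (Set.singleton_subset_iff.2 (one_mem _)) (Set.toFinite _), Set.ncard_singleton]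
  show Nat.card ↥(fourE K m) - 1 ≤ 3
  rw [card_fourE]

/-- An involution of `D` has centraliser meeting `C(y)` in `D`. -/
lemma centralizer_inf_invol (hm : 1 ≤ m) {y e : G K m} (hy : y ∈ torA K m) (hy1 : y ≠ 1)
    (he : e ∈ fourE K m) (he1 : e ≠ 1) :
    Subgroup.centralizer {e} ⊓ Subgroup.centralizer {y} = torD K m := by
  obtain ⟨g, hg⟩ := isConj_iff.1 (isConj_invA hm he1 he.2).symm
  have hD : torD K m ≤ Subgroup.centralizer {e} ⊓ Subgroup.centralizer {y} := fun z hz =>
    ⟨Subgroup.mem_centralizer_singleton_iff.2 (torD_comm z hz e he.1),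
      Subgroup.mem_centralizer_singleton_iff.2 (torD_comm z hz y (torA_le_torD hy))⟩
  have hord : orderOf (g * y * g⁻¹) = orderOf y := by rw [← MulAut.conj_apply, MulEquiv.orderOf_eq]
  have hye : g * y * g⁻¹ ∈ Subgroup.centralizer {invA K m} := by
    rw [Subgroup.mem_centralizer_singleton_iff, ← hg, conj_mul, conj_mul,
      torD_comm y (torA_le_torD hy) e he.1]
  have h := centralizer_inf_eq hye (hord ▸ (torA_facts hy).1) (hord ▸ (torA_facts hy).2)
    (fun h => hy1 (conj_eq_one_iff.1 h)) (D := (torD K m).map (MulAut.conj g).toMonoidHom)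
    (by
      rintro _ ⟨z, hz, rfl⟩
      refine Subgroup.mem_inf.2 ⟨?_, ?_⟩ <;> rw [Subgroup.mem_centralizer_singleton_iff] <;>
        show g * z * g⁻¹ * _ = _ * (g * z * g⁻¹)
      · rw [← hg, conj_mul, conj_mul, torD_comm z hz e he.1]
      · rw [conj_mul, conj_mul, torD_comm z hz y (torA_le_torD hy)])
    (by rw [Subgroup.card_map_of_injective (MulEquiv.injective _), card_torD])
  refine le_antisymm (fun z hz => ?_) hD
  have : g * z * g⁻¹ ∈ (torD K m).map (MulAut.conj g).toMonoidHom := by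
    rw [← h]
    refine Subgroup.mem_inf.2 ⟨?_, ?_⟩ <;> rw [Subgroup.mem_centralizer_singleton_iff]
    · rw [← hg, conj_mul, conj_mul, Subgroup.mem_centralizer_singleton_iff.1 hz.1]
    · rw [conj_mul, conj_mul, Subgroup.mem_centralizer_singleton_iff.1 hz.2]
  obtain ⟨w, hw, hwe⟩ := this
  exact (MulAut.conj g).injective hwe ▸ hw

set_option maxHeartbeats 2000000 in
/-- The centraliser of a non-trivial torus element. -/
theorem centralizer_torA (hm : 1 ≤ m) {y : G K m} (hy : y ∈ torA K m) (hy1 : y ≠ 1) :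
    Subgroup.centralizer {y} = torD K m := by
  classical
  haveI : Fact (Nat.Prime 2) := ⟨Nat.prime_two⟩
  haveI : Fact (Nat.Prime 3) := ⟨Nat.prime_three⟩
  set C := Subgroup.centralizer {y} with hC
  have hDC : torD K m ≤ C := (centralizer_inf_torA hy hy1) ▸ inf_le_right
  have hEC : fourE K m ≤ C := fun z hz => hDC hz.1
  obtain ⟨hyo, hy3⟩ := torA_facts hy
  have h3C : ¬ 3 ∣ Nat.card C := by
    intro h
    obtain ⟨z, hz⟩ := exists_prime_orderOf_dvd_card' 3 h
    rw [← Subgroup.orderOf_coe] at hz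
    have hne : orderOf y ≠ 1 := fun h => hy1 (orderOf_eq_one_iff.1 h)
    rcases orderOf_of_commute_three hz (Subgroup.mem_centralizer_singleton_iff.1 z.2).symm with h6 | h9
    · have h' : Nat.Coprime (orderOf y) 6 := by
        rw [show 6 = 2 * 3 from rfl]
        exact Nat.Coprime.mul_right (Nat.coprime_two_right.2 hyo) ((Nat.Prime.coprime_iff_not_dvd Nat.prime_three).2 hy3).symm
      exact hne (h'.eq_one_of_dvd h6)
    · have h' : Nat.Coprime (orderOf y) 9 := by
        rw [show 9 = 3 ^ 2 from rfl]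
        exact ((Nat.Prime.coprime_iff_not_dvd Nat.prime_three).2 hy3).symm.pow_right 2
      exact hne (h'.eq_one_of_dvd h9)
  -- `E` is a Sylow 2-subgroup of `C(y)`
  set E' := (fourE K m).subgroupOf C
  have hE'card : Nat.card ↥E' = 4 := by
    rw [Nat.card_congr (Subgroup.subgroupOfEquivOfLe hEC).toEquiv, card_fourE]
  obtain ⟨P, hP⟩ := (IsPGroup.of_card (p := 2) (G := ↥E') (n := 2) (by rw [hE'card]; norm_num)).exists_le_sylow
  have hPE : (P : Subgroup C) = E' := by
    refine (Subgroup.eq_of_le_of_card_ge hP ?_).symm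
    obtain ⟨S, hS⟩ := (P.2.map C.subtype).exists_le_sylow
    have hd := Subgroup.card_dvd_of_le hS
    rw [Subgroup.card_subtype, card_sylow_two] at hd
    have hle := Nat.le_of_dvd (by norm_num) hd
    by_contra hlt
    rw [hE'card, not_le] at hlt
    obtain ⟨n, hn⟩ := P.2.exists_card_eq
    have h8 : Nat.card ↥(P : Subgroup C) = 8 := by
      rw [hn] at hlt hle ⊢
      have : n = 3 := by
        rcases n with _ | _ | _ | _ | n
        · norm_num at hlt
        · norm_num at hlt
        · norm_num at hlt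
        · rfl
        · exfalso
          have : 16 ≤ 2 ^ (n + 4) := le_trans (by norm_num) (Nat.pow_le_pow_right (by norm_num) (show 4 ≤ n + 4 by omega))
          omega
      subst this; norm_num
    have heq : (P : Subgroup C).map C.subtype = S :=
      Subgroup.eq_of_le_of_card_ge hS (by rw [Subgroup.card_subtype, h8, card_sylow_two])
    have hyS : y ∈ (S : Subgroup (G K m)) := by
      rw [← (sylow_two_normalizer hm S).1, Subgroup.mem_centralizer_iff]
      intro z hz
      rw [← heq] at hz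
      obtain ⟨w, -, rfl⟩ := hz
      exact Subgroup.mem_centralizer_singleton_iff.1 w.2
    have h2 := sylow_two_exponent S y hyS
    rw [← pow_two] at h2
    rcases (Nat.dvd_prime Nat.prime_two).1 (orderOf_dvd_of_pow_eq_one h2) with h | h
    · exact hy1 (orderOf_eq_one_iff.1 h)
    · rw [h] at hyo; exact absurd hyo (by decide)
  have hCodd : ∃ r, Odd r ∧ Nat.card C = 4 * r := by
    refine ⟨(P : Subgroup C).index, Nat.not_even_iff_odd.1 fun h => P.not_dvd_index (even_iff_two_dvd.1 h), ?_⟩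
    rw [← (P : Subgroup C).card_mul_index, hPE, hE'card]
  -- Burnside's hypothesis
  set N := Subgroup.normalizer (fourE K m : Set (G K m)) ⊓ C
  have hEN : fourE K m ≤ N := le_inf Subgroup.le_normalizer hEC
  have hfix : ∀ e ∈ fourE K m, e ≠ 1 → N ≤ Subgroup.centralizer {e} := by
    intro e he he1
    have h3 := fourE_orbit (N := N) inf_le_left he he1
    have hmul := cOrb_mul_centralizer N e
    have hEle : fourE K m ≤ N ⊓ Subgroup.centralizer {e} := le_inf hEN fun z hz =>
      Subgroup.mem_centralizer_singleton_iff.2 (torD_comm z hz.1 e he.1)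
    obtain ⟨c, hc⟩ := Subgroup.card_dvd_of_le hEle
    obtain ⟨d, hd⟩ := Subgroup.card_dvd_of_le (inf_le_right : N ≤ C)
    obtain ⟨r, hr, hCr⟩ := hCodd
    rw [card_fourE] at hc
    rw [hCr] at hd
    have hcard1 : (cOrb N e).ncard = 1 := by
      have hne0 : (cOrb N e).ncard ≠ 0 := by
        exact Set.ncard_ne_zero_of_mem (a := e) ⟨1, one_mem _, by group⟩ (Set.toFinite _)
      have h2 : ¬ 2 ∣ (cOrb N e).ncard := by
        rintro ⟨u, hu⟩
        rw [← hmul, hu, hc, show 2 * u * (4 * c) * d = 4 * (2 * (u * c * d)) by ring] at hd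
        obtain ⟨k, rfl⟩ := hr
        omega
      have h3' : ¬ 3 ∣ (cOrb N e).ncard := fun h => h3C
        ((h.trans ⟨_, hmul.symm⟩).trans (Subgroup.card_dvd_of_le inf_le_right))
      omega
    obtain ⟨z, hz⟩ := Set.ncard_eq_one.1 hcard1
    intro n hn
    rw [Subgroup.mem_centralizer_singleton_iff]
    have e1 : e ∈ cOrb N e := ⟨1, one_mem _, by group⟩
    have e2 : n * e * n⁻¹ ∈ cOrb N e := ⟨n, hn, rfl⟩
    rw [hz] at e1 e2
    exact mul_inv_eq_iff_eq_mul.1 (e2.trans e1.symm)
  have hburn : Subgroup.normalizer ((P : Subgroup C) : Set C) ≤ Subgroup.centralizer ((P : Subgroup C) : Set C) := by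
    intro n hn
    rw [hPE] at hn ⊢
    have hn' : (n : G K m) ∈ N := by
      refine Subgroup.mem_inf.2 ⟨?_, n.2⟩
      rw [Subgroup.mem_normalizer_iff]
      intro z
      constructor
      · intro hz
        exact ((Subgroup.mem_normalizer_iff.1 hn) ⟨z, hEC hz⟩).1 hz
      · intro hz
        have hzC : z ∈ C := by
          have := mul_mem (mul_mem (inv_mem n.2) (hEC hz)) n.2
          simpa [mul_assoc] using this
        exact ((Subgroup.mem_normalizer_iff.1 hn) ⟨z, hzC⟩).2 hz
    rw [Subgroup.mem_centralizer_iff]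
    intro e he
    apply Subtype.ext
    by_cases he1 : (e : G K m) = 1
    · simp [he1]
    · exact (Subgroup.mem_centralizer_singleton_iff.1 (hfix e he he1 hn')).symm
  have hcompl := MonoidHom.ker_transferSylow_isComplement' P hburn
  set O := (MonoidHom.transferSylow P hburn).ker with hO
  have hOcard : Odd (Nat.card O) := by
    obtain ⟨r, hr, hCr⟩ := hCodd
    have := hcompl.card_mul
    rw [hPE, hE'card, hCr] at this
    rwa [show Nat.card O = r by omega]
  set K' := O.map C.subtype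
  have hOn : O.Normal := MonoidHom.normal_ker _
  have hnorm : ∀ z ∈ C, z ∈ Subgroup.normalizer (K' : Set (G K m)) := fun z hz =>
    mem_normalizer_map_subtype O hOn hz
  have hK'card : Nat.card ↥K' = Nat.card O := Subgroup.card_subtype _ _
  have hgen := Cfsg.Agent.Lib.Coprime.le_lineCentralizers (q := 2) (e := invA K m) (f := tI K m) (K := K')
    (torD_comm _ invA_mem_torD _ tI_mem_torD) (hnorm _ (hDC invA_mem_torD)) (hnorm _ (hDC tI_mem_torD))
    (by rw [pow_two, a_sq]; exact one_mem _) (by rw [pow_two, tI_sq]; exact one_mem _)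
    (by
      refine Nat.Coprime.coprime_dvd_left ?_ (k := 4) (by
        rw [hK'card]; exact (Nat.coprime_two_left.2 hOcard).pow_left 2)
      rw [← card_fourE (K := K) (m := m)]
      refine Subgroup.card_dvd_of_le ((Subgroup.closure_le _).2 ?_)
      rintro _ (rfl | rfl)
      exacts [invA_mem_fourE, tI_mem_fourE])
    (by rw [hK'card]; exact Nat.coprime_two_left.2 hOcard)
  have hK'C : K' ≤ C := Subgroup.map_subtype_le _
  have hbound : ∀ e ∈ fourE K m, e ≠ 1 → K' ⊓ Subgroup.centralizer {e} ≤ torD K m := by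
    intro e he he1
    rw [← centralizer_inf_invol hm hy hy1 he he1, inf_comm (Subgroup.centralizer {e})]
    exact inf_le_inf_right _ hK'C
  have hK'D : K' ≤ torD K m := by
    refine hgen.trans (sup_le (hbound _ tI_mem_fourE tI_ne_one) (iSup_le fun t => ?_))
    have ht : t.val = 0 ∨ t.val = 1 := by
      have := t.val_lt
      omega
    rcases ht with h | h <;> rw [h]
    · rw [pow_zero, mul_one]; exact hbound _ invA_mem_fourE invA_ne_one
    · rw [pow_one]; exact hbound _ (mul_mem invA_mem_fourE tI_mem_fourE) fours_ne.2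
  refine le_antisymm ?_ hDC
  intro z hz
  have hzmem : (⟨z, hz⟩ : C) ∈ O ⊔ (P : Subgroup C) := by rw [hcompl.sup_eq_top]; trivial
  have hle : O ⊔ (P : Subgroup C) ≤ (torD K m).subgroupOf C := by
    refine sup_le (fun v hv => hK'D ⟨v, hv, rfl⟩) ?_
    rw [hPE]
    exact fun v hv => hv.1
  exact hle hzmem

end Cfsg.Agent.Lib.Ree
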