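import Cfsg.Agent.Lib.Ree.TorusPlus

/-!
The normaliser of the torus of order `(q+1)/4` has order `6(q+1)`.
-/

set_option autoImplicit false
set_option linter.unusedSectionVars false

namespace Cfsg.Agent.Lib.Ree

open Cfsg.Lie
open Cfsg.Agent.Lib.ChevStructure (slU slN slN_val slU_val)
open Cfsg.Agent.Lib.SL2Tori (Regular torus mem_torus)
open Cfsg.Agent.Lib.SL2Tori.Products (proj proj_surjective proj_eq_iff proj_eq_one_iff)
open Cfsg.Agent.Lib.PSLTwo.Sylow (negOne slTr NonScalar negOne_central negOne_sq det_eq mem_normalizer_of_conj_mem)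
open scoped MatrixGroups

variable {K : Type*} [Field K] [CharP K 3] [Fintype K] {m : ℕ} [hF : Fact (Fintype.card K = 3 ^ (2 * m + 1))]

variable (K m) in
/-- The centraliser of the four-group. -/
noncomputable def centE : Subgroup (G K m) := dbl m (Subgroup.normalizer (torus (tauP K m) : Set SL(2, K)))

lemma torD_le_centE : torD K m ≤ centE K m := by
  rintro z ⟨h, hh, hz⟩
  exact ⟨h, Subgroup.le_normalizer hh, hz⟩

lemma card_centE : Nat.card ↥(centE K m) = 2 * (qq m + 1) := by
  rw [centE, card_dbl _ (Subgroup.le_normalizer (Cfsg.Agent.Lib.SL2Tori.negOne_mem_torus _)),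
    Cfsg.Agent.Lib.SL2Tori.card_normalizer_torus (hF.out ▸ odd_q m) tauP_regular, card_torus_tauP]

lemma tauP_half_sq : tauP K m ^ lP m * tauP K m ^ lP m = negOne := by
  rw [← pow_add, ← two_mul, tauP_pow_negOne]

lemma tauP_half_nonScalar : NonScalar (tauP K m ^ lP m) := by
  by_contra h
  have h1 := tauP_half_sq (K := K) (m := m)
  rcases Cfsg.Agent.Lib.PSLTwo.Sylow.scalar_cases h with e | e <;> rw [e] at h1
  · exact Cfsg.Agent.Lib.PSLTwo.Sylow.negOne_ne_one two_ne_zero' (h1.symm.trans (one_mul 1))
  · exact Cfsg.Agent.Lib.PSLTwo.Sylow.negOne_ne_one two_ne_zero' (h1.symm.trans negOne_sq)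

theorem centE_eq : centE K m = Subgroup.centralizer {invA K m} ⊓ Subgroup.centralizer {tI K m} := by
  have hmem : tauP K m ^ lP m ∈ torus (tauP K m) := pow_mem (Cfsg.Agent.Lib.SL2Tori.self_mem_torus _) _
  have htI : tI K m = phiA (tauP K m ^ lP m) := by rw [map_pow]; rfl
  refine le_antisymm (le_inf (dbl_le _) ?_) ?_
  · rintro z ⟨h, hh, hz⟩
    rw [Subgroup.mem_centralizer_singleton_iff]
    have hc : phiA h * tI K m = tI K m * phiA h := by
      rw [← mul_inv_eq_iff_eq_mul, htI, ← map_inv, ← map_mul, ← map_mul]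
      by_cases hT : h ∈ torus (tauP K m)
      · rw [Cfsg.Agent.Lib.SL2Tori.torus_comm tauP_regular hT hmem, mul_inv_cancel_right]
      · rw [Cfsg.Agent.Lib.SL2Tori.conj_eq_inv_of_mem_normalizer two_ne_zero' tauP_regular hh hT hmem, map_inv,
          ← htI]
        exact inv_eq_of_mul_eq_one_right tI_sq
    rcases hz with rfl | rfl
    · exact hc
    · rw [mul_assoc, hc, ← mul_assoc, ← mul_assoc, torD_comm _ invA_mem_torD _ tI_mem_torD]
  · rintro z ⟨hza, hzt⟩
    obtain ⟨x, hx⟩ := centralizer_split hza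
    obtain ⟨h, rfl⟩ := proj_surjective x
    have hc : phiA h * tI K m = tI K m * phiA h := by
      have h' := Subgroup.mem_centralizer_singleton_iff.1 hzt
      rcases hx with rfl | rfl
      · exact h'
      · rw [← phiA_eq_psiA, mul_assoc, ← mul_assoc (tI K m), ← torD_comm _ invA_mem_torD _ tI_mem_torD,
          mul_assoc] at h'
        exact mul_left_cancel h'
    rw [htI] at hc
    refine ⟨h, ?_, hx⟩
    have hi := Cfsg.Agent.Lib.SL2Tori.torus_eq_of_mem tauP_regular hmem tauP_half_nonScalar
    rcases comm_or_anti ((phiA_comm_iff _ _).1 hc) with e | e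
    · refine Subgroup.le_normalizer ?_
      rw [← hi, mem_torus]
      exact e
    · refine mem_normalizer_of_conj_mem fun w hw => ?_
      have hconj : h * tauP K m ^ lP m * h⁻¹ = tauP K m ^ lP m * negOne := by
        rw [e, mul_assoc (_ * h), negOne_central, ← mul_assoc, mul_inv_cancel_right]
      have hn : tauP K m ^ lP m * negOne ∈ torus (tauP K m) :=
        mul_mem hmem (Cfsg.Agent.Lib.SL2Tori.negOne_mem_torus _)
      have hns : NonScalar (tauP K m ^ lP m * negOne) := by
        rw [← hconj]
        by_contra hs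
        have hh : h * tauP K m ^ lP m * h⁻¹ = 1 ∨ h * tauP K m ^ lP m * h⁻¹ = negOne :=
          Cfsg.Agent.Lib.PSLTwo.Sylow.scalar_cases hs
        rcases hh with e' | e'
        · exact absurd (conj_eq_one_iff.1 e') fun e'' => by
            have := tauP_half_nonScalar (K := K) (m := m)
            rw [e''] at this
            rcases this with h | h | h <;> simp at h
        · have e'' : tauP K m ^ lP m = negOne := by
            have := congrArg (fun z => h⁻¹ * z * h) e'
            simpa [mul_assoc, ← negOne_central] using this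
          have := tauP_half_nonScalar (K := K) (m := m)
          rw [e''] at this
          rcases this with h | h | h <;> simp [negOne] at h
      rw [← Cfsg.Agent.Lib.SL2Tori.torus_eq_of_mem tauP_regular hn hns, ← hconj,
        Cfsg.Agent.Lib.SL2Tori.torus_conj, hi]
      exact ⟨w, hw, rfl⟩

omit [Fintype K] hF in
lemma trace_zero_of_sq {k : SL(2, K)} (h : k * k = negOne) : slTr k = 0 := by
  have hd := det_eq k
  have e := congrArg (fun z : SL(2, K) => (z : Matrix (Fin 2) (Fin 2) K)) h
  simp only [Matrix.SpecialLinearGroup.coe_mul, negOne_val] at e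
  have e00 := congrFun (congrFun e 0) 0
  have e01 := congrFun (congrFun e 0) 1
  have e10 := congrFun (congrFun e 1) 0
  have e11 := congrFun (congrFun e 1) 1
  simp [Matrix.mul_apply, Fin.sum_univ_two] at e00 e01 e10 e11
  have hsq : slTr k ^ 2 = 0 := by
    unfold slTr
    linear_combination e00 + e11 + 2 * hd
  exact pow_eq_zero_iff two_ne_zero |>.1 hsq

lemma u_conj :
    ((gU 0 1 0 : G K m) * psiA (proj (slN (1 : Kˣ))) * (gU 0 1 0)⁻¹ = psiA (proj (slJ K))) ∧
    ((gU 0 1 0 : G K m) * psiA (proj (slJ K)) * (gU 0 1 0)⁻¹ = psiA (proj (slN (1 : Kˣ))) * psiA (proj (slJ K))) := by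
  have h3 : (3 : K) = 0 := CharP.cast_eq_zero K 3
  have hu : (gU 0 1 0 : G K m) = psiA (proj (slU 1)) := (phiA_slU (1 : K)).symm
  constructor <;> rw [hu, mul_inv_eq_iff_eq_mul, ← map_mul, ← map_mul, ← map_mul] <;>
    [skip; rw [← map_mul]] <;> congr 1 <;> simp only [← map_mul] <;> rw [proj_eq_iff]
  · right
    apply Subtype.ext
    simp only [Matrix.SpecialLinearGroup.coe_mul, negOne_val, slN_val, slJ_val, slU_val, Matrix.mul_neg,
      Matrix.mul_one, Matrix.neg_mul, Matrix.mul_fin_two]
    ext i j
    fin_cases i <;> fin_cases j <;> simp <;> first | linear_combination h3 | linear_combination -h3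
  · right
    apply Subtype.ext
    simp only [Matrix.SpecialLinearGroup.coe_mul, negOne_val, slN_val, slJ_val, slU_val, Matrix.mul_neg,
      Matrix.mul_one, Matrix.neg_mul, Matrix.mul_fin_two]
    ext i j
    fin_cases i <;> fin_cases j <;> simp <;> first | linear_combination h3 | linear_combination -h3

theorem card_normalizer_fourE (hm : 1 ≤ m) :
    Nat.card ↥(Subgroup.normalizer (fourE K m : Set (G K m))) = 6 * (qq m + 1) := by
  classical
  set N := Subgroup.normalizer (fourE K m : Set (G K m))
  -- the stabiliser of `a`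
  have hstab : N ⊓ Subgroup.centralizer {invA K m} = centE K m := by
    refine le_antisymm ?_ (le_inf ?_ (dbl_le _))
    · rintro n ⟨hn, hna⟩
      rw [centE_eq]
      refine Subgroup.mem_inf.2 ⟨hna, ?_⟩
      rw [Subgroup.mem_centralizer_singleton_iff]
      have hfix : n * invA K m * n⁻¹ = invA K m := mul_inv_eq_iff_eq_mul.2 (Subgroup.mem_centralizer_singleton_iff.1 hna)
      have hmem := (Subgroup.mem_normalizer_iff.1 hn (tI K m)).1 tI_mem_fourE
      rcases mem_fourE.1 hmem with h | h | h | h
      · exact absurd (conj_eq_one_iff.1 h) tI_ne_one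
      · exact absurd (mul_left_cancel (mul_right_cancel (h.trans hfix.symm))) fours_ne.1
      · exact mul_inv_eq_iff_eq_mul.1 h
      · exfalso
        obtain ⟨x, hx⟩ := centralizer_split hna
        have ht : tI K m = psiA (proj (tauP K m ^ lP m)) := by rw [map_pow, map_pow]; rfl
        have hc : n * tI K m * n⁻¹ = psiA (x * proj (tauP K m ^ lP m) * x⁻¹) := by
          rcases hx with rfl | rfl
          · rw [map_mul, map_mul, map_inv, ht]
          · rw [map_mul, map_mul, map_inv, ← ht, mul_inv_rev, inv_eq_of_mul_eq_one_right a_sq]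
            calc invA K m * psiA x * tI K m * ((psiA x)⁻¹ * invA K m)
                = invA K m * (psiA x * tI K m * (psiA x)⁻¹) * invA K m := by simp only [mul_assoc]
              _ = (psiA x * tI K m * (psiA x)⁻¹) * invA K m * invA K m := by
                rw [ht, ← map_inv, ← map_mul, ← map_mul, invA_comm_psiA]
              _ = _ := by rw [mul_assoc, a_sq, mul_one]
        rw [h] at hc
        refine invA_not_range (K := K) (m := m) ⟨x * proj (tauP K m ^ lP m) * x⁻¹ * (proj (tauP K m ^ lP m))⁻¹, ?_⟩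
        rw [map_mul, ← hc, map_inv, ← ht, mul_inv_cancel_right]
    · intro z hz
      have hz' := hz
      rw [centE_eq, Subgroup.mem_inf] at hz'
      obtain ⟨h1, h2⟩ := hz'
      rw [Subgroup.mem_centralizer_singleton_iff] at h1 h2
      have e1 : z * invA K m * z⁻¹ = invA K m := mul_inv_eq_iff_eq_mul.2 h1
      have e2 : z * tI K m * z⁻¹ = tI K m := mul_inv_eq_iff_eq_mul.2 h2
      refine mem_normalizer_of_conj_mem fun w hw => ?_
      rcases mem_fourE.1 hw with rfl | rfl | rfl | rfl
      · simp
      · rw [e1]; exact hw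
      · rw [e2]; exact hw
      · rw [← conj_mul, e1, e2]; exact hw
  -- an element permuting the three involutions
  set i : G K m := psiA (proj (slN (1 : Kˣ))) with hidef
  set j : G K m := psiA (proj (slJ K)) with hjdef
  set u : G K m := gU 0 1 0
  obtain ⟨hui, huj⟩ := u_conj (K := K) (m := m)
  have hii : i * i = 1 := triple_sq i (by simp [triple, i])
  have hjj : j * j = 1 := triple_sq j (by simp [triple, j])
  have hij : i * j = j * i := triple_comm i (by simp [triple, i]) j (by simp [triple, j])
  have huij : u * (i * j) * u⁻¹ = i := by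
    rw [← conj_mul, hui, huj, ← mul_assoc, ← hij, mul_assoc, hjj, mul_one]
  have hi1 : i ≠ 1 := by
    intro h
    rcases proj_eq_one_iff.1 (psiA_injective (h.trans (map_one _).symm)) with e | e <;>
      simpa [slN_val, negOne, Matrix.one_fin_two] using congrArg Subtype.val e
  obtain ⟨g, hg⟩ := isConj_iff.1 (isConj_invA hm hi1 hii).symm
  set t' := g * j * g⁻¹ with ht'
  have hij' : g * (i * j) * g⁻¹ = invA K m * t' := by rw [← conj_mul, hg]
  have ht'C : t' ∈ Subgroup.centralizer {invA K m} := by
    rw [Subgroup.mem_centralizer_singleton_iff, ← hg, conj_mul, conj_mul, hij]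
  -- one of the two lies in the diagonal `PSL₂`
  obtain ⟨s, hs, k, hk⟩ : ∃ s, (s = j ∨ s = i * j) ∧ ∃ k : SL(2, K), g * s * g⁻¹ = phiA k := by
    obtain ⟨x, hx⟩ := centralizer_split ht'C
    obtain ⟨k, rfl⟩ := proj_surjective x
    rcases hx with h | h
    · exact ⟨j, Or.inl rfl, k, h⟩
    · exact ⟨i * j, Or.inr rfl, k, by rw [hij', h, ← mul_assoc, a_sq, one_mul]; rfl⟩
  have hs1 : s ≠ 1 := by
    rcases hs with rfl | rfl
    · intro h
      rcases proj_eq_one_iff.1 (psiA_injective (h.trans (map_one _).symm)) with e | e <;>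
        simpa [slJ_val, negOne, Matrix.one_fin_two] using congrArg Subtype.val e
    · intro h
      have := congrArg (fun z => u * z * u⁻¹) h
      simp only [huij, mul_one, mul_inv_cancel] at this
      exact hi1 this
  have hss : s * s = 1 := by
    rcases hs with rfl | rfl
    · exact hjj
    · rw [(show Commute j i from hij.symm).mul_mul_mul_comm, hii, hjj, one_mul]
  have hkk : k * k = negOne := by
    have h1 : (phiA (k * k) : G K m) = 1 := by
      rw [map_mul, ← hk, conj_mul, hss, mul_one, mul_inv_cancel]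
    rcases phiA_kernel h1 with e | e
    · exfalso
      apply hs1
      have h2 : (phiA k : G K m) = 1 := by
        rcases Cfsg.Agent.Lib.PSLTwo.Sylow.sq_eq_one two_ne_zero' e with e' | e' <;> rw [e']
        · exact map_one _
        · exact phiA_negOne
      exact conj_eq_one_iff.1 (hk.trans h2)
    · exact e
  have h2' : (2 : K) ≠ 0 := two_ne_zero'
  obtain ⟨h, hh⟩ := Cfsg.Agent.Lib.PSLTwo.Sylow.exists_conj (a := k) (b := tauP K m ^ lP m)
    (Nat.odd_iff.1 (hF.out ▸ odd_q m)) h2' (by
      rw [trace_zero_of_sq hkk]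
      intro e
      exact mul_ne_zero h2' h2' (by linear_combination -e))
    (by rw [trace_zero_of_sq hkk, trace_zero_of_sq tauP_half_sq])
  set g' := phiA h * g
  have hg'i : g' * i * g'⁻¹ = invA K m := by
    calc g' * i * g'⁻¹ = phiA h * (g * i * g⁻¹) * (phiA h)⁻¹ := by simp only [g']; group
      _ = invA K m := by rw [hg, ← invA_comm_phiA, mul_inv_cancel_right]
  have hg's : g' * s * g'⁻¹ = tI K m := by
    calc g' * s * g'⁻¹ = phiA h * (g * s * g⁻¹) * (phiA h)⁻¹ := by simp only [g']; group
      _ = phiA (h * k * h⁻¹) := by rw [hk, map_mul, map_mul, map_inv]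
      _ = tI K m := by rw [hh, map_pow]; rfl
  set n := g' * u * g'⁻¹
  have hconj : ∀ z, n * (g' * z * g'⁻¹) * n⁻¹ = g' * (u * z * u⁻¹) * g'⁻¹ := fun z => by simp only [n]; group
  obtain ⟨o2, o3, htn⟩ : invA K m * tI K m ∈ cOrb (Subgroup.zpowers n) (invA K m) ∧
      tI K m ∈ cOrb (Subgroup.zpowers n) (invA K m) ∧ n * tI K m * n⁻¹ ∈ fourE K m ∧
      n * invA K m * n⁻¹ ∈ fourE K m := by
    have e1 : n * invA K m * n⁻¹ = g' * j * g'⁻¹ := by rw [← hg'i, hconj, hui]
    have e2 : (n * n) * invA K m * (n * n)⁻¹ = g' * (i * j) * g'⁻¹ := by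
      calc (n * n) * invA K m * (n * n)⁻¹ = n * (n * invA K m * n⁻¹) * n⁻¹ := by group
        _ = _ := by rw [e1, hconj, huj]
    have eij : g' * (i * j) * g'⁻¹ = invA K m * (g' * j * g'⁻¹) := by rw [← conj_mul, hg'i]
    have m1 : n ∈ Subgroup.zpowers n := Subgroup.mem_zpowers n
    rcases hs with rfl | rfl
    · rw [hg's] at e1 eij
      refine ⟨⟨n * n, mul_mem m1 m1, e2.trans eij⟩, ⟨n, m1, e1⟩, ?_, e1 ▸ tI_mem_fourE⟩
      rw [← hg's, hconj, huj, eij]
      exact mul_mem invA_mem_fourE tI_mem_fourE
    · rw [hg's] at e2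
      have ej : g' * j * g'⁻¹ = invA K m * tI K m := by
        rw [← hg's, eij, ← mul_assoc, a_sq, one_mul]
      rw [ej] at e1
      refine ⟨⟨n, m1, e1⟩, ⟨n * n, mul_mem m1 m1, e2⟩, ?_, e1 ▸ mul_mem invA_mem_fourE tI_mem_fourE⟩
      rw [← hg's, hconj, huij, hg'i]
      exact invA_mem_fourE
  have hnN : n ∈ N := mem_normalizer_of_conj_mem fun w hw => by
    rcases mem_fourE.1 hw with rfl | rfl | rfl | rfl
    · simp
    · exact htn.2
    · exact htn.1
    · rw [← conj_mul]; exact mul_mem htn.2 htn.1
  have hzN : Subgroup.zpowers n ≤ N := by rw [Subgroup.zpowers_le]; exact hnN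
  have hmono : cOrb (Subgroup.zpowers n) (invA K m) ⊆ cOrb N (invA K m) := by
    rintro _ ⟨z, hz, rfl⟩; exact ⟨z, hzN hz, rfl⟩
  have horb : (cOrb N (invA K m)).ncard = 3 := by
    refine le_antisymm (fourE_orbit le_rfl invA_mem_fourE invA_ne_one) ?_
    have hsub : ({invA K m, tI K m, invA K m * tI K m} : Set (G K m)) ⊆ cOrb N (invA K m) := by
      rintro z (rfl | rfl | rfl)
      · exact ⟨1, one_mem _, by group⟩
      · exact hmono o3
      · exact hmono o2
    refine le_trans (le_of_eq ?_) (Set.ncard_le_ncard hsub (Set.toFinite _))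
    rw [Set.ncard_insert_of_notMem, Set.ncard_pair]
    · exact fun h => invA_ne_one (K := K) (m := m) (by simpa using h)
    · simp only [Set.mem_insert_iff, Set.mem_singleton_iff, not_or]
      exact ⟨fours_ne.1.symm, fun h => tI_ne_one (K := K) (m := m) (by simpa using h)⟩
  rw [← cOrb_mul_centralizer N (invA K m), horb, hstab, card_centE]
  ring

/-- Elements of `C(E)` of order dividing `(q+1)/4` lie in the torus. -/
lemma mem_torA_of_centE {x : G K m} (hx : x ∈ centE K m) (h : x ^ lP m = 1) : x ∈ torA K m := by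
  by_cases hD : x ∈ torD K m
  · exact torA_eq hD h
  obtain ⟨l, hl⟩ := (lP_spec m).2.2
  obtain ⟨k, hk, hxk⟩ := hx
  have hkT : k ∉ torus (tauP K m) := fun hT => hD ⟨k, hT, hxk⟩
  have hk2 : (phiA k : G K m) * phiA k = 1 := by
    rw [← map_mul, Cfsg.Agent.Lib.SL2Tori.sq_eq_negOne_of_not_mem two_ne_zero' tauP_regular hk hkT, phiA_negOne]
  have hxx : x * x = 1 := by
    rcases hxk with rfl | rfl
    · exact hk2
    · rw [(show Commute (phiA k) (invA K m) from (invA_comm_phiA k).symm).mul_mul_mul_comm, a_sq, hk2, one_mul]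
  rw [hl, pow_succ, pow_mul, pow_two, hxx, one_pow, one_mul] at h
  rw [h]; exact one_mem _

theorem normalizer_torA (hm : 1 ≤ m) :
    Subgroup.normalizer (torA K m : Set (G K m)) = Subgroup.normalizer (fourE K m : Set (G K m)) := by
  have hl : 1 < lP m := by
    have h1 := qq_ge27 hm
    have h2 := (lP_spec m).1
    omega
  apply le_antisymm
  · intro n hn
    have hn' := Subgroup.mem_normalizer_iff.1 hn
    obtain ⟨α, hα, hα1⟩ : ∃ α ∈ torA K m, α ≠ 1 := by
      by_contra hc
      push Not at hc
      have := card_torA (K := K) (m := m)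
      rw [(Subgroup.eq_bot_iff_forall _).2 hc, Subgroup.card_bot] at this
      omega
    have hα' : n * α * n⁻¹ ∈ torA K m := (hn' α).1 hα
    have hα'1 : n * α * n⁻¹ ≠ 1 := fun h => hα1 (conj_eq_one_iff.1 h)
    refine mem_normalizer_of_conj_mem fun w hw => ⟨?_, ?_⟩
    · show n * w * n⁻¹ ∈ torD K m
      rw [← centralizer_torA hm hα' hα'1, Subgroup.mem_centralizer_singleton_iff, conj_mul, conj_mul]
      have : w ∈ Subgroup.centralizer {α} := by rw [centralizer_torA hm hα hα1]; exact hw.1
      rw [Subgroup.mem_centralizer_singleton_iff.1 this]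
    · show n * w * n⁻¹ * (n * w * n⁻¹) = 1
      rw [conj_mul, hw.2, mul_one, mul_inv_cancel]
  · intro n hn
    have hn' := Subgroup.mem_normalizer_iff.1 hn
    refine mem_normalizer_of_conj_mem fun w hw => mem_torA_of_centE ?_ ?_
    · rw [centE_eq, Subgroup.mem_inf]
      have hwD : w ∈ torD K m := torA_le_torD hw
      constructor <;> rw [Subgroup.mem_centralizer_singleton_iff]
      · have he : n⁻¹ * invA K m * n ∈ fourE K m := by
          rw [hn']; simpa [mul_assoc] using invA_mem_fourE
        have := torD_comm w hwD _ he.1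
        calc n * w * n⁻¹ * invA K m = n * (w * (n⁻¹ * invA K m * n)) * n⁻¹ := by group
          _ = n * (n⁻¹ * invA K m * n * w) * n⁻¹ := by rw [this]
          _ = _ := by group
      · have he : n⁻¹ * tI K m * n ∈ fourE K m := by
          rw [hn']; simpa [mul_assoc] using tI_mem_fourE
        have := torD_comm w hwD _ he.1
        calc n * w * n⁻¹ * tI K m = n * (w * (n⁻¹ * tI K m * n)) * n⁻¹ := by group
          _ = n * (n⁻¹ * tI K m * n * w) * n⁻¹ := by rw [this]
          _ = _ := by group
    · rw [conj_pow, orderOf_dvd_iff_pow_eq_one.1 (torA_order hw), mul_one, mul_inv_cancel]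

theorem card_normalizer_torA (hm : 1 ≤ m) :
    Nat.card ↥(Subgroup.normalizer (torA K m : Set (G K m))) = 6 * (qq m + 1) := by
  rw [normalizer_torA hm, card_normalizer_fourE hm]

end Cfsg.Agent.Lib.Ree
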