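import Cfsg.Agent.Lib.Ree.Rep7
import Cfsg.Agent.Lib.Ree.Linear7
import Cfsg.Agent.Lib.Ree.TorusMinus
import Cfsg.Agent.Lib.Ree.TorusPlusNorm

/-!
Centralisers of the elements whose order divides `q² - q + 1`.
-/

set_option autoImplicit false
set_option linter.unusedSectionVars false

open scoped Pointwise

namespace Cfsg.Agent.Lib.Ree

open Cfsg.Lie

variable {K : Type*} [Field K] [CharP K 3] [Fintype K] {m : ℕ} [hF : Fact (Fintype.card K = 3 ^ (2 * m + 1))]

/-- Elements of prime order, the Sylow subgroup of which lies in `T`, are conjugate into `T`. -/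
lemma exists_conj_mem {T : Subgroup (G K m)} {r : ℕ} (hr : r.Prime) {n : ℕ} (hn : Nat.card (G K m) = Nat.card T * n)
    (hcop : ¬ r ∣ n) {z : G K m} {e : ℕ} (hz : orderOf z ∣ r ^ e) : ∃ g : G K m, g * z * g⁻¹ ∈ T := by
  haveI := Fact.mk hr
  obtain ⟨Q⟩ : Nonempty (Sylow r ↥T) := inferInstance
  obtain ⟨k, -, hk⟩ := (Nat.dvd_prime_pow hr).1 hz
  obtain ⟨S, hS⟩ := (IsPGroup.of_card (p := r) (G := ↥(Subgroup.zpowers z)) (n := k) (by rw [Nat.card_zpowers, hk])).exists_le_sylow
  obtain ⟨P, hP⟩ := (Q.2.map T.subtype).exists_le_sylow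
  have heq : (Q : Subgroup T).map T.subtype = P := by
    refine Subgroup.eq_of_le_of_card_ge hP (le_of_eq ?_)
    rw [Subgroup.card_subtype, Sylow.card_eq_multiplicity, Sylow.card_eq_multiplicity, hn,
      Nat.factorization_mul Nat.card_pos.ne' (fun h => hcop (by rw [h]; exact dvd_zero r)), Finsupp.add_apply,
      Nat.factorization_eq_zero_of_not_dvd hcop, add_zero]
  obtain ⟨g, hg⟩ := MulAction.exists_smul_eq (G K m) S P
  refine ⟨g, Subgroup.map_subtype_le _ (?_ : g * z * g⁻¹ ∈ (Q : Subgroup T).map T.subtype)⟩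
  rw [heq, ← hg, Sylow.smul_def, Sylow.pointwise_smul_def, Subgroup.mem_pointwise_smul_iff_inv_smul_mem]
  show (MulAut.conj g)⁻¹ (g * z * g⁻¹) ∈ (S : Subgroup (G K m))
  rw [MulAut.conj_inv_apply]
  simpa [mul_assoc] using hS (Subgroup.mem_zpowers z)

lemma card_G' : Nat.card (G K m) = qq m ^ 3 * (qq m - 1) * (qq m + 1) * tT m := by rw [card_G, order_factor]

lemma prime_not_dvd_qq {r : ℕ} (hr : r.Prime) (h3 : r ≠ 3) : ¬ r ∣ qq m := fun h =>
  h3 ((Nat.prime_dvd_prime_iff_eq hr Nat.prime_three).1 (hr.dvd_of_dvd_pow h))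

lemma conj_into_torM {r : ℕ} (hr : r.Prime) (h2 : r ≠ 2) (hd : r ∣ qq m - 1) {z : G K m} {e : ℕ}
    (hz : orderOf z ∣ r ^ e) : ∃ g : G K m, g * z * g⁻¹ ∈ torM K m := by
  obtain ⟨a1, a2, -⟩ := prime_factors_apart m hr h2
  have h3 : r ≠ 3 := fun h => (not_three_dvd_qq_pm m).1 (h ▸ hd)
  obtain ⟨k, hk, hk'⟩ := half_qq_odd m
  refine exists_conj_mem hr (n := qq m ^ 3 * (qq m + 1) * tT m * 2) ?_ ?_ hz
  · rw [card_torM, card_G', hk', hk]; ring
  · intro h
    rcases hr.dvd_mul.1 h with h | h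
    · rcases hr.dvd_mul.1 h with h | h
      · rcases hr.dvd_mul.1 h with h | h
        · exact prime_not_dvd_qq hr h3 (hr.dvd_of_dvd_pow h)
        · exact a1 ⟨hd, h⟩
      · exact a2 ⟨hd, h⟩
    · exact h2 ((Nat.prime_dvd_prime_iff_eq hr Nat.prime_two).1 h)

lemma conj_into_torA {r : ℕ} (hr : r.Prime) (h2 : r ≠ 2) (hd : r ∣ qq m + 1) {z : G K m} {e : ℕ}
    (hz : orderOf z ∣ r ^ e) : ∃ g : G K m, g * z * g⁻¹ ∈ torA K m := by
  obtain ⟨a1, -, a3⟩ := prime_factors_apart m hr h2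
  have h3 : r ≠ 3 := fun h => (not_three_dvd_qq_pm m).2 (h ▸ hd)
  refine exists_conj_mem hr (n := qq m ^ 3 * (qq m - 1) * tT m * 4) ?_ ?_ hz
  · rw [card_torA, card_G', (lP_spec m).1]; ring
  · intro h
    rcases hr.dvd_mul.1 h with h | h
    · rcases hr.dvd_mul.1 h with h | h
      · rcases hr.dvd_mul.1 h with h | h
        · exact prime_not_dvd_qq hr h3 (hr.dvd_of_dvd_pow h)
        · exact a1 ⟨h, hd⟩
      · exact a3 ⟨hd, h⟩
    · exact h2 ((Nat.prime_dvd_prime_iff_eq hr Nat.prime_two).1 (hr.dvd_of_dvd_pow (show r ∣ 2 ^ 2 from h)))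

lemma prime_dvd_tT_facts {p : ℕ} (hp : p.Prime) (hd : p ∣ tT m) :
    p ≠ 2 ∧ p ≠ 3 ∧ ¬ p ∣ qq m ∧ ¬ p ∣ qq m - 1 ∧ ¬ p ∣ qq m + 1 := by
  have h2 : p ≠ 2 := fun h => Nat.not_even_iff_odd.2 (tT_odd m) (even_iff_two_dvd.2 (h ▸ hd))
  have h3 : p ≠ 3 := fun h => not_three_dvd_tT m (h ▸ hd)
  obtain ⟨-, a2, a3⟩ := prime_factors_apart m hp h2
  exact ⟨h2, h3, prime_not_dvd_qq hp h3, fun h => a2 ⟨h, hd⟩, fun h => a3 ⟨h, hd⟩⟩

/-- `q` has multiplicative order six modulo a prime divisor of `q² - q + 1`. -/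
lemma orderOf_q_mod {p : ℕ} (hp : p.Prime) (hd : p ∣ tT m) : orderOf (qq m : ZMod p) = 6 := by
  haveI := Fact.mk hp
  obtain ⟨h2, h3, -, -, -⟩ := prime_dvd_tT_facts hp hd
  set Q : ZMod p := (qq m : ZMod p)
  have h : Q * Q - Q + 1 = 0 := by
    have hT := congrArg (Nat.cast : ℕ → ZMod p) (tT_add m)
    have hd' : ((tT m : ℕ) : ZMod p) = 0 := (ZMod.natCast_eq_zero_iff _ _).2 hd
    have hQq : ((qq m : ℕ) : ZMod p) = Q := rfl
    rw [Nat.cast_add, Nat.cast_add, Nat.cast_mul, Nat.cast_one, hd', hQq] at hT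
    linear_combination -hT
  have hne : ∀ {n : ℕ}, n ≠ 0 → n < 4 → (n : ZMod p) ≠ 0 := by
    intro n hn0 hn4 hn
    have hle := Nat.le_of_dvd (Nat.pos_of_ne_zero hn0) ((ZMod.natCast_eq_zero_iff _ _).1 hn)
    have := hp.two_le
    omega
  have hQ3 : Q ^ 3 = -1 := by linear_combination (Q + 1) * h
  have h6 : Q ^ 6 = 1 := by rw [show 6 = 3 * 2 from rfl, pow_mul, hQ3]; norm_num
  refine (orderOf_eq_iff (by norm_num)).2 ⟨h6, fun k hk hk0 hQ => ?_⟩
  have h23 : Q ^ 3 ≠ 1 := by
    rw [hQ3]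
    intro e
    exact hne (n := 2) (by norm_num) (by norm_num) (by push_cast; linear_combination -e)
  have h22 : Q ^ 2 ≠ 1 := by
    intro e
    rcases mul_self_eq_one_iff.1 (show Q * Q = 1 by rw [← pow_two, e]) with e' | e'
    · rw [e'] at h; exact hne (n := 1) (by norm_num) (by norm_num) (by push_cast; linear_combination h)
    · rw [e'] at h; exact hne (n := 3) (by norm_num) (by norm_num) (by push_cast; linear_combination h)
  have hg := pow_gcd_eq_one.2 ⟨h6, hQ⟩
  interval_cases k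
  · exact h22 (by rw [pow_one] at hQ; rw [hQ, one_pow])
  · exact h22 hQ
  · exact h23 hQ
  · exact h22 hg
  · exact h22 (by rw [show Nat.gcd 6 5 = 1 from rfl, pow_one] at hg; rw [hg, one_pow])

lemma cast_p_ne_zero {p : ℕ} (hp : p.Prime) (hd : p ∣ tT m) : (p : K) ≠ 0 := by
  rw [Ne, CharP.cast_eq_zero_iff K 3]
  exact fun h => (prime_dvd_tT_facts hp hd).2.1 ((Nat.prime_dvd_prime_iff_eq Nat.prime_three hp).1 h).symm

lemma exists_split_rep {x : G K m} {p : ℕ} (hp : p.Prime) (hd : p ∣ tT m) (hx : orderOf x = p) :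
    Nonempty (Linear7.Split (rep7 x) p) := by
  refine Linear7.exists_split hp (cast_p_ne_zero (m := m) hp hd) ?_ ?_ ?_
  · rw [hF.out]; exact orderOf_q_mod hp hd
  · rw [← map_pow, ← hx, pow_orderOf_eq_one, map_one]
  · intro h
    rw [← map_one (rep7 : G K m →* _)] at h
    rw [rep7_injective h, orderOf_one] at hx
    exact hp.one_lt.ne hx

theorem centralizer_T_isCyclic (hm : 1 ≤ m) {x : G K m} {p : ℕ} (hp : p.Prime) (hd : p ∣ tT m) (hx : orderOf x = p) :
    IsCyclic ↥(Subgroup.centralizer {x}) := by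
  obtain ⟨S⟩ := exists_split_rep hp hd hx
  exact Linear7.isCyclic_of_commute S (rep7.comp (Subgroup.centralizer {x}).subtype)
    (fun a b h => Subtype.ext (rep7_injective h))
    (fun g => by
      show rep7 (g : G K m) * rep7 x = rep7 x * rep7 (g : G K m)
      rw [← map_mul, ← map_mul, Subgroup.mem_centralizer_singleton_iff.1 g.2])
    (fun g => rep7_det hm _)

lemma orderOf_conj' (g z : G K m) : orderOf (g * z * g⁻¹) = orderOf z := by
  rw [← MulAut.conj_apply, MulEquiv.orderOf_eq]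

/-- The centraliser has order dividing `q² - q + 1`. -/
theorem card_centralizer_T_dvd (hm : 1 ≤ m) {x : G K m} {p : ℕ} (hp : p.Prime) (hd : p ∣ tT m) (hx : orderOf x = p) :
    Nat.card ↥(Subgroup.centralizer {x}) ∣ tT m := by
  classical
  obtain ⟨h2, h3, hq, hqm, hqp⟩ := prime_dvd_tT_facts hp hd
  set C := Subgroup.centralizer {x}
  have hnd : ∀ r : ℕ, r.Prime → r ∣ qq m * ((qq m - 1) * (qq m + 1)) → ¬ r ∣ Nat.card C := by
    intro r hr hrd hrC
    haveI := Fact.mk hr
    obtain ⟨z, hz⟩ := exists_prime_orderOf_dvd_card' r hrC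
    rw [← Subgroup.orderOf_coe] at hz
    have hzc : (z : G K m) * x = x * z := Subgroup.mem_centralizer_singleton_iff.1 z.2
    have key : ∀ g : G K m, g * x * g⁻¹ * (g * z * g⁻¹) = g * z * g⁻¹ * (g * x * g⁻¹) := fun g => by
      rw [conj_mul, conj_mul, hzc]
    by_cases hr2 : r = 2
    · subst hr2
      have hz2 : (z : G K m) * z = 1 := by rw [← pow_two, ← hz, pow_orderOf_eq_one]
      have hz1 : (z : G K m) ≠ 1 := fun h => by rw [h, orderOf_one] at hz; exact absurd hz (by norm_num)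
      obtain ⟨g, hg⟩ := isConj_iff.1 (isConj_invA hm hz1 hz2).symm
      have hmem : g * x * g⁻¹ ∈ Subgroup.centralizer {invA K m} := by
        rw [Subgroup.mem_centralizer_singleton_iff, ← hg, key]
      have := Subgroup.orderOf_dvd_natCard _ hmem
      rw [orderOf_conj', hx, card_centralizer_invA] at this
      rcases hp.dvd_mul.1 this with h | h
      · rcases hp.dvd_mul.1 h with h | h
        · exact hq h
        · exact hqm h
      · exact hqp h
    by_cases hr3 : r = 3
    · subst hr3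
      rcases orderOf_of_commute_three hz hzc.symm with h | h <;> rw [hx] at h
      · rcases hp.dvd_mul.1 (show p ∣ 2 * 3 from h) with h | h
        · exact h2 ((Nat.prime_dvd_prime_iff_eq hp Nat.prime_two).1 h)
        · exact h3 ((Nat.prime_dvd_prime_iff_eq hp Nat.prime_three).1 h)
      · exact h3 ((Nat.prime_dvd_prime_iff_eq hp Nat.prime_three).1 (hp.dvd_of_dvd_pow (show p ∣ 3 ^ 2 from h)))
    rcases hr.dvd_mul.1 hrd with h | h
    · exact prime_not_dvd_qq hr hr3 h
    rcases hr.dvd_mul.1 h with h | h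
    · obtain ⟨g, hg⟩ := conj_into_torM hr hr2 h (z := (z : G K m)) (e := 1) (by rw [hz, pow_one])
      obtain ⟨y, hy⟩ := torM_le hg
      have hz1 : (gH y : G K m) ≠ 1 := by
        rw [hy, Ne, conj_eq_one_iff]
        intro e; rw [e, orderOf_one] at hz; exact hr.one_lt.ne hz
      obtain ⟨y1, y2⟩ := regular_of_odd (m := m) (hy ▸ (torM_order hg).1) hz1
      have hmem : g * x * g⁻¹ ∈ Subgroup.centralizer {(gH y : G K m)} := by
        rw [Subgroup.mem_centralizer_singleton_iff, hy, key]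
      have := Subgroup.orderOf_dvd_natCard _ hmem
      rw [orderOf_conj', hx, centralizer_gH y1 y2, card_gH_range] at this
      exact hqm this
    · obtain ⟨g, hg⟩ := conj_into_torA hr hr2 h (z := (z : G K m)) (e := 1) (by rw [hz, pow_one])
      have hz1 : g * (z : G K m) * g⁻¹ ≠ 1 := by
        rw [Ne, conj_eq_one_iff]
        intro e; rw [e, orderOf_one] at hz; exact hr.one_lt.ne hz
      have hmem : g * x * g⁻¹ ∈ Subgroup.centralizer {g * (z : G K m) * g⁻¹} := by
        rw [Subgroup.mem_centralizer_singleton_iff, key]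
      have := Subgroup.orderOf_dvd_natCard _ hmem
      rw [orderOf_conj', hx, centralizer_torA hm hg hz1, card_torD] at this
      exact hqp this
  have hcop : ∀ d : ℕ, d ∣ qq m * ((qq m - 1) * (qq m + 1)) → Nat.Coprime (Nat.card C) d := fun d hdd =>
    Nat.coprime_of_dvd fun r hr hrC hrd => hnd r hr (hrd.trans hdd) hrC
  have hG := Subgroup.card_subgroup_dvd_card C
  rw [card_G'] at hG
  refine (Nat.Coprime.dvd_mul_left ?_).1 hG
  exact Nat.Coprime.mul_right (Nat.Coprime.mul_right ((hcop (qq m) (dvd_mul_right _ _)).pow_right 3)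
    (hcop (qq m - 1) (dvd_mul_of_dvd_right (dvd_mul_right _ _) _))) (hcop (qq m + 1) (dvd_mul_of_dvd_right (dvd_mul_left _ _) _))

/-- The centralisers are TI. -/
theorem centralizer_T_eq (hm : 1 ≤ m) {x y : G K m} {p : ℕ} (hp : p.Prime) (hd : p ∣ tT m) (hx : orderOf x = p)
    (hy : y ∈ Subgroup.centralizer {x}) (hy1 : y ≠ 1) :
    Subgroup.centralizer {y} = Subgroup.centralizer {x} := by
  have hcomm : ∀ {x : G K m} {p : ℕ}, p.Prime → p ∣ tT m → orderOf x = p →
      ∀ a ∈ Subgroup.centralizer {x}, ∀ b ∈ Subgroup.centralizer {x}, a * b = b * a := by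
    intro x p hp hd hx a ha b hb
    haveI := centralizer_T_isCyclic hm hp hd hx
    letI : CommGroup ↥(Subgroup.centralizer {x}) := IsCyclic.commGroup
    exact congrArg Subtype.val (mul_comm (⟨a, ha⟩ : ↥(Subgroup.centralizer {x})) ⟨b, hb⟩)
  have hxself : x ∈ Subgroup.centralizer {x} := Subgroup.mem_centralizer_singleton_iff.2 rfl
  have hyd : orderOf y ∣ tT m :=
    (Subgroup.orderOf_dvd_natCard _ hy).trans (card_centralizer_T_dvd hm hp hd hx)
  obtain ⟨r, hr, hrd⟩ := Nat.exists_prime_and_dvd (n := orderOf y) fun h => hy1 (orderOf_eq_one_iff.1 h)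
  have hy' : orderOf (y ^ (orderOf y / r)) = r := by
    exact orderOf_pow_orderOf_div (orderOf_pos y).ne' hrd
  set y' := y ^ (orderOf y / r)
  have hy'x : y' ∈ Subgroup.centralizer {x} := pow_mem hy _
  have hxy' : x ∈ Subgroup.centralizer {y'} :=
    Subgroup.mem_centralizer_singleton_iff.2 (Subgroup.mem_centralizer_singleton_iff.1 hy'x).symm
  apply le_antisymm
  · intro z hz
    have hzy : z ∈ Subgroup.centralizer {y'} := by
      rw [Subgroup.mem_centralizer_singleton_iff] at hz ⊢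
      exact ((show Commute z y from hz).pow_right _).eq
    rw [Subgroup.mem_centralizer_singleton_iff]
    exact hcomm hr (hrd.trans hyd) hy' z hzy x hxy'
  · intro z hz
    rw [Subgroup.mem_centralizer_singleton_iff]
    exact hcomm hp hd hx z hz y hy

/-- The centraliser contains the Sylow subgroups of all its primes. -/
theorem centralizer_T_full (hm : 1 ≤ m) {x : G K m} {p : ℕ} (hp : p.Prime) (hd : p ∣ tT m) (hx : orderOf x = p)
    {r : ℕ} (hr : r.Prime) (hrC : r ∣ Nat.card ↥(Subgroup.centralizer {x})) :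
    r ^ (tT m).factorization r ∣ Nat.card ↥(Subgroup.centralizer {x}) := by
  classical
  haveI := Fact.mk hr
  have hrT : r ∣ tT m := hrC.trans (card_centralizer_T_dvd hm hp hd hx)
  obtain ⟨y, hy⟩ := exists_prime_orderOf_dvd_card' r hrC
  rw [← Subgroup.orderOf_coe] at hy
  have hy1 : (y : G K m) ≠ 1 := fun h => by rw [h, orderOf_one] at hy; exact hr.one_lt.ne hy
  obtain ⟨P, hP⟩ := (IsPGroup.of_card (p := r) (G := ↥(Subgroup.zpowers (y : G K m))) (n := 1)
    (by rw [Nat.card_zpowers, hy, pow_one])).exists_le_sylow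
  have hyP : (y : G K m) ∈ (P : Subgroup (G K m)) := hP (Subgroup.mem_zpowers _)
  haveI : Nontrivial ↥(P : Subgroup (G K m)) := ⟨⟨⟨y, hyP⟩, 1, fun h => hy1 (congrArg Subtype.val h)⟩⟩
  haveI := IsPGroup.center_nontrivial P.2
  have hrZ : r ∣ Nat.card (Subgroup.center ↥(P : Subgroup (G K m))) :=
    (P.2.to_subgroup _).card_eq_or_dvd.resolve_left Finite.one_lt_card.ne'
  obtain ⟨w, hw⟩ := exists_prime_orderOf_dvd_card' r hrZ
  rw [← Subgroup.orderOf_coe, ← Subgroup.orderOf_coe] at hw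
  set z := ((w : ↥(P : Subgroup (G K m))) : G K m)
  have hPz : (P : Subgroup (G K m)) ≤ Subgroup.centralizer {z} := fun v hv => by
    rw [Subgroup.mem_centralizer_singleton_iff]
    exact congrArg Subtype.val (Subgroup.mem_center_iff.1 w.2 ⟨v, hv⟩)
  have he : Subgroup.centralizer {z} = Subgroup.centralizer {x} := by
    rw [← centralizer_T_eq hm hr hrT hw (hPz hyP) hy1, centralizer_T_eq hm hp hd hx y.2 hy1]
  rw [he] at hPz
  have hcard := Subgroup.card_dvd_of_le hPz
  rw [Sylow.card_eq_multiplicity, card_G'] at hcard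
  obtain ⟨h2, h3, hq, hqm, hqp⟩ := prime_dvd_tT_facts hr hrT
  have hndvd : ¬ r ∣ qq m ^ 3 * (qq m - 1) * (qq m + 1) := by
    intro h
    rcases hr.dvd_mul.1 h with h | h
    · rcases hr.dvd_mul.1 h with h | h
      · exact hq (hr.dvd_of_dvd_pow h)
      · exact hqm h
    · exact hqp h
  rwa [Nat.factorization_mul (fun h => hndvd (by rw [h]; exact dvd_zero r)) (tT_odd m).pos.ne', Finsupp.add_apply,
    Nat.factorization_eq_zero_of_not_dvd hndvd, zero_add] at hcard

/-- `|N(C)| = |C| w` with `w ∣ 6`. -/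
theorem card_normalizer_T (hm : 1 ≤ m) {x : G K m} {p : ℕ} (hp : p.Prime) (hd : p ∣ tT m) (hx : orderOf x = p) :
    ∃ w, w ∣ 6 ∧ Nat.card ↥(Subgroup.normalizer ((Subgroup.centralizer {x} : Subgroup (G K m)) : Set (G K m))) =
      Nat.card ↥(Subgroup.centralizer {x}) * w := by
  classical
  haveI := Fact.mk hp
  obtain ⟨S⟩ := exists_split_rep hp hd hx
  set C := Subgroup.centralizer {x} with hC
  set N := Subgroup.normalizer (C : Set (G K m))
  have hxC : x ∈ C := Subgroup.mem_centralizer_singleton_iff.2 rfl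
  have hzx : Subgroup.zpowers x ≤ C := by rw [Subgroup.zpowers_le]; exact hxC
  have hNz : N ≤ Subgroup.normalizer (Subgroup.zpowers x : Set (G K m)) :=
    normalizer_cyclic_le (centralizer_T_isCyclic hm hp hd hx) hzx
  have hex : ∀ n : ↥N, ∃ i : ℕ, (n : G K m) * x * (n : G K m)⁻¹ = x ^ (qq m ^ i) := by
    intro n
    have h := (Subgroup.mem_normalizer_iff.1 (hNz n.2) x).1 (Subgroup.mem_zpowers x)
    obtain ⟨k, hk⟩ := mem_zpowers_iff_mem_range_orderOf.1 h |> Finset.mem_image.1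
    have hconj : rep7 (n : G K m) * rep7 x = rep7 x ^ k * rep7 (n : G K m) := by
      rw [← map_pow, ← map_mul, ← map_mul, hk.2, inv_mul_cancel_right]
    obtain ⟨i, -, hi⟩ := Linear7.conj_pow_cases S hp (by rw [hF.out]; exact orderOf_q_mod hp hd)
      (by rw [← map_pow, ← hx, pow_orderOf_eq_one, map_one])
      (g' := rep7 (n : G K m)⁻¹) (by rw [← map_mul, inv_mul_cancel, map_one]) hconj
    refine ⟨i, ?_⟩
    rw [← map_pow, ← map_pow, hF.out] at hi
    rw [← hk.2]
    exact rep7_injective hi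
  choose i hi using hex
  have huniq : ∀ a b : ℕ, x ^ a = x ^ b → (a : ZMod p) = b := fun a b h => by
    have := (IsOfFinOrder.pow_eq_pow_iff_modEq (isOfFinOrder_of_finite x)).1 h
    rwa [hx, ← ZMod.natCast_eq_natCast_iff] at this
  let ψ0 : ↥N →* ZMod p :=
    { toFun := fun n => ((qq m ^ i n : ℕ) : ZMod p)
      map_one' := by
        rw [← Nat.cast_one]
        refine huniq _ _ ?_
        rw [← hi]; simp
      map_mul' := fun a b => by
        rw [← Nat.cast_mul]
        refine huniq _ _ ?_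
        rw [← hi, Subgroup.coe_mul, pow_mul, ← hi a, conj_pow, ← hi b]
        group }
  let ψ := ψ0.toHomUnits
  have hker : ψ.ker = C.subgroupOf N := by
    ext n
    rw [MonoidHom.mem_ker, Subgroup.mem_subgroupOf, hC, Subgroup.mem_centralizer_singleton_iff, ← mul_inv_eq_iff_eq_mul,
      hi n]
    constructor
    · intro h
      have h' : ((qq m ^ i n : ℕ) : ZMod p) = ((1 : ℕ) : ZMod p) := by
        rw [Nat.cast_one]; exact congrArg Units.val h
      rw [ZMod.natCast_eq_natCast_iff] at h'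
      conv_rhs => rw [← pow_one x]
      rw [IsOfFinOrder.pow_eq_pow_iff_modEq (isOfFinOrder_of_finite x), hx]
      exact h'
    · intro h
      apply Units.ext
      show ((qq m ^ i n : ℕ) : ZMod p) = 1
      rw [← Nat.cast_one]
      exact huniq _ _ (by rw [pow_one]; exact h)
  refine ⟨Nat.card ψ.range, ?_, ?_⟩
  · have hQ : IsUnit ((qq m : ℕ) : ZMod p) := by
      rw [isUnit_iff_ne_zero, Ne, ZMod.natCast_eq_zero_iff]
      exact (prime_dvd_tT_facts hp hd).2.2.1
    have hord : orderOf hQ.unit = 6 := by rw [← orderOf_units, hQ.unit_spec]; exact orderOf_q_mod hp hd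
    rw [← hord, ← Nat.card_zpowers]
    refine Subgroup.card_dvd_of_le ?_
    rintro _ ⟨n, rfl⟩
    refine ⟨(i n : ℤ), Units.ext ?_⟩
    show ((hQ.unit ^ (i n : ℤ) : (ZMod p)ˣ) : ZMod p) = ((qq m ^ i n : ℕ) : ZMod p)
    rw [zpow_natCast, Units.val_pow_eq_pow_val, hQ.unit_spec]
    exact (Nat.cast_pow _ _).symm
  · have h := ψ.ker.card_mul_index
    rw [Subgroup.index_ker, hker, Nat.card_congr (Subgroup.subgroupOfEquivOfLe Subgroup.le_normalizer).toEquiv] at h
    exact h.symm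

theorem normalizer_sub_T (hm : 1 ≤ m) {x : G K m} {p : ℕ} (hp : p.Prime) (hd : p ∣ tT m) (hx : orderOf x = p)
    {A₀ : Subgroup (G K m)} (hle : A₀ ≤ Subgroup.centralizer {x}) (hne : A₀ ≠ ⊥) :
    Subgroup.normalizer (A₀ : Set (G K m)) =
      Subgroup.normalizer ((Subgroup.centralizer {x} : Subgroup (G K m)) : Set (G K m)) := by
  refine le_antisymm (fun n hn => ?_) (normalizer_cyclic_le (centralizer_T_isCyclic hm hp hd hx) hle)
  obtain ⟨y, hy, hy1⟩ := (Subgroup.bot_or_exists_ne_one A₀).resolve_left hne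
  have hy' := (Subgroup.mem_normalizer_iff.1 hn y).1 hy
  refine Cfsg.Agent.Lib.PSLTwo.Sylow.mem_normalizer_of_conj_mem fun w hw => ?_
  show n * w * n⁻¹ ∈ Subgroup.centralizer {x}
  rw [← centralizer_T_eq hm hp hd hx (hle hy') (fun h => hy1 (conj_eq_one_iff.1 h)),
    Subgroup.mem_centralizer_singleton_iff, conj_mul, conj_mul]
  rw [← centralizer_T_eq hm hp hd hx (hle hy) hy1, Subgroup.mem_centralizer_singleton_iff] at hw
  rw [hw]

end Cfsg.Agent.Lib.Ree
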